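import Mathlib.GroupTheory.Sylow

set_option autoImplicit false

namespace Cfsg.Agent.Lib.Helper55

/-- If `H` contains a Sylow `p`-subgroup of `G`, every `p`-subgroup `D ≤ H` lies in a Sylow
`p`-subgroup of `G` contained in `H`. -/
theorem exists_sylow_between {G : Type*} [Group G] [Finite G] {p : ℕ} [Fact p.Prime]
    (S : Sylow p G) {H D : Subgroup G} (hS : (S : Subgroup G) ≤ H) (hD : IsPGroup p ↥D)
    (hDH : D ≤ H) : ∃ U : Sylow p G, D ≤ (U : Subgroup G) ∧ (U : Subgroup G) ≤ H := by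
  have hD' : IsPGroup p ↥(D.subgroupOf H) :=
    hD.comap_of_injective H.subtype H.subtype_injective
  obtain ⟨Q, hQ⟩ := hD'.exists_le_sylow
  have hpQ : IsPGroup p ↥((Q : Subgroup ↥H).map H.subtype) := Q.2.map H.subtype
  have hidx : ¬ p ∣ ((Q : Subgroup ↥H).map H.subtype).index := by
    rw [Subgroup.index_map_subtype]
    refine Nat.Prime.not_dvd_mul Fact.out Q.not_dvd_index ?_
    intro h
    exact S.not_dvd_index (h.trans (Subgroup.index_dvd_of_le hS))
  refine ⟨hpQ.toSylow hidx, ?_, ?_⟩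
  · intro x hx
    exact ⟨⟨x, hDH hx⟩, hQ (Subgroup.mem_subgroupOf.2 hx), rfl⟩
  · exact Subgroup.map_subtype_le _

/-- The conjugate of a Sylow subgroup, as a Sylow subgroup with explicit coercion. -/
theorem exists_sylow_conj {G : Type*} [Group G] {p : ℕ} (S : Sylow p G) (g : G) :
    ∃ U : Sylow p G, (U : Subgroup G) = (S : Subgroup G).map (MulAut.conj g).toMonoidHom :=
  ⟨MulAut.conj g • S, rfl⟩

theorem mem_map_conj {G : Type*} [Group G] {H : Subgroup G} {g x : G} :
    x ∈ H.map (MulAut.conj g).toMonoidHom ↔ g⁻¹ * x * g ∈ H := by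
  constructor
  · rintro ⟨y, hy, rfl⟩
    simpa [mul_assoc] using hy
  · intro h
    exact ⟨g⁻¹ * x * g, h, by simp [mul_assoc]⟩

end Cfsg.Agent.Lib.Helper55
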