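import Mathlib.GroupTheory.Sylow
import Mathlib.GroupTheory.Nilpotent
import Cfsg.Prelude.Def_IsolatedElements
import Cfsg.Agent.Lib.Helper55.Basic

set_option autoImplicit false

namespace Cfsg.Agent.Lib.Helper55

open scoped Pointwise

theorem orderOf_conj' {G : Type*} [Group G] (g x : G) : orderOf (g * x * g⁻¹) = orderOf x :=
  (MulAut.conj g).orderOf_eq x

theorem isPGroup_zpowers_of_orderOf {G : Type*} [Group G] {p : ℕ} {x : G}
    (hx : ∃ k : ℕ, orderOf x = p ^ k) : IsPGroup p ↥(Subgroup.zpowers x) := by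
  obtain ⟨k, hk⟩ := hx
  exact IsPGroup.of_card (n := k) (by rw [Nat.card_zpowers, hk])

/-- Sylow's theorem inside a subgroup `H`, for two `p`-elements. -/
theorem exists_conj_mem_common_pgroup {G : Type*} [Group G] [Finite G] {p : ℕ} [Fact p.Prime]
    (H : Subgroup G) {x y : G} (hxH : x ∈ H) (hyH : y ∈ H)
    (hx : ∃ k : ℕ, orderOf x = p ^ k) (hy : ∃ k : ℕ, orderOf y = p ^ k) :
    ∃ h ∈ H, ∃ R : Subgroup G, IsPGroup p ↥R ∧ R ≤ H ∧ x ∈ R ∧ h * y * h⁻¹ ∈ R := by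
  have hx' : ∃ k : ℕ, orderOf (⟨x, hxH⟩ : ↥H) = p ^ k := by
    obtain ⟨k, hk⟩ := hx
    exact ⟨k, by rw [← hk, ← Subgroup.orderOf_coe]⟩
  have hy' : ∃ k : ℕ, orderOf (⟨y, hyH⟩ : ↥H) = p ^ k := by
    obtain ⟨k, hk⟩ := hy
    exact ⟨k, by rw [← hk, ← Subgroup.orderOf_coe]⟩
  obtain ⟨P₁, hP₁⟩ := (isPGroup_zpowers_of_orderOf hx').exists_le_sylow
  obtain ⟨P₂, hP₂⟩ := (isPGroup_zpowers_of_orderOf hy').exists_le_sylow
  obtain ⟨h, hh⟩ := MulAction.exists_smul_eq ↥H P₂ P₁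
  refine ⟨h, h.2, (P₁ : Subgroup ↥H).map H.subtype, P₁.2.map _, Subgroup.map_subtype_le _, ?_, ?_⟩
  · exact ⟨⟨x, hxH⟩, hP₁ (Subgroup.mem_zpowers _), rfl⟩
  · refine ⟨h * ⟨y, hyH⟩ * h⁻¹, ?_, rfl⟩
    have h1 : (⟨y, hyH⟩ : ↥H) ∈ (P₂ : Subgroup ↥H) := hP₂ (Subgroup.mem_zpowers _)
    have h2 : MulAut.conj h • (⟨y, hyH⟩ : ↥H) ∈ MulAut.conj h • (P₂ : Subgroup ↥H) :=
      Subgroup.smul_mem_pointwise_smul _ _ _ h1
    have h3 : ((h • P₂ : Sylow p ↥H) : Subgroup ↥H) = MulAut.conj h • (P₂ : Subgroup ↥H) := rfl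
    rw [← h3, hh] at h2
    have h4 : MulAut.conj h • (⟨y, hyH⟩ : ↥H) = h * ⟨y, hyH⟩ * h⁻¹ := by
      simp [MulAut.smul_def]
    rw [h4] at h2
    exact h2

/-- An isolated element of a `p`-subgroup is central in it. -/
theorem isolated_commute_of_mem_pgroup {G : Type*} [Group G] [Finite G] {p : ℕ} [Fact p.Prime]
    {x : G} (hiso : Cfsg.IsIsolated x) {P : Subgroup G} (hP : IsPGroup p ↥P) (hx : x ∈ P) :
    ∀ y ∈ P, Commute x y := by
  have hnil : Group.IsNilpotent ↥P := hP.isNilpotent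
  have hnc : NormalizerCondition ↥P := Group.normalizerCondition_of_isNilpotent
  rw [normalizerCondition_iff_only_full_group_self_normalizing] at hnc
  have htop : Subgroup.centralizer ({(⟨x, hx⟩ : ↥P)} : Set ↥P) = ⊤ := by
    apply hnc
    apply le_antisymm _ Subgroup.le_normalizer
    intro n hn
    have h1 : (⟨x, hx⟩ : ↥P) ∈ Subgroup.centralizer ({(⟨x, hx⟩ : ↥P)} : Set ↥P) := by
      rw [Subgroup.mem_centralizer_singleton_iff]
    have h2 : n * ⟨x, hx⟩ * n⁻¹ ∈ Subgroup.centralizer ({(⟨x, hx⟩ : ↥P)} : Set ↥P) :=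
      (hn _).1 h1
    rw [Subgroup.mem_centralizer_singleton_iff] at h2
    have h3 : Commute x ((n : G) * x * (n : G)⁻¹) := (congrArg Subtype.val h2).symm
    have h4 := hiso n h3
    rw [Subgroup.mem_centralizer_singleton_iff]
    apply Subtype.ext
    show (n : G) * x = x * n
    calc (n : G) * x = ((n : G) * x * (n : G)⁻¹) * n := by group
      _ = x * n := by rw [h4]
  intro y hy
  have h1 : (⟨y, hy⟩ : ↥P) ∈ Subgroup.centralizer ({(⟨x, hx⟩ : ↥P)} : Set ↥P) := by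
    rw [htop]; trivial
  rw [Subgroup.mem_centralizer_singleton_iff] at h1
  exact (congrArg Subtype.val h1).symm

theorem isolated_conj_eq_of_mem_pgroup {G : Type*} [Group G] [Finite G] {p : ℕ} [Fact p.Prime]
    {x : G} (hiso : Cfsg.IsIsolated x) {P : Subgroup G} (hP : IsPGroup p ↥P) (hx : x ∈ P)
    {g : G} (hg : g * x * g⁻¹ ∈ P) : g * x * g⁻¹ = x :=
  hiso g (isolated_commute_of_mem_pgroup hiso hP hx _ hg)

/-- If the isolated `p`-element `x` and its conjugate `g x g⁻¹` both lie in `H`, they are conjugate in `H`. -/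
theorem isolated_exists_conj_eq {G : Type*} [Group G] [Finite G] {p : ℕ} [Fact p.Prime]
    {x : G} (hiso : Cfsg.IsIsolated x) (hx : ∃ k : ℕ, orderOf x = p ^ k) (H : Subgroup G)
    (hxH : x ∈ H) {g : G} (hg : g * x * g⁻¹ ∈ H) : ∃ h ∈ H, h * (g * x * g⁻¹) * h⁻¹ = x := by
  have hy : ∃ k : ℕ, orderOf (g * x * g⁻¹) = p ^ k := by
    obtain ⟨k, hk⟩ := hx
    exact ⟨k, by rw [← hk, orderOf_conj']⟩
  obtain ⟨h, hh, R, hR, -, hxR, hyR⟩ := exists_conj_mem_common_pgroup H hxH hg hx hy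
  refine ⟨h, hh, ?_⟩
  have h1 : (h * g) * x * (h * g)⁻¹ ∈ R := by
    have : (h * g) * x * (h * g)⁻¹ = h * (g * x * g⁻¹) * h⁻¹ := by group
    rw [this]; exact hyR
  have h2 := isolated_conj_eq_of_mem_pgroup hiso hR hxR h1
  calc h * (g * x * g⁻¹) * h⁻¹ = (h * g) * x * (h * g)⁻¹ := by group
    _ = x := h2

end Cfsg.Agent.Lib.Helper55
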