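import Cfsg.Agent.Lib.Helper15.ZJBridge
import Cfsg.Agent.Lib.Helper15.WS
import Cfsg.Agent.Lib.Helper14.Thompson
import Cfsg.Agent.Lib.Helper14.Conj
import Cfsg.Agent.Lib.Helper30.SZ
import Cfsg.Agent.Lib.Helper53.Basic
import Cfsg.Agent.S0604

set_option autoImplicit false
set_option linter.unusedSectionVars false

namespace Cfsg.Agent.Lib.Helper55

open Cfsg Subgroup
open Cfsg.Agent.Lib.Helper30 (cj)
open Cfsg.Agent.Lib.Helper15.ZJ (AE PE)

variable {G : Type*} [Group G]

/-- `Ω₁(Z(S))` -/
abbrev omZ (p : ℕ) (S : Subgroup G) : Subgroup G := omegaOne p (S ⊓ centralizer (S : Set G))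

theorem cj_omZ (p : ℕ) (g : G) (S : Subgroup G) : cj g (omZ p S) = omZ p (cj g S) := by
  show (omegaOne p _).map _ = _
  rw [Helper14.map_omegaOne_of_injective p _ _ (MulAut.conj g).injective,
    Helper14.map_inf_centralizer_of_injective _ _ (MulAut.conj g).injective]

theorem omZ_le_centralizer (p : ℕ) (S : Subgroup G) : omZ p S ≤ centralizer (S : Set G) :=
  (Helper14.omegaOne_le p _).trans inf_le_right

theorem omZ_le (p : ℕ) (S : Subgroup G) : omZ p S ≤ S :=
  (Helper14.omegaOne_le p _).trans inf_le_left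

theorem thompsonSubgroupOf_le (p : ℕ) (S : Subgroup G) : thompsonSubgroupOf p S ≤ S := by
  rw [Helper15.ZJ.thompsonSubgroupOf_eq]; exact Helper15.ZJ.sSup_AE_le p S

theorem thompsonSubgroup_eq (p : ℕ) : thompsonSubgroup p G = sSup (AE p (⊤ : Subgroup G)) := by
  unfold thompsonSubgroup
  rw [Helper15.ZJ.maxElementaryAbelianSubgroups_eq]

theorem cj_thompsonSubgroupOf (p : ℕ) (g : G) (S : Subgroup G) :
    cj g (thompsonSubgroupOf p S) = thompsonSubgroupOf p (cj g S) := by
  rw [Helper15.ZJ.thompsonSubgroupOf_eq, Helper15.ZJ.thompsonSubgroupOf_eq]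
  have h2 := Helper15.ZJ.AE_map (e := p) (T := S) (MulAut.conj g).toMonoidHom
    (MulAut.conj g).injective.injOn
  show (sSup (AE p S)).map (MulAut.conj g).toMonoidHom = sSup (AE p (S.map _))
  rw [h2, sSup_image]
  exact (Subgroup.gc_map_comap (MulAut.conj g).toMonoidHom).l_sSup

theorem normalizer_le_normalizer_thompsonSubgroupOf (p : ℕ) (S : Subgroup G) :
    normalizer (S : Set G) ≤ normalizer ((thompsonSubgroupOf p S : Subgroup G) : Set G) := by
  intro g hg
  apply Helper30.mem_normalizer_of_cj_eq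
  rw [cj_thompsonSubgroupOf, Helper30.cj_eq_of_mem_normalizer hg]

theorem thompsonSubgroupOf_eq_of_le [Finite G] {p : ℕ} {S T : Subgroup G}
    (hJT : thompsonSubgroupOf p S ≤ T) (hTS : T ≤ S) :
    thompsonSubgroupOf p T = thompsonSubgroupOf p S := by
  rw [Helper15.ZJ.thompsonSubgroupOf_eq, Helper15.ZJ.thompsonSubgroupOf_eq] at *
  rw [Helper15.WS.AE_eq_of_forall_le hTS (fun A hA => (le_sSup hA).trans hJT)]

section VG

variable [Finite G] (p : ℕ) [Fact p.Prime]

/-- The subgroup generated by all `Ω₁(Z(S))`. -/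
abbrev VG (G : Type*) [Group G] (p : ℕ) : Subgroup G :=
  ⨆ S : Sylow p G, omegaOne p ((S : Subgroup G) ⊓ centralizer ((S : Subgroup G) : Set G))

theorem cj_VG (g : G) : cj g (VG G p) = VG G p := by
  show (⨆ S : Sylow p G, omZ p (S : Subgroup G)).map _ = _
  rw [Subgroup.map_iSup]
  have h1 : ∀ S : Sylow p G, (omZ p (S : Subgroup G)).map (MulAut.conj g).toMonoidHom =
      omZ p ((MulAut.conj g • S : Sylow p G) : Subgroup G) := fun S => cj_omZ p g S
  simp_rw [h1]
  exact (MulAction.surjective (MulAut.conj g) (β := Sylow p G)).iSup_comp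
    (fun S : Sylow p G => omZ p (S : Subgroup G))

instance VG_normal : (VG G p).Normal := by
  rw [← normalizer_eq_top_iff, eq_top_iff]
  intro g _
  exact Helper30.mem_normalizer_of_cj_eq (cj_VG p g)

theorem thompsonSubgroupOf_sylow_le (S : Sylow p G) :
    thompsonSubgroupOf p (S : Subgroup G) ≤ thompsonSubgroup p G := by
  rw [Cfsg.Agent.S0604.result (G := G) (p := p)]
  exact le_iSup (fun S : Sylow p G => thompsonSubgroupOf p (S : Subgroup G)) S

/-- If `J(G)` centralizes `V` then `G = C(Ω₁(Z(S))) N(J(S))`. -/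
theorem factorization_of_le (h : thompsonSubgroup p G ≤ centralizer ((VG G p : Subgroup G) : Set G))
    (S : Sylow p G) (g : G) :
    ∃ c ∈ centralizer ((omZ p (S : Subgroup G) : Subgroup G) : Set G),
      ∃ n ∈ normalizer ((thompsonSubgroupOf p (S : Subgroup G) : Subgroup G) : Set G),
        g = c * n := by
  set C := centralizer ((VG G p : Subgroup G) : Set G) with hC
  have hCn : (⊤ : Subgroup G) ≤ normalizer (C : Set G) := by
    intro x _
    apply Helper14.mem_normalizer_of_map_conj_eq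
    rw [hC, Helper14.map_conj_centralizer]
    congr 2
    exact cj_VG p x
  have hT := (Helper53.isSyl_top_of_sylow S).inf_normal le_top hCn
  have hT' := hT.cj g
  rw [Helper14.map_conj_of_mem_normalizer (hCn (mem_top g))] at hT'
  obtain ⟨k, hk, hkT⟩ := hT.exists_conj hT'
  have hn : k⁻¹ * g ∈ normalizer (((S : Subgroup G) ⊓ C : Subgroup G) : Set G) := by
    apply Helper30.mem_normalizer_of_cj_eq
    rw [Helper30.cj_mul]
    show cj k⁻¹ (((S : Subgroup G) ⊓ C).map (MulAut.conj g).toMonoidHom) = _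
    rw [hkT]
    exact Helper30.cj_inv_cj k _
  have hJ : thompsonSubgroupOf p ((S : Subgroup G) ⊓ C) = thompsonSubgroupOf p (S : Subgroup G) :=
    thompsonSubgroupOf_eq_of_le
      (le_inf (thompsonSubgroupOf_le p _) ((thompsonSubgroupOf_sylow_le p S).trans h)) inf_le_left
  refine ⟨k, ?_, k⁻¹ * g, ?_, by group⟩
  · exact centralizer_le (le_iSup (fun S : Sylow p G => omZ p (S : Subgroup G)) S) hk
  · rw [← hJ]
    exact normalizer_le_normalizer_thompsonSubgroupOf p _ hn

/-- If `G = C(Ω₁(Z(S))) N(J(S))` for all `S` then `J(G)` centralizes `V`. -/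
theorem le_of_factorization
    (h : ∀ (S : Sylow p G) (g : G),
      ∃ c ∈ centralizer ((omZ p (S : Subgroup G) : Subgroup G) : Set G),
      ∃ n ∈ normalizer ((thompsonSubgroupOf p (S : Subgroup G) : Subgroup G) : Set G),
        g = c * n) :
    thompsonSubgroup p G ≤ centralizer ((VG G p : Subgroup G) : Set G) := by
  rw [Cfsg.Agent.S0604.result (G := G) (p := p)]
  refine iSup_le fun S => ?_
  rw [le_centralizer_iff]
  refine iSup_le fun S' => ?_
  obtain ⟨g, hg⟩ := MulAction.exists_smul_eq G S S'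
  have hS' : (S' : Subgroup G) = cj g (S : Subgroup G) := by rw [← hg]; rfl
  obtain ⟨c, hc, n, hn, hgcn⟩ := h S g⁻¹
  have hg' : g = n⁻¹ * c⁻¹ := by
    calc g = (g⁻¹)⁻¹ := by group
      _ = _ := by rw [hgcn]; group
  show omZ p (S' : Subgroup G) ≤ _
  rw [hS', ← cj_omZ, hg', Helper30.cj_mul,
    Helper30.cj_eq_of_mem_normalizer (centralizer_le_normalizer _ (inv_mem hc))]
  have h1 : omZ p (S : Subgroup G) ≤
      centralizer ((thompsonSubgroupOf p (S : Subgroup G) : Subgroup G) : Set G) :=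
    (omZ_le_centralizer p _).trans (centralizer_le (thompsonSubgroupOf_le p _))
  have h2 := Helper30.cj_mono n⁻¹ h1
  have h3 : cj n⁻¹ (centralizer ((thompsonSubgroupOf p (S : Subgroup G) : Subgroup G) : Set G)) =
      centralizer ((thompsonSubgroupOf p (S : Subgroup G) : Subgroup G) : Set G) := by
    show (centralizer _).map _ = _
    rw [Helper14.map_conj_centralizer, Helper14.map_conj_of_mem_normalizer (inv_mem hn)]
  rwa [h3] at h2

end VG

end Cfsg.Agent.Lib.Helper55
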