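import Mathlib
import Cfsg.Agent.Lib.Helper30.SZ
import Cfsg.Agent.Lib.Helper30.Coprime
import Cfsg.Agent.Lib.Helper28.Cores
import Cfsg.Agent.S0538

set_option autoImplicit false

namespace Cfsg.Agent.Lib.Helper55

open Subgroup
open Cfsg.Agent.Lib.Helper30 (cj)

variable {G : Type*} [Group G]

/-- Relative subnormality of subgroups of `G`. -/
inductive SN : Subgroup G → Subgroup G → Prop
  | refl (E : Subgroup G) : SN E E
  | step (X Y E : Subgroup G) : X ≤ Y → Y ≤ normalizer (X : Set G) → SN Y E → SN X E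

namespace SN

theorem le {X E : Subgroup G} (h : SN X E) : X ≤ E := by
  induction h with
  | refl => exact le_rfl
  | step X Y E hXY _ _ ih => exact hXY.trans ih

theorem of_normal {X E : Subgroup G} (hXE : X ≤ E) (hN : E ≤ normalizer (X : Set G)) : SN X E :=
  SN.step X E E hXE hN (SN.refl E)

theorem trans {X Y E : Subgroup G} (h₁ : SN X Y) (h₂ : SN Y E) : SN X E := by
  induction h₁ with
  | refl => exact h₂
  | step X Z Y hXZ hN _ ih => exact SN.step X Z E hXZ hN (ih h₂)

theorem inf {X E : Subgroup G} (h : SN X E) (F : Subgroup G) : SN (X ⊓ F) (E ⊓ F) := by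
  induction h with
  | refl => exact SN.refl _
  | step X Y E hXY hN _ ih =>
    refine SN.step _ (Y ⊓ F) _ (inf_le_inf_right F hXY) ?_ ih
    exact Helper30.le_normalizer_inf (inf_le_left.trans hN) (inf_le_right.trans le_normalizer)

theorem mono {X E F : Subgroup G} (h : SN X E) (hXF : X ≤ F) (hFE : F ≤ E) : SN X F := by
  have := h.inf F
  rwa [inf_of_le_left hXF, inf_of_le_right hFE] at this

theorem conj {X E : Subgroup G} (h : SN X E) (g : G) : SN (cj g X) (cj g E) := by
  induction h with
  | refl => exact SN.refl _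
  | step X Y E hXY hN _ ih =>
    refine SN.step _ (cj g Y) _ (Helper30.cj_mono g hXY) ?_ ih
    rintro _ ⟨y, hy, rfl⟩
    apply Helper30.mem_normalizer_of_cj_eq
    show cj (g * y * g⁻¹) (cj g X) = cj g X
    rw [← Helper30.cj_mul]
    have : g * y * g⁻¹ * g = g * y := by group
    rw [this, Helper30.cj_mul, Helper30.cj_eq_of_mem_normalizer (hN hy)]

theorem conj_mem {X E : Subgroup G} (h : SN X E) {g : G} (hg : g ∈ E) : SN (cj g X) E := by
  have := h.conj g
  rwa [Helper30.cj_eq_of_mem hg] at this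

theorem exists_normal {X E : Subgroup G} (h : SN X E) (hne : X ≠ E) :
    ∃ N, X ≤ N ∧ N < E ∧ E ≤ normalizer (N : Set G) := by
  induction h with
  | refl => exact absurd rfl hne
  | step X Y E hXY hN hYE ih =>
    by_cases hY : Y = E
    · subst hY
      exact ⟨X, le_rfl, lt_of_le_of_ne hXY hne, hN⟩
    · obtain ⟨N, h1, h2, h3⟩ := ih hY
      exact ⟨N, hXY.trans h1, h2, h3⟩

theorem isSubnormal {X E : Subgroup G} (h : SN X E) : (X.subgroupOf E).IsSubnormal := by
  induction h with
  | refl E => rw [subgroupOf_self]; exact IsSubnormal.top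
  | step X Y E hXY hN hYE ih =>
    have hle : X.subgroupOf E ≤ Y.subgroupOf E := fun x hx => hXY hx
    refine IsSubnormal.step _ _ hle ih ((normal_subgroupOf_iff_le_normalizer hle).2 ?_)
    intro y hy
    rw [mem_normalizer_iff]
    intro x
    exact mem_normalizer_iff.1 (hN hy) x

theorem of_isSubnormal' {E : Subgroup G} {X : Subgroup ↥E} (h : X.IsSubnormal) :
    SN (X.map E.subtype) E := by
  induction h with
  | top =>
    rw [← MonoidHom.range_eq_map, range_subtype]
    exact SN.refl E
  | step H K hHK _ hN ih =>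
    refine SN.step _ _ _ (map_mono hHK) ?_ ih
    have hN' := (normal_subgroupOf_iff_le_normalizer hHK).1 hN
    rintro _ ⟨k, hk, rfl⟩
    rw [mem_normalizer_iff]
    intro x
    constructor
    · rintro ⟨y, hy, rfl⟩
      exact ⟨k * y * k⁻¹, (mem_normalizer_iff.1 (hN' hk) y).1 hy, rfl⟩
    · rintro ⟨y, hy, hyx⟩
      refine ⟨k⁻¹ * y * k, ?_, ?_⟩
      · have := (mem_normalizer_iff.1 (inv_mem (hN' hk)) y).1 hy
        simpa using this
      · have h1 : (E.subtype y : G) = E.subtype k * x * (E.subtype k)⁻¹ := hyx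
        show (E.subtype k)⁻¹ * (E.subtype y) * (E.subtype k) = x
        rw [h1]; group

theorem of_isSubnormal {X E : Subgroup G} (hXE : X ≤ E) (h : (X.subgroupOf E).IsSubnormal) :
    SN X E := by
  have := of_isSubnormal' h
  rwa [map_subgroupOf_eq_of_le hXE] at this

theorem sup [Finite G] {X Y E : Subgroup G} (hX : SN X E) (hY : SN Y E) : SN (X ⊔ Y) E := by
  have h := Cfsg.Agent.S0538.result _ _ hX.isSubnormal hY.isSubnormal
  have := of_isSubnormal' h
  rwa [Subgroup.map_sup, map_subgroupOf_eq_of_le hX.le, map_subgroupOf_eq_of_le hY.le] at this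

theorem le_pCore [Finite G] {p : ℕ} {X E : Subgroup G} (h : SN X E) (hp : IsPGroup p ↥X) :
    X ≤ (Cfsg.pCore p ↥E).map E.subtype := by
  have h1 : IsPGroup p ↥(X.subgroupOf E) :=
    hp.of_equiv (subgroupOfEquivOfLe h.le).symm
  have := Subgroup.map_mono (f := E.subtype) (Helper28.subnormal_le_pCore h.isSubnormal h1)
  rwa [map_subgroupOf_eq_of_le h.le] at this

end SN

end Cfsg.Agent.Lib.Helper55
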