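import Cfsg.Agent.Lib.Helper55.Model
import Cfsg.Agent.Lib.Helper55.TF
import Cfsg.Agent.S0602
import Cfsg.Agent.S0606

set_option autoImplicit false
set_option linter.unusedSectionVars false

namespace Cfsg.Agent.Lib.Helper55

open Cfsg Subgroup
open scoped commutatorElement Pointwise

variable {G : Type*} [Group G]

theorem centralizer_iSup_coe {ι : Sort*} (X : ι → Subgroup G) :
    centralizer (⨆ i, (X i : Set G)) = centralizer ((⨆ i, X i : Subgroup G) : Set G) := by
  apply le_antisymm
  · intro x hx
    have h1 : (⨆ i, X i) ≤ centralizer ((zpowers x : Subgroup G) : Set G) := by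
      refine iSup_le fun i => ?_
      rw [le_centralizer_iff, zpowers_le]
      refine centralizer_le ?_ hx
      exact le_iSup (fun i => (X i : Set G)) i
    rw [le_centralizer_iff, zpowers_le] at h1
    exact h1
  · apply centralizer_le
    refine iSup_le fun i => ?_
    exact SetLike.coe_subset_coe.2 (le_iSup X i)

instance thompsonSubgroup_normal' [Finite G] (p : ℕ) [Fact p.Prime] :
    (thompsonSubgroup p G).Normal :=
  have := (Cfsg.Agent.S0602.result (G := G) (p := p)).1
  normal_of_characteristic _

section

variable (V : Subgroup G) [V.Normal]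

theorem hS3_model [Finite G] {p : ℕ} [Fact p.Prime] (hV : IsElementaryAbelian p V) :
    (thompsonSubgroup p G).map (rho V) =
      ⨆ A : {A : Subgroup (Hol V) // A ≤ (thompsonSubgroup p G).map (rho V) ∧
        IsBestOffenderOn p (VV V) A}, (A : Subgroup (Hol V)) := by
  apply le_antisymm
  · rw [map_le_iff_le_comap]
    apply sSup_le
    intro A hA
    rw [← map_le_iff_le_comap]
    exact le_iSup (fun A : {A : Subgroup (Hol V) // A ≤ (thompsonSubgroup p G).map (rho V) ∧
        IsBestOffenderOn p (VV V) A} => (A : Subgroup (Hol V)))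
      ⟨A.map (rho V), map_mono (le_sSup hA),
        bestOffender_map V (Cfsg.Agent.S0606.result V hV A hA)⟩
  · exact iSup_le fun A => A.2.1

theorem nonempty_quotient_equiv {E' : Subgroup (Hol V)} (hE' : E' ≤ (rho V).range)
    (hn : ((centralizer (V : Set G)).subgroupOf (E'.comap (rho V))).Normal) :
    Nonempty ((↥(E'.comap (rho V)) ⧸ (centralizer (V : Set G)).subgroupOf (E'.comap (rho V)))
      ≃* ↥E') := by
  set f : ↥(E'.comap (rho V)) →* ↥E' := (rho V).subgroupComap E' with hf
  have hs : Function.Surjective f := by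
    rintro ⟨y, hy⟩
    obtain ⟨x, rfl⟩ := hE' hy
    exact ⟨⟨x, hy⟩, rfl⟩
  have hk : (centralizer (V : Set G)).subgroupOf (E'.comap (rho V)) = f.ker := by
    ext x
    rw [mem_subgroupOf, ← ker_rho, MonoidHom.mem_ker, MonoidHom.mem_ker]
    constructor
    · intro h
      exact Subtype.ext h
    · intro h
      exact congrArg Subtype.val h
  exact ⟨(QuotientGroup.quotientMulEquivOfEq hk).trans
    (QuotientGroup.quotientKerEquivOfSurjective f hs)⟩

theorem comap_le_sup {H : Subgroup G} {E' : Subgroup (Hol V)} (hE' : E' ≤ H.map (rho V)) :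
    E'.comap (rho V) ≤ H ⊔ centralizer (V : Set G) := by
  intro x hx
  obtain ⟨j, hj, hjx⟩ := hE' hx
  have : x = j * (j⁻¹ * x) := by group
  rw [this]
  refine mul_mem (le_sup_left (a := H) hj) (le_sup_right (a := H) ?_)
  rw [← ker_rho, MonoidHom.mem_ker, map_mul, map_inv, hjx, inv_mul_cancel]

theorem sup_le_normalizer_comap {H : Subgroup G} {E' : Subgroup (Hol V)}
    (hE' : H.map (rho V) ≤ normalizer (E' : Set (Hol V))) :
    H ⊔ centralizer (V : Set G) ≤ normalizer ((E'.comap (rho V) : Subgroup G) : Set G) := by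
  refine sup_le ?_ ?_
  · exact (map_le_iff_le_comap.1 hE').trans (le_normalizer_comap _)
  · rw [← ker_rho]
    exact (ker_le_comap _ _).trans le_normalizer

end

end Cfsg.Agent.Lib.Helper55
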