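import Cfsg.Agent.Lib.Helper55.FF11
import Cfsg.Agent.Lib.Helper55.ModelJ
import Cfsg.Agent.Lib.Helper53.JCDefs
import Cfsg.Agent.Lib.Helper53.PRed2
import Cfsg.Agent.Lib.Helper31.PSolv

set_option autoImplicit false
set_option linter.unusedSectionVars false

/-! The failure-of-factorization input `FFa` of the J(T)-component ladder. -/

namespace Cfsg.Agent.Lib.Helper55

open Cfsg Subgroup
open scoped commutatorElement Pointwise

variable {G : Type*} [Group G]

namespace FFS

variable [Finite G] {p : ℕ} [hp : Fact p.Prime] {V H K : Subgroup G}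

theorem MinOff.card_R (h : FFS p V H K) {A : Subgroup G} (hA : MinOff p V H A) :
    Nat.card ↥⁅K, A⁆ = p ^ 2 - 1 := by
  obtain ⟨x, P, hE, -, -⟩ := MinOff.exists_pair h hA
  rw [← P.card_D_inf_K]
  congr 2
  apply le_antisymm
  · refine le_inf ?_ (MinOff.R_le_K h hA)
    rw [← hE]
    exact (le_sup_left : ⁅K, A⁆ ≤ ⁅K, A⁆ ⊔ A)
  · exact P.D_inf_K_le_R

theorem MinOff.commutator_H_eq (h : FFS p V H K)
    (hS3 : H = ⨆ A : {A : Subgroup G // A ≤ H ∧ IsBestOffenderOn p V A}, (A : Subgroup G))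
    {A : Subgroup G} (hA : MinOff p V H A) : ⁅H, A⁆ = ⁅K, A⁆ := by
  apply le_antisymm _ (commutator_mono h.hKH le_rfl)
  rw [commutator_le]
  intro g hg a ha
  have hg' := MinOff.H_le_sup hS3 h hA hg
  have hN : H ⊓ centralizer ((WW V K A : Subgroup G) : Set G) ≤
      normalizer ((EE K A : Subgroup G) : Set G) := inf_le_left.trans (MinOff.H_le_NE hS3 h hA)
  obtain ⟨e, he, c, hc, rfl⟩ := (Helper14.mem_sup_of_le_normalizer hN).1 hg'
  have hcomm := MinOff.comm_eq_bot hS3 h hA
  rw [commutator_eq_bot_iff_le_centralizer] at hcomm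
  have hca : c * a = a * c :=
    (mem_centralizer_iff.1 (hcomm ((le_sup_right : A ≤ EE K A) ha)) c hc)
  obtain ⟨r, hr, a', ha', rfl⟩ :=
    (Helper14.mem_sup_of_le_normalizer (Helper30.le_normalizer_commutator (MinOff.hAK h hA)
      le_normalizer)).1 he
  have haa : a' * a = a * a' := Helper14.IsElementaryAbelian.comm (MinOff.elemAb h hA) ha' ha
  have h1 : ⁅r * a' * c, a⁆ = r * (a * r⁻¹ * a⁻¹) := by
    rw [commutatorElement_def]
    calc r * a' * c * a * (r * a' * c)⁻¹ * a⁻¹ = r * a' * (c * a) * c⁻¹ * a'⁻¹ * r⁻¹ * a⁻¹ := by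
          group
      _ = r * (a' * a) * a'⁻¹ * r⁻¹ * a⁻¹ := by rw [hca]; group
      _ = _ := by rw [haa]; group
  rw [h1]
  have hNR : a ∈ normalizer ((⁅K, A⁆ : Subgroup G) : Set G) :=
    Helper30.le_normalizer_commutator (MinOff.hAK h hA) le_normalizer ha
  exact mul_mem hr ((mem_normalizer_iff.1 hNR _).1 (inv_mem hr))

end FFS

section Abs

variable [Finite G] (V : Subgroup G) [V.Normal]

theorem relIndex_eq_card_model (J : Subgroup G) (a : G) :
    (centralizer (V : Set G)).relIndex (⁅J, zpowers a⁆ ⊔ centralizer (V : Set G)) =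
      Nat.card ↥⁅J.map (rho V), zpowers (rho V a)⁆ := by
  have h1 : ((rho V).ker).map (rho V) = ⊥ := (Subgroup.map_eq_bot_iff _).2 le_rfl
  rw [← ker_rho V, relIndex_ker, Subgroup.map_sup, Subgroup.map_commutator, MonoidHom.map_zpowers,
    h1, sup_bot_eq]

theorem ffa_abs (hsep : IsPSolvable 2 G) (hV : IsElementaryAbelian 2 V) (hD : NoPCore 2 V)
    {A : Subgroup G} (hA : A ∈ maxElementaryAbelianSubgroups 2 G) :
    A ≤ closure {a : G | a ∈ A ∧
      ((centralizer (V : Set G)).relIndex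
          (⁅thompsonSubgroup 2 G, zpowers a⁆ ⊔ centralizer (V : Set G)) = 1 ∨
       (centralizer (V : Set G)).relIndex
          (⁅thompsonSubgroup 2 G, zpowers a⁆ ⊔ centralizer (V : Set G)) = 3)} := by
  have : Fact (Nat.Prime 2) := ⟨Nat.prime_two⟩
  have F := ffs_model V hsep hV hD (thompsonSubgroup 2 G)
  have hS3 := hS3_model V hV
  set Sg : Set G := {a : G | a ∈ A ∧
      ((centralizer (V : Set G)).relIndex
          (⁅thompsonSubgroup 2 G, zpowers a⁆ ⊔ centralizer (V : Set G)) = 1 ∨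
       (centralizer (V : Set G)).relIndex
          (⁅thompsonSubgroup 2 G, zpowers a⁆ ⊔ centralizer (V : Set G)) = 3)} with hSg
  have hAJ : A ≤ thompsonSubgroup 2 G := le_sSup hA
  have hbo : IsBestOffenderOn 2 (VV V) (A.map (rho V)) :=
    bestOffender_map V (Cfsg.Agent.S0606.result V hV A hA)
  have h1 := F.le_iSup_minOff _ (A.map (rho V)) rfl (map_mono hAJ) hbo
  have h2 : A.map (rho V) ≤ (closure Sg).map (rho V) := by
    refine h1.trans (iSup₂_le ?_)
    rintro T ⟨hTA, hT⟩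
    obtain ⟨t, rfl, -⟩ := FFS.MinOff.exists_gen hT
    obtain ⟨a, ha, rfl⟩ := hTA (mem_zpowers t)
    rw [zpowers_le]
    refine ⟨a, subset_closure ⟨ha, Or.inr ?_⟩, rfl⟩
    rw [relIndex_eq_card_model, FFS.MinOff.commutator_H_eq F hS3 hT, FFS.MinOff.card_R F hT]
    norm_num
  have hSA : closure Sg ≤ A := (closure_le _).2 fun a ha => ha.1
  intro a ha
  obtain ⟨s, hs, hsa⟩ := h2 ⟨a, ha, rfl⟩
  have h3 : s⁻¹ * a ∈ Sg := by
    refine ⟨mul_mem (inv_mem (hSA hs)) ha, Or.inl ?_⟩
    rw [relIndex_eq_card_model, map_mul, map_inv, hsa, inv_mul_cancel, zpowers_one_eq_bot,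
      commutator_bot_right, card_bot]
  have : a = s * (s⁻¹ * a) := by group
  rw [this]
  exact mul_mem hs (subset_closure h3)

end Abs

section Transport

open Cfsg.Agent.Lib.Helper53.JC
open Cfsg.Agent.Lib.Helper15.ZJ (AE PE)

variable [Finite G]

theorem AE_le_of_isSyl {p : ℕ} [Fact p.Prime] {T L A : Subgroup G} (hT : Helper53.IsSyl p T L)
    (hA : A ∈ AE p T) : A ∈ AE p L := by
  refine ⟨hA.1.trans hT.le, hA.2.1, ?_⟩
  intro B hBL hB
  have hBp : IsPGroup p ↥B :=
    Helper53.elemAb_isPGroup (Helper15.ZJ.PE_iff_isElementaryAbelian.1 hB)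
  obtain ⟨P, hP, hBP⟩ := Helper53.exists_isSyl_ge hBL hBp
  obtain ⟨k, hk, hkT⟩ := hP.exists_conj hT
  have h1 : B.map (MulAut.conj k).toMonoidHom ≤ T := hkT ▸ Helper53.cj_mono k hBP
  have h2 : PE p (B.map (MulAut.conj k).toMonoidHom) :=
    Helper15.ZJ.PE_iff_isElementaryAbelian.2
      (Helper14.IsElementaryAbelian.map (Helper15.ZJ.PE_iff_isElementaryAbelian.1 hB) _)
  have := hA.2.2 _ h1 h2
  rwa [Helper53.card_cj] at this

theorem centralizer_subgroupOf_eq {L V : Subgroup G} (hVL : V ≤ L) :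
    centralizer ((V.subgroupOf L : Subgroup ↥L) : Set ↥L) = (centralizer (V : Set G)).subgroupOf L := by
  ext x
  rw [mem_centralizer_iff, mem_subgroupOf, mem_centralizer_iff]
  constructor
  · intro h v hv
    exact congrArg Subtype.val (h ⟨v, hVL hv⟩ hv)
  · intro h v hv
    exact Subtype.ext (h v hv)

theorem ffa (hc : Core1 G) : FFa G := by
  intro T L A hT hL hA
  obtain ⟨hsolv, -, -, -, -, hD⟩ := hc T L hT hL
  have : Fact (Nat.Prime 2) := ⟨Nat.prime_two⟩
  set V := VVL L with hV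
  have hVQ : V ≤ pCoreOf 2 L := (Helper14.omegaOne_le 2 _).trans inf_le_left
  have hVL : V ≤ L := hVQ.trans (Helper53.pCoreOf_le 2 L)
  have hLV : L ≤ normalizer (V : Set G) := by
    refine (Helper53.le_normalizer_pCoreOf 2 L).trans ?_
    refine le_trans ?_ (Helper53.normalizer_le_normalizer_omegaOne 2 _)
    exact Helper30.le_normalizer_inf le_rfl (normalizer_le_normalizer_centralizer' _)
  have hVn : (V.subgroupOf L).Normal := (normal_subgroupOf_iff_le_normalizer hVL).2 hLV
  have hVe : IsElementaryAbelian 2 V := by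
    apply Helper53.omegaOne_elemAb
    exact inf_le_right.trans (centralizer_le inf_le_left)
  have hVe' : IsElementaryAbelian 2 (V.subgroupOf L) :=
    Helper14.IsElementaryAbelian.comap_of_injective hVe _ L.subtype_injective
  have hsep : IsPSolvable 2 ↥L := Helper31.isPSolvable_of_isSolvable 2 ↥L
  have hCC : (centralizer ((V.subgroupOf L : Subgroup ↥L) : Set ↥L)).map L.subtype = CCL L := by
    rw [centralizer_subgroupOf_eq hVL, subgroupOf_map_subtype, inf_comm]
  have hNP : NoPCore 2 (V.subgroupOf L) := by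
    intro D hDn hCD ⟨k, hk⟩
    have h1 := hD (D.map L.subtype) (map_subtype_le D) (le_normalizer_map_subtype D)
      (hCC ▸ map_mono hCD) ⟨k, by
        rw [← hCC, relIndex_map_map_of_injective _ _ L.subtype_injective]; exact hk⟩
    rw [← hCC] at h1
    exact map_injective L.subtype_injective h1
  have hTL : Helper53.IsSyl 2 T L := by
    rw [Helper53.isSyl_iff_relIndex]
    refine ⟨hL.1.1, hL.1.2.1, ?_⟩
    exact Nat.odd_iff.1 hL.1.2.2 |> fun h => by omega
  have hAL : A ∈ AE 2 L := AE_le_of_isSyl hTL hA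
  rw [Helper15.ZJ.AE_subtype] at hAL
  obtain ⟨A', hA', rfl⟩ := hAL
  rw [← Helper15.ZJ.maxElementaryAbelianSubgroups_eq] at hA'
  have key := ffa_abs (V.subgroupOf L) hsep hVe' hNP hA'
  refine (map_mono key).trans ?_
  rw [MonoidHom.map_closure, closure_le]
  rintro _ ⟨a, ⟨haA, ha⟩, rfl⟩
  apply Subgroup.subset_closure
  refine ⟨⟨a, haA, rfl⟩, ?_⟩
  have h2 : (CCL L).relIndex (⁅HHL L, zpowers (L.subtype a)⁆ ⊔ CCL L) =
      (centralizer ((V.subgroupOf L : Subgroup ↥L) : Set ↥L)).relIndex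
        (⁅thompsonSubgroup 2 ↥L, zpowers a⁆ ⊔
          centralizer ((V.subgroupOf L : Subgroup ↥L) : Set ↥L)) := by
    rw [← relIndex_map_map_of_injective _ _ L.subtype_injective, Subgroup.map_sup,
      Subgroup.map_commutator, MonoidHom.map_zpowers, hCC]
    rfl
  unfold Helper53.JC.Pure
  rw [h2]
  exact ha

end Transport

end Cfsg.Agent.Lib.Helper55
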