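import Mathlib
import Cfsg.Agent.Lib.Helper85.SL2RankOne

set_option autoImplicit false

namespace Cfsg.Agent.Lib.Helper55

open Matrix Subgroup
open Cfsg.Agent.Lib.Helper85 (SL2.lo SL2.up)

section Act

variable (p : ℕ)

/-- The natural module of `SL₂(p)`, written multiplicatively. -/
abbrev M2 := Multiplicative (Fin 2 → ZMod p)

theorem sl_inv_mulVec (g : Matrix.SpecialLinearGroup (Fin 2) (ZMod p)) (v : Fin 2 → ZMod p) :
    ((g⁻¹ : Matrix.SpecialLinearGroup (Fin 2) (ZMod p)) : Matrix (Fin 2) (Fin 2) (ZMod p)) *ᵥ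
      ((g : Matrix (Fin 2) (Fin 2) (ZMod p)) *ᵥ v) = v := by
  rw [mulVec_mulVec, ← Matrix.SpecialLinearGroup.coe_mul, inv_mul_cancel, Matrix.SpecialLinearGroup.coe_one,
    one_mulVec]

theorem sl_mulVec_inv (g : Matrix.SpecialLinearGroup (Fin 2) (ZMod p)) (v : Fin 2 → ZMod p) :
    (g : Matrix (Fin 2) (Fin 2) (ZMod p)) *ᵥ
      (((g⁻¹ : Matrix.SpecialLinearGroup (Fin 2) (ZMod p)) : Matrix (Fin 2) (Fin 2) (ZMod p)) *ᵥ v) = v := by
  rw [mulVec_mulVec, ← Matrix.SpecialLinearGroup.coe_mul, mul_inv_cancel, Matrix.SpecialLinearGroup.coe_one,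
    one_mulVec]

/-- The natural action of `SL₂(p)`. -/
def slAct : Matrix.SpecialLinearGroup (Fin 2) (ZMod p) →* MulAut (M2 p) where
  toFun g :=
    { toFun := fun v => Multiplicative.ofAdd
        ((g : Matrix (Fin 2) (Fin 2) (ZMod p)) *ᵥ Multiplicative.toAdd v)
      invFun := fun v => Multiplicative.ofAdd
        (((g⁻¹ : Matrix.SpecialLinearGroup (Fin 2) (ZMod p)) : Matrix (Fin 2) (Fin 2) (ZMod p)) *ᵥ
          Multiplicative.toAdd v)
      left_inv := by
        intro v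
        exact congrArg Multiplicative.ofAdd (sl_inv_mulVec p g (Multiplicative.toAdd v))
      right_inv := by
        intro v
        exact congrArg Multiplicative.ofAdd (sl_mulVec_inv p g (Multiplicative.toAdd v))
      map_mul' := by
        intro v w
        simp only [toAdd_mul, mulVec_add, ofAdd_add] }
  map_one' := by
    apply MulEquiv.ext
    intro v
    show Multiplicative.ofAdd (((1 : Matrix.SpecialLinearGroup (Fin 2) (ZMod p)) :
      Matrix (Fin 2) (Fin 2) (ZMod p)) *ᵥ Multiplicative.toAdd v) = v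
    rw [Matrix.SpecialLinearGroup.coe_one, one_mulVec]
    rfl
  map_mul' := by
    intro g h
    apply MulEquiv.ext
    intro v
    show Multiplicative.ofAdd (((g * h : Matrix.SpecialLinearGroup (Fin 2) (ZMod p)) :
      Matrix (Fin 2) (Fin 2) (ZMod p)) *ᵥ Multiplicative.toAdd v) =
      Multiplicative.ofAdd ((g : Matrix (Fin 2) (Fin 2) (ZMod p)) *ᵥ
        ((h : Matrix (Fin 2) (Fin 2) (ZMod p)) *ᵥ Multiplicative.toAdd v))
    rw [Matrix.SpecialLinearGroup.coe_mul, mulVec_mulVec]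

theorem slAct_apply (g : Matrix.SpecialLinearGroup (Fin 2) (ZMod p)) (v : M2 p) :
    slAct p g v = Multiplicative.ofAdd
      ((g : Matrix (Fin 2) (Fin 2) (ZMod p)) *ᵥ Multiplicative.toAdd v) := rfl

theorem slAct_injective : Function.Injective (slAct p) := by
  rw [injective_iff_map_eq_one]
  intro g hg
  apply Subtype.ext
  rw [Matrix.ext_iff_mulVec]
  intro v
  have := DFunLike.congr_fun hg (Multiplicative.ofAdd v)
  rw [slAct_apply] at this
  simpa using congrArg Multiplicative.toAdd this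

end Act

section Pow

variable {p : ℕ} [hp : Fact p.Prime] {G : Type*} [Group G]

theorem pow_val_add {e : G} (he : e ^ p = 1) (x y : ZMod p) :
    e ^ (x + y).val = e ^ x.val * e ^ y.val := by
  rw [ZMod.val_add, ← pow_add, ← pow_eq_pow_mod _ he]

theorem pow_val_natCast_mul {e : G} (he : e ^ p = 1) (n : ℕ) (y : ZMod p) :
    e ^ ((n : ZMod p) * y).val = (e ^ n) ^ y.val := by
  rw [ZMod.val_mul, ZMod.val_natCast, ← pow_mul, ← pow_eq_pow_mod _ he,
    pow_eq_pow_mod (n * y.val) he, pow_eq_pow_mod (n % p * y.val) he, Nat.mod_mul_mod]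

end Pow

section Main

variable {p : ℕ} [hp : Fact p.Prime] {G : Type*} [Group G]

/-- Coordinates on an elementary abelian group generated by two elements. -/
def coordHom (W : Subgroup G) (hWc : ∀ x ∈ W, ∀ y ∈ W, x * y = y * x) (hWp : ∀ x ∈ W, x ^ p = 1)
    (e₁ e₂ : G) (he₁ : e₁ ∈ W) (he₂ : e₂ ∈ W) : M2 p →* ↥W where
  toFun v := ⟨e₁ ^ (Multiplicative.toAdd v 0).val * e₂ ^ (Multiplicative.toAdd v 1).val,
    W.mul_mem (W.pow_mem he₁ _) (W.pow_mem he₂ _)⟩
  map_one' := by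
    apply Subtype.ext
    simp
  map_mul' := by
    intro v w
    apply Subtype.ext
    simp only [toAdd_mul, Pi.add_apply, Subgroup.coe_mul]
    rw [pow_val_add (hWp _ he₁), pow_val_add (hWp _ he₂)]
    have c := hWc _ (W.pow_mem he₁ (Multiplicative.toAdd w 0).val) _
      (W.pow_mem he₂ (Multiplicative.toAdd v 1).val)
    calc _ = e₁ ^ (Multiplicative.toAdd v 0).val * (e₁ ^ (Multiplicative.toAdd w 0).val *
          e₂ ^ (Multiplicative.toAdd v 1).val) * e₂ ^ (Multiplicative.toAdd w 1).val := by group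
      _ = _ := by rw [c]; group

theorem coordHom_bijective [Finite G] (W : Subgroup G) (hWc : ∀ x ∈ W, ∀ y ∈ W, x * y = y * x)
    (hWp : ∀ x ∈ W, x ^ p = 1) (e₁ e₂ : G) (he₁ : e₁ ∈ W) (he₂ : e₂ ∈ W)
    (hcard : Nat.card ↥W = p ^ 2) (hgen : zpowers e₁ ⊔ zpowers e₂ = W) :
    Function.Bijective (coordHom W hWc hWp e₁ e₂ he₁ he₂) := by
  have hsurj : Function.Surjective (coordHom W hWc hWp e₁ e₂ he₁ he₂) := by
    rw [← MonoidHom.range_eq_top, eq_top_iff]
    have h1 : W ≤ (coordHom W hWc hWp e₁ e₂ he₁ he₂).range.map W.subtype := by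
      refine le_trans hgen.ge ?_
      rw [sup_le_iff, zpowers_le, zpowers_le]
      constructor
      · refine ⟨_, ⟨Multiplicative.ofAdd ![1, 0], rfl⟩, ?_⟩
        simp [coordHom, ZMod.val_one]
      · refine ⟨_, ⟨Multiplicative.ofAdd ![0, 1], rfl⟩, ?_⟩
        simp [coordHom, ZMod.val_one]
    intro w _
    obtain ⟨w', hw', hw''⟩ := h1 w.2
    have : w' = w := Subtype.ext hw''
    exact this ▸ hw'
  refine (Nat.bijective_iff_surjective_and_card _).2 ⟨hsurj, ?_⟩
  rw [hcard]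
  show Nat.card (Fin 2 → ZMod p) = p ^ 2
  simp [Nat.card_eq_fintype_card, ZMod.card]

theorem zpowers_up {t : ZMod p} (ht : t ≠ 0) :
    zpowers (SL2.up t) = Cfsg.upperUnipotentSL2 (ZMod p) := by
  apply le_antisymm
  · rw [zpowers_le]; exact Helper85.SL2.up_mem t
  · intro g hg
    obtain ⟨s, rfl⟩ := Helper85.SL2.mem_upper_iff.1 hg
    have hpow : ∀ n : ℕ, SL2.up t ^ n = SL2.up ((n : ZMod p) * t) := by
      intro n
      induction n with
      | zero => simp [Helper85.SL2.up_zero]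
      | succ n ih => rw [pow_succ, ih, Helper85.SL2.up_add]; congr 1; push_cast; ring
    have : s = (((s / t).val : ℕ) : ZMod p) * t := by
      rw [ZMod.natCast_zmod_val]; field_simp
    rw [this, ← hpow]
    exact pow_mem (mem_zpowers _) _

theorem zpowers_lo {t : ZMod p} (ht : t ≠ 0) :
    zpowers (SL2.lo t) = Cfsg.lowerUnipotentSL2 (ZMod p) := by
  apply le_antisymm
  · rw [zpowers_le]; exact Helper85.SL2.lo_mem t
  · intro g hg
    obtain ⟨s, rfl⟩ := Helper85.SL2.mem_lower_iff.1 hg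
    have hpow : ∀ n : ℕ, SL2.lo t ^ n = SL2.lo ((n : ZMod p) * t) := by
      intro n
      induction n with
      | zero => simp [Helper85.SL2.lo_zero]
      | succ n ih => rw [pow_succ, ih, Helper85.SL2.lo_add]; congr 1; push_cast; ring
    have : s = (((s / t).val : ℕ) : ZMod p) * t := by
      rw [ZMod.natCast_zmod_val]; field_simp
    rw [this, ← hpow]
    exact pow_mem (mem_zpowers _) _

/-- Two "transvections" with different centres on an elementary abelian group of order `p²`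
generate `SL₂(p)`. -/
theorem nonempty_mulEquiv_SL2 [Finite G] {W D : Subgroup G} {a b e₁ e₂ : G}
    (hWc : ∀ x ∈ W, ∀ y ∈ W, x * y = y * x) (hWp : ∀ x ∈ W, x ^ p = 1)
    (hcard : Nat.card ↥W = p ^ 2) (he₁ : e₁ ∈ W) (he₂ : e₂ ∈ W)
    (hgen : zpowers e₁ ⊔ zpowers e₂ = W)
    (haW : a ∈ normalizer (W : Set G)) (hbW : b ∈ normalizer (W : Set G))
    (hD : D = zpowers a ⊔ zpowers b) (hDf : D ⊓ centralizer (W : Set G) = ⊥)
    (ha1 : a * e₁ * a⁻¹ = e₁) (l : ℕ) (ha2 : a * e₂ * a⁻¹ = e₂ * e₁ ^ l) (hl : ¬ p ∣ l)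
    (hb2 : b * e₂ * b⁻¹ = e₂) (m : ℕ) (hb1 : b * e₁ * b⁻¹ = e₁ * e₂ ^ m) (hm : ¬ p ∣ m) :
    Nonempty (↥D ≃* Matrix.SpecialLinearGroup (Fin 2) (ZMod p)) := by
  have hDN : D ≤ normalizer (W : Set G) := by
    rw [hD, sup_le_iff, zpowers_le, zpowers_le]; exact ⟨haW, hbW⟩
  set θ := MulEquiv.ofBijective _ (coordHom_bijective W hWc hWp e₁ e₂ he₁ he₂ hcard hgen) with hθ
  have hθ_apply : ∀ v : M2 p, ((θ v : ↥W) : G) =
      e₁ ^ (Multiplicative.toAdd v 0).val * e₂ ^ (Multiplicative.toAdd v 1).val := fun v => rfl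
  -- the two homomorphisms into `Aut W`
  let α : ↥D →* MulAut ↥W := W.normalizerMonoidHom.comp (Subgroup.inclusion hDN)
  let β : Matrix.SpecialLinearGroup (Fin 2) (ZMod p) →* MulAut ↥W :=
    (MulAut.congr θ).toMonoidHom.comp (slAct p)
  have hα : Function.Injective α := by
    rw [injective_iff_map_eq_one]
    intro d hd
    have h1 : Subgroup.inclusion hDN d ∈ W.normalizerMonoidHom.ker := hd
    rw [normalizerMonoidHom_ker, mem_subgroupOf] at h1
    have h2 : (d : G) ∈ D ⊓ centralizer (W : Set G) := ⟨d.2, h1⟩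
    rw [hDf, mem_bot] at h2
    exact Subtype.ext h2
  have hβ : Function.Injective β :=
    (MulAut.congr θ).injective.comp (slAct_injective p)
  have haD : a ∈ D := hD ▸ (le_sup_left : zpowers a ≤ _) (mem_zpowers a)
  have hbD : b ∈ D := hD ▸ (le_sup_right : zpowers b ≤ _) (mem_zpowers b)
  have hconj_pow : ∀ (g e : G) (n : ℕ), g * e ^ n * g⁻¹ = (g * e * g⁻¹) ^ n := by
    intro g e n
    exact (conj_pow (a := g) (b := e) (i := n)).symm
  have hαa : α ⟨a, haD⟩ = β (SL2.up (l : ZMod p)) := by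
    ext w
    obtain ⟨v, rfl⟩ := θ.surjective w
    show a * (θ v : G) * a⁻¹ = ((θ (slAct p (SL2.up (l : ZMod p)) (θ.symm (θ v))) : ↥W) : G)
    rw [MulEquiv.symm_apply_apply, hθ_apply, hθ_apply, slAct_apply]
    have e0 : (((SL2.up (l : ZMod p)) : Matrix (Fin 2) (Fin 2) (ZMod p)) *ᵥ Multiplicative.toAdd v) 0 =
        Multiplicative.toAdd v 0 + (l : ZMod p) * Multiplicative.toAdd v 1 := by
      simp [SL2.up, Matrix.mulVec, dotProduct, Fin.sum_univ_two]
    have e1 : (((SL2.up (l : ZMod p)) : Matrix (Fin 2) (Fin 2) (ZMod p)) *ᵥ Multiplicative.toAdd v) 1 = Multiplicative.toAdd v 1 := by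
      simp [SL2.up, Matrix.mulVec, dotProduct, Fin.sum_univ_two]
    rw [toAdd_ofAdd, e0, e1, pow_val_add (hWp _ he₁), pow_val_natCast_mul (hWp _ he₁)]
    set x := (Multiplicative.toAdd v 0).val
    set y := (Multiplicative.toAdd v 1).val
    have c : e₂ * e₁ ^ l = e₁ ^ l * e₂ := hWc _ he₂ _ (W.pow_mem he₁ l)
    calc a * (e₁ ^ x * e₂ ^ y) * a⁻¹ = (a * e₁ ^ x * a⁻¹) * (a * e₂ ^ y * a⁻¹) := by group
      _ = e₁ ^ x * (e₂ * e₁ ^ l) ^ y := by rw [hconj_pow, hconj_pow, ha1, ha2]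
      _ = e₁ ^ x * ((e₁ ^ l) ^ y * e₂ ^ y) := by
          rw [c, (show Commute (e₁ ^ l) e₂ from c.symm).mul_pow]
      _ = _ := by group
  have hαb : α ⟨b, hbD⟩ = β (SL2.lo (m : ZMod p)) := by
    ext w
    obtain ⟨v, rfl⟩ := θ.surjective w
    show b * (θ v : G) * b⁻¹ = ((θ (slAct p (SL2.lo (m : ZMod p)) (θ.symm (θ v))) : ↥W) : G)
    rw [MulEquiv.symm_apply_apply, hθ_apply, hθ_apply, slAct_apply]
    have e0 : (((SL2.lo (m : ZMod p)) : Matrix (Fin 2) (Fin 2) (ZMod p)) *ᵥ Multiplicative.toAdd v) 0 = Multiplicative.toAdd v 0 := by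
      simp [SL2.lo, Matrix.mulVec, dotProduct, Fin.sum_univ_two]
    have e1 : (((SL2.lo (m : ZMod p)) : Matrix (Fin 2) (Fin 2) (ZMod p)) *ᵥ Multiplicative.toAdd v) 1 =
        (m : ZMod p) * Multiplicative.toAdd v 0 + Multiplicative.toAdd v 1 := by
      simp [SL2.lo, Matrix.mulVec, dotProduct, Fin.sum_univ_two]
    rw [toAdd_ofAdd, e0, e1, pow_val_add (hWp _ he₂), pow_val_natCast_mul (hWp _ he₂)]
    set x := (Multiplicative.toAdd v 0).val
    set y := (Multiplicative.toAdd v 1).val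
    have c : Commute e₁ (e₂ ^ m) := hWc _ he₁ _ (W.pow_mem he₂ m)
    calc b * (e₁ ^ x * e₂ ^ y) * b⁻¹ = (b * e₁ ^ x * b⁻¹) * (b * e₂ ^ y * b⁻¹) := by group
      _ = (e₁ * e₂ ^ m) ^ x * e₂ ^ y := by rw [hconj_pow, hconj_pow, hb1, hb2]
      _ = e₁ ^ x * (e₂ ^ m) ^ x * e₂ ^ y := by rw [c.mul_pow]
      _ = _ := by group
  have hl' : (l : ZMod p) ≠ 0 := fun h => hl ((ZMod.natCast_eq_zero_iff l p).1 h)
  have hm' : (m : ZMod p) ≠ 0 := fun h => hm ((ZMod.natCast_eq_zero_iff m p).1 h)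
  have htop : (⊤ : Subgroup ↥D) = zpowers ⟨a, haD⟩ ⊔ zpowers ⟨b, hbD⟩ := by
    apply Subgroup.map_injective D.subtype_injective
    rw [Subgroup.map_sup, MonoidHom.map_zpowers, MonoidHom.map_zpowers, ← MonoidHom.range_eq_map,
      Subgroup.range_subtype]
    exact hD
  have hrange : α.range = β.range := by
    rw [MonoidHom.range_eq_map, MonoidHom.range_eq_map, htop, ← Helper85.SL2.sup_eq_top,
      Subgroup.map_sup, Subgroup.map_sup, MonoidHom.map_zpowers, MonoidHom.map_zpowers, hαa, hαb,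
      ← zpowers_up hl', ← zpowers_lo hm', MonoidHom.map_zpowers, MonoidHom.map_zpowers, sup_comm]
  exact ⟨(MonoidHom.ofInjective hα).trans ((MulEquiv.subgroupCongr hrange).trans
    (MonoidHom.ofInjective hβ).symm)⟩

end Main

end Cfsg.Agent.Lib.Helper55
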