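import Cfsg.Agent.Lib.Helper55.ActSL2

set_option autoImplicit false

namespace Cfsg.Agent.Lib.Helper55

open Matrix Subgroup
open Cfsg.Agent.Lib.Helper85 (SL2.lo SL2.up)

section Main

variable {p : ℕ} [hp : Fact p.Prime] {G : Type*} [Group G]

/-- `D` acts on `W` as `SL₂(p)` acts on its natural module. -/
def NatSL2 (p : ℕ) (D W : Subgroup G) : Prop :=
  ∃ (φ : ↥D ≃* Matrix.SpecialLinearGroup (Fin 2) (ZMod p)) (θ : M2 p ≃* ↥W),
    ∀ (d : ↥D) (v : M2 p), (d : G) * (θ v : G) * (d : G)⁻¹ = (θ (slAct p (φ d) v) : G)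

theorem natSL2_of_transvections [Finite G] {W D : Subgroup G} {a b e₁ e₂ : G}
    (hWc : ∀ x ∈ W, ∀ y ∈ W, x * y = y * x) (hWp : ∀ x ∈ W, x ^ p = 1)
    (hcard : Nat.card ↥W = p ^ 2) (he₁ : e₁ ∈ W) (he₂ : e₂ ∈ W)
    (hgen : zpowers e₁ ⊔ zpowers e₂ = W)
    (haW : a ∈ normalizer (W : Set G)) (hbW : b ∈ normalizer (W : Set G))
    (hD : D = zpowers a ⊔ zpowers b) (hDf : D ⊓ centralizer (W : Set G) = ⊥)
    (ha1 : a * e₁ * a⁻¹ = e₁) (l : ℕ) (ha2 : a * e₂ * a⁻¹ = e₂ * e₁ ^ l) (hl : ¬ p ∣ l)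
    (hb2 : b * e₂ * b⁻¹ = e₂) (m : ℕ) (hb1 : b * e₁ * b⁻¹ = e₁ * e₂ ^ m) (hm : ¬ p ∣ m) :
    NatSL2 p D W := by
  have hDN : D ≤ normalizer (W : Set G) := by
    rw [hD, sup_le_iff, zpowers_le, zpowers_le]; exact ⟨haW, hbW⟩
  set θ := MulEquiv.ofBijective _ (coordHom_bijective W hWc hWp e₁ e₂ he₁ he₂ hcard hgen) with hθ
  have hθ_apply : ∀ v : M2 p, ((θ v : ↥W) : G) =
      e₁ ^ (Multiplicative.toAdd v 0).val * e₂ ^ (Multiplicative.toAdd v 1).val := fun v => rfl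
  -- the two homomorphisms into `Aut W`
  let α : ↥D →* MulAut ↥W := W.normalizerMonoidHom.comp (Subgroup.inclusion hDN)
  let β : Matrix.SpecialLinearGroup (Fin 2) (ZMod p) →* MulAut ↥W :=
    (MulAut.congr θ).toMonoidHom.comp (slAct p)
  have hα : Function.Injective α := by
    rw [injective_iff_map_eq_one]
    intro d hd
    have h1 : Subgroup.inclusion hDN d ∈ W.normalizerMonoidHom.ker := hd
    rw [normalizerMonoidHom_ker, mem_subgroupOf] at h1
    have h2 : (d : G) ∈ D ⊓ centralizer (W : Set G) := ⟨d.2, h1⟩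
    rw [hDf, mem_bot] at h2
    exact Subtype.ext h2
  have hβ : Function.Injective β :=
    (MulAut.congr θ).injective.comp (slAct_injective p)
  have haD : a ∈ D := hD ▸ (le_sup_left : zpowers a ≤ _) (mem_zpowers a)
  have hbD : b ∈ D := hD ▸ (le_sup_right : zpowers b ≤ _) (mem_zpowers b)
  have hconj_pow : ∀ (g e : G) (n : ℕ), g * e ^ n * g⁻¹ = (g * e * g⁻¹) ^ n := by
    intro g e n
    exact (conj_pow (a := g) (b := e) (i := n)).symm
  have hαa : α ⟨a, haD⟩ = β (SL2.up (l : ZMod p)) := by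
    ext w
    obtain ⟨v, rfl⟩ := θ.surjective w
    show a * (θ v : G) * a⁻¹ = ((θ (slAct p (SL2.up (l : ZMod p)) (θ.symm (θ v))) : ↥W) : G)
    rw [MulEquiv.symm_apply_apply, hθ_apply, hθ_apply, slAct_apply]
    have e0 : (((SL2.up (l : ZMod p)) : Matrix (Fin 2) (Fin 2) (ZMod p)) *ᵥ Multiplicative.toAdd v) 0 =
        Multiplicative.toAdd v 0 + (l : ZMod p) * Multiplicative.toAdd v 1 := by
      simp [SL2.up, Matrix.mulVec, dotProduct, Fin.sum_univ_two]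
    have e1 : (((SL2.up (l : ZMod p)) : Matrix (Fin 2) (Fin 2) (ZMod p)) *ᵥ Multiplicative.toAdd v) 1 = Multiplicative.toAdd v 1 := by
      simp [SL2.up, Matrix.mulVec, dotProduct, Fin.sum_univ_two]
    rw [toAdd_ofAdd, e0, e1, pow_val_add (hWp _ he₁), pow_val_natCast_mul (hWp _ he₁)]
    set x := (Multiplicative.toAdd v 0).val
    set y := (Multiplicative.toAdd v 1).val
    have c : e₂ * e₁ ^ l = e₁ ^ l * e₂ := hWc _ he₂ _ (W.pow_mem he₁ l)
    calc a * (e₁ ^ x * e₂ ^ y) * a⁻¹ = (a * e₁ ^ x * a⁻¹) * (a * e₂ ^ y * a⁻¹) := by group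
      _ = e₁ ^ x * (e₂ * e₁ ^ l) ^ y := by rw [hconj_pow, hconj_pow, ha1, ha2]
      _ = e₁ ^ x * ((e₁ ^ l) ^ y * e₂ ^ y) := by
          rw [c, (show Commute (e₁ ^ l) e₂ from c.symm).mul_pow]
      _ = _ := by group
  have hαb : α ⟨b, hbD⟩ = β (SL2.lo (m : ZMod p)) := by
    ext w
    obtain ⟨v, rfl⟩ := θ.surjective w
    show b * (θ v : G) * b⁻¹ = ((θ (slAct p (SL2.lo (m : ZMod p)) (θ.symm (θ v))) : ↥W) : G)
    rw [MulEquiv.symm_apply_apply, hθ_apply, hθ_apply, slAct_apply]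
    have e0 : (((SL2.lo (m : ZMod p)) : Matrix (Fin 2) (Fin 2) (ZMod p)) *ᵥ Multiplicative.toAdd v) 0 = Multiplicative.toAdd v 0 := by
      simp [SL2.lo, Matrix.mulVec, dotProduct, Fin.sum_univ_two]
    have e1 : (((SL2.lo (m : ZMod p)) : Matrix (Fin 2) (Fin 2) (ZMod p)) *ᵥ Multiplicative.toAdd v) 1 =
        (m : ZMod p) * Multiplicative.toAdd v 0 + Multiplicative.toAdd v 1 := by
      simp [SL2.lo, Matrix.mulVec, dotProduct, Fin.sum_univ_two]
    rw [toAdd_ofAdd, e0, e1, pow_val_add (hWp _ he₂), pow_val_natCast_mul (hWp _ he₂)]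
    set x := (Multiplicative.toAdd v 0).val
    set y := (Multiplicative.toAdd v 1).val
    have c : Commute e₁ (e₂ ^ m) := hWc _ he₁ _ (W.pow_mem he₂ m)
    calc b * (e₁ ^ x * e₂ ^ y) * b⁻¹ = (b * e₁ ^ x * b⁻¹) * (b * e₂ ^ y * b⁻¹) := by group
      _ = (e₁ * e₂ ^ m) ^ x * e₂ ^ y := by rw [hconj_pow, hconj_pow, hb1, hb2]
      _ = e₁ ^ x * (e₂ ^ m) ^ x * e₂ ^ y := by rw [c.mul_pow]
      _ = _ := by group
  have hl' : (l : ZMod p) ≠ 0 := fun h => hl ((ZMod.natCast_eq_zero_iff l p).1 h)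
  have hm' : (m : ZMod p) ≠ 0 := fun h => hm ((ZMod.natCast_eq_zero_iff m p).1 h)
  have htop : (⊤ : Subgroup ↥D) = zpowers ⟨a, haD⟩ ⊔ zpowers ⟨b, hbD⟩ := by
    apply Subgroup.map_injective D.subtype_injective
    rw [Subgroup.map_sup, MonoidHom.map_zpowers, MonoidHom.map_zpowers, ← MonoidHom.range_eq_map,
      Subgroup.range_subtype]
    exact hD
  have hrange : α.range = β.range := by
    rw [MonoidHom.range_eq_map, MonoidHom.range_eq_map, htop, ← Helper85.SL2.sup_eq_top,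
      Subgroup.map_sup, Subgroup.map_sup, MonoidHom.map_zpowers, MonoidHom.map_zpowers, hαa, hαb,
      ← zpowers_up hl', ← zpowers_lo hm', MonoidHom.map_zpowers, MonoidHom.map_zpowers, sup_comm]
  refine ⟨(MonoidHom.ofInjective hα).trans ((MulEquiv.subgroupCongr hrange).trans
    (MonoidHom.ofInjective hβ).symm), θ, ?_⟩
  intro d v
  set g := ((MonoidHom.ofInjective hα).trans ((MulEquiv.subgroupCongr hrange).trans
    (MonoidHom.ofInjective hβ).symm)) d with hg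
  have h1 : MonoidHom.ofInjective hβ g = MulEquiv.subgroupCongr hrange (MonoidHom.ofInjective hα d) := by
    rw [hg]
    simp only [MulEquiv.trans_apply, MulEquiv.apply_symm_apply]
  have h2 : β g = α d := congrArg Subtype.val h1
  have h3 : (β g) (θ v) = (α d) (θ v) := by rw [h2]
  have h4 : (β g) (θ v) = θ (slAct p g v) := by
    show θ (slAct p g (θ.symm (θ v))) = _
    rw [MulEquiv.symm_apply_apply]
  rw [← h4, h3]
  rfl

/-- Every automorphism of the natural module of order dividing `p` is induced by `SL₂(p)`. -/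
theorem exists_slAct_eq_of_pow (f : MulAut (M2 p)) (hf : f ^ p = 1) : ∃ g, slAct p g = f := by
  let F : (Fin 2 → ZMod p) →+ (Fin 2 → ZMod p) :=
    AddMonoidHom.mk' (fun v => Multiplicative.toAdd (f (Multiplicative.ofAdd v)))
      (by intro a b; rw [ofAdd_add, map_mul, toAdd_mul])
  let L : (Fin 2 → ZMod p) →ₗ[ZMod p] (Fin 2 → ZMod p) := AddMonoidHom.toZModLinearMap p F
  let M : Matrix (Fin 2) (Fin 2) (ZMod p) := LinearMap.toMatrix' L
  have hM : ∀ v, M *ᵥ v = Multiplicative.toAdd (f (Multiplicative.ofAdd v)) := by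
    intro v
    rw [LinearMap.toMatrix'_mulVec]
    rfl
  have hMn : ∀ (n : ℕ) v, (M ^ n) *ᵥ v = Multiplicative.toAdd ((f ^ n) (Multiplicative.ofAdd v)) := by
    intro n
    induction n with
    | zero => intro v; simp
    | succ n ih =>
      intro v
      rw [pow_succ', ← mulVec_mulVec, ih, hM, pow_succ']
      rfl
  have hMp : M ^ p = 1 := by
    rw [Matrix.ext_iff_mulVec]
    intro v
    rw [hMn, hf, one_mulVec]
    rfl
  have hdet : M.det = 1 := by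
    have h1 : M.det ^ p = 1 := by rw [← Matrix.det_pow, hMp, Matrix.det_one]
    rwa [ZMod.pow_card] at h1
  refine ⟨⟨M, hdet⟩, ?_⟩
  apply MulEquiv.ext
  intro v
  show Multiplicative.ofAdd (M *ᵥ Multiplicative.toAdd v) = f v
  rw [hM]
  rfl

theorem NatSL2.card_W {D W : Subgroup G} (hN : NatSL2 p D W) : Nat.card ↥W = p ^ 2 := by
  obtain ⟨-, θ, -⟩ := hN
  rw [← Nat.card_congr θ.toEquiv]
  show Nat.card (Fin 2 → ZMod p) = p ^ 2
  simp [Nat.card_eq_fintype_card, ZMod.card]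

omit hp in
theorem NatSL2.le_normalizer {D W : Subgroup G} (hN : NatSL2 p D W) :
    D ≤ normalizer (W : Set G) := by
  obtain ⟨φ, θ, hc⟩ := hN
  have key : ∀ d ∈ D, ∀ w ∈ W, d * w * d⁻¹ ∈ W := by
    intro d hd w hw
    obtain ⟨v, hv⟩ := θ.surjective ⟨w, hw⟩
    have := hc ⟨d, hd⟩ v
    rw [hv] at this
    rw [show d * w * d⁻¹ = _ from this]
    exact (θ _).2
  intro d hd
  rw [mem_normalizer_iff]
  intro w
  refine ⟨key d hd w, fun hw => ?_⟩
  have := key d⁻¹ (D.inv_mem hd) _ hw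
  simpa [mul_assoc] using this

/-- `D` induces on `W` all automorphisms of order dividing `p`. -/
theorem NatSL2.exists_mul {D W : Subgroup G} (hN : NatSL2 p D W) {g : G}
    (hg : g ∈ normalizer (W : Set G)) (hgp : g ^ p ∈ centralizer (W : Set G)) :
    ∃ d ∈ D, d⁻¹ * g ∈ centralizer (W : Set G) := by
  obtain ⟨φ, θ, hc⟩ := hN
  let c : MulAut ↥W := W.normalizerMonoidHom ⟨g, hg⟩
  have hcp : c ^ p = 1 := by
    have h1 : (⟨g, hg⟩ : ↥(normalizer (W : Set G))) ^ p ∈ W.normalizerMonoidHom.ker := by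
      rw [normalizerMonoidHom_ker, mem_subgroupOf]
      exact hgp
    rw [← map_pow]
    exact h1
  obtain ⟨m, hm⟩ := exists_slAct_eq_of_pow (MulAut.congr θ.symm c) (by
    rw [← map_pow, hcp, map_one])
  refine ⟨φ.symm m, (φ.symm m).2, ?_⟩
  rw [mem_centralizer_iff]
  intro w hw
  obtain ⟨v, hv⟩ := θ.surjective ⟨w, hw⟩
  have h1 := hc (φ.symm m) v
  rw [MulEquiv.apply_symm_apply, hm, hv] at h1
  have h2 : ((θ ((MulAut.congr θ.symm c) v) : ↥W) : G) = g * w * g⁻¹ := by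
    show ((θ (θ.symm (c (θ.symm.symm v))) : ↥W) : G) = _
    rw [MulEquiv.apply_symm_apply, MulEquiv.symm_symm, hv]
    rfl
  rw [h2] at h1
  set d : G := ((φ.symm m : ↥D) : G)
  calc w * (d⁻¹ * g) = d⁻¹ * (d * w * d⁻¹) * g := by group
    _ = d⁻¹ * g * w := by rw [h1]; group

end Main

section Small

theorem exists_no_eigen_two : ∃ h₀ : Matrix.SpecialLinearGroup (Fin 2) (ZMod 2),
    ∀ v : Fin 2 → ZMod 2, v ≠ 0 → ∀ c : ZMod 2,
      ((h₀ ^ 2 : Matrix.SpecialLinearGroup (Fin 2) (ZMod 2)) : Matrix (Fin 2) (Fin 2) (ZMod 2)) *ᵥ v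
        ≠ c • v := by
  let h₀ : Matrix.SpecialLinearGroup (Fin 2) (ZMod 2) := ⟨!![0, 1; 1, 1], by decide⟩
  refine ⟨h₀, ?_⟩
  simp only [Matrix.SpecialLinearGroup.coe_pow]
  show ∀ v : Fin 2 → ZMod 2, v ≠ 0 → ∀ c : ZMod 2,
    ((!![0, 1; 1, 1] : Matrix (Fin 2) (Fin 2) (ZMod 2)) ^ 2) *ᵥ v ≠ c • v
  decide

theorem exists_no_eigen_three : ∃ h₀ : Matrix.SpecialLinearGroup (Fin 2) (ZMod 3),
    ∀ v : Fin 2 → ZMod 3, v ≠ 0 → ∀ c : ZMod 3,
      ((h₀ ^ 3 : Matrix.SpecialLinearGroup (Fin 2) (ZMod 3)) : Matrix (Fin 2) (Fin 2) (ZMod 3)) *ᵥ v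
        ≠ c • v := by
  let h₀ : Matrix.SpecialLinearGroup (Fin 2) (ZMod 3) := ⟨!![0, -1; 1, 0], by decide⟩
  refine ⟨h₀, ?_⟩
  simp only [Matrix.SpecialLinearGroup.coe_pow]
  show ∀ v : Fin 2 → ZMod 3, v ≠ 0 → ∀ c : ZMod 3,
    ((!![0, -1; 1, 0] : Matrix (Fin 2) (Fin 2) (ZMod 3)) ^ 3) *ᵥ v ≠ c • v
  decide

theorem exists_no_eigen {p : ℕ} (hp23 : p = 2 ∨ p = 3) :
    ∃ h₀ : Matrix.SpecialLinearGroup (Fin 2) (ZMod p),
    ∀ v : Fin 2 → ZMod p, v ≠ 0 → ∀ c : ZMod p,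
      ((h₀ ^ p : Matrix.SpecialLinearGroup (Fin 2) (ZMod p)) : Matrix (Fin 2) (Fin 2) (ZMod p)) *ᵥ v
        ≠ c • v := by
  rcases hp23 with rfl | rfl
  · exact exists_no_eigen_two
  · exact exists_no_eigen_three

end Small

end Cfsg.Agent.Lib.Helper55
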