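import Cfsg.Agent.Lib.Helper55.TwoTransv

set_option autoImplicit false
set_option linter.unusedSectionVars false

/-! Automorphism groups of groups of order `p ^ 2` without normal `p`-subgroups. -/

namespace Cfsg.Agent.Lib.Helper55

open Cfsg Subgroup
open scoped commutatorElement Pointwise

variable {H : Type*} [Group H] [Finite H] {p : ℕ} [hp : Fact p.Prime]

/-- The holomorph of a group given as a type. -/
abbrev HolT (H : Type*) [Group H] : Type _ := H ⋊[MonoidHom.id (MulAut H)] MulAut H

instance HolT.finite : Finite (HolT H) :=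
  Finite.of_equiv _ SemidirectProduct.equivProd.symm

theorem holT_conj (α : MulAut H) (v : H) :
    (SemidirectProduct.inr α : HolT H) * SemidirectProduct.inl v * (SemidirectProduct.inr α)⁻¹ =
      SemidirectProduct.inl (α v) := by
  have := SemidirectProduct.inl_aut (φ := MonoidHom.id (MulAut H)) α v
  simp only [MonoidHom.id_apply] at this
  rw [this, map_inv]

theorem holT_range_inf :
    (SemidirectProduct.inr : MulAut H →* HolT H).range ⊓
      centralizer (((SemidirectProduct.inl : H →* HolT H).range : Subgroup (HolT H)) :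
        Set (HolT H)) = ⊥ := by
  rw [eq_bot_iff]
  rintro x ⟨⟨α, rfl⟩, hx⟩
  rw [mem_bot]
  have h1 : α = 1 := by
    ext v
    have h2 := holT_conj α v
    have h3 : (SemidirectProduct.inl v : HolT H) * SemidirectProduct.inr α =
        SemidirectProduct.inr α * SemidirectProduct.inl v :=
      (mem_centralizer_iff.1 hx) (SemidirectProduct.inl v) ⟨v, rfl⟩
    rw [← h3, mul_inv_cancel_right] at h2
    have := SemidirectProduct.inl_injective h2
    rw [← this]
    rfl
  rw [h1, map_one]

theorem exists_SL2_of_aut (hcard : Nat.card H = p ^ 2) (A : Subgroup (MulAut H))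
    (hpA : p ∣ Nat.card ↥A)
    (hOp : ∀ N : Subgroup ↥A, N.Normal → IsPGroup p ↥N → N = ⊥) :
    (∀ x y : H, x * y = y * x) ∧ (∀ x : H, x ^ p = 1) ∧
      ∃ K : Subgroup ↥A, Nonempty (↥K ≃* Matrix.SpecialLinearGroup (Fin 2) (ZMod p)) := by
  have hcomm : ∀ x y : H, x * y = y * x := IsPGroup.commutative_of_card_eq_prime_sq hcard
  obtain ⟨a, ha⟩ := exists_prime_orderOf_dvd_card' p hpA
  have ha1 : a ≠ 1 := by
    rintro rfl
    rw [orderOf_one] at ha
    exact hp.out.one_lt.ne ha
  have hPa : IsPGroup p ↥(zpowers a) :=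
    IsPGroup.of_card (n := 1) (by rw [Nat.card_zpowers, ha, pow_one])
  have hnn : ¬ (zpowers a).Normal := by
    intro hn
    have := hOp _ hn hPa
    rw [zpowers_eq_bot] at this
    exact ha1 this
  have hex : ∃ g : ↥A, g * a * g⁻¹ ∉ zpowers a := by
    by_contra hcon
    push Not at hcon
    apply hnn
    constructor
    intro n hn g
    obtain ⟨k, rfl⟩ := mem_zpowers_iff.1 hn
    rw [← conj_zpow]
    exact zpow_mem (hcon g) k
  obtain ⟨g, hg⟩ := hex
  set b := g * a * g⁻¹ with hb
  have hbo : orderOf b = p := by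
    rw [hb, ← ha]
    exact (MulAut.conj g).orderOf_eq a
  have hexp : ∀ x : H, x ^ p = 1 := by
    by_contra hcon
    push Not at hcon
    obtain ⟨x, hx⟩ := hcon
    have h1 : orderOf x ∣ p ^ 2 := hcard ▸ orderOf_dvd_natCard x
    obtain ⟨m, hm, hc⟩ := (Nat.dvd_prime_pow hp.out).1 h1
    have hm2 : m = 2 := by
      interval_cases m
      · rw [pow_zero, orderOf_eq_one_iff] at hc
        rw [hc, one_pow] at hx
        exact absurd rfl hx
      · rw [pow_one] at hc
        exact absurd (hc ▸ pow_orderOf_eq_one x) hx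
      · rfl
    subst hm2
    have hcyc : IsCyclic H := isCyclic_of_orderOf_eq_card x (by rw [hc, hcard])
    apply hg
    have hcm : ∀ u v : MulAut H, u * v = v * u := by
      intro u v
      apply (IsCyclic.mulAutMulEquiv H).injective
      rw [map_mul, map_mul, mul_comm]
    have : b = a := by
      rw [hb]
      apply Subtype.ext
      push_cast
      rw [hcm, inv_mul_cancel_left]
    rw [this]
    exact mem_zpowers a
  refine ⟨hcomm, hexp, ?_⟩
  let f : ↥A →* HolT H := SemidirectProduct.inr.comp A.subtype
  have hf : Function.Injective f := SemidirectProduct.inr_injective.comp A.subtype_injective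
  set W : Subgroup (HolT H) := (SemidirectProduct.inl : H →* HolT H).range with hW
  have hWn : W.Normal := by
    rw [hW, SemidirectProduct.range_inl_eq_ker_rightHom]
    infer_instance
  set K : Subgroup ↥A := zpowers a ⊔ zpowers b with hK
  have hD : K.map f = zpowers (f a) ⊔ zpowers (f b) := by
    rw [hK, Subgroup.map_sup, MonoidHom.map_zpowers, MonoidHom.map_zpowers]
  have hnat : NatSL2 p (K.map f) W := by
    apply natSL2_of_two_pElements (a := f a) (b := f b) _ _ _ _ _ _ _ hD
    · rw [eq_bot_iff, ← holT_range_inf]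
      refine inf_le_inf_right _ ?_
      rintro _ ⟨k, -, rfl⟩
      exact ⟨_, rfl⟩
    · intro h
      exact ha1 (hf (h.trans (map_one f).symm))
    · intro h
      rw [← MonoidHom.map_zpowers] at h
      obtain ⟨c, hc, hcb⟩ := h
      exact hg (hf hcb ▸ hc)
    · rintro _ ⟨v, rfl⟩ _ ⟨w, rfl⟩
      rw [← map_mul, ← map_mul, hcomm]
    · rintro _ ⟨v, rfl⟩
      rw [← map_pow, hexp, map_one]
    · rw [← hcard]
      exact Nat.card_congr (MonoidHom.ofInjective SemidirectProduct.inl_injective).toEquiv.symm
    · rw [normalizer_eq_top]; exact mem_top _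
    · rw [normalizer_eq_top]; exact mem_top _
    · exact IsPGroup.of_card (n := 1) (by rw [Nat.card_zpowers, orderOf_injective f hf, ha, pow_one])
    · exact IsPGroup.of_card (n := 1) (by rw [Nat.card_zpowers, orderOf_injective f hf, hbo, pow_one])
  obtain ⟨φ, -, -⟩ := hnat
  exact ⟨K, ⟨(K.equivMapOfInjective f hf).trans φ⟩⟩

end Cfsg.Agent.Lib.Helper55
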