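import Mathlib.GroupTheory.Sylow
import Cfsg.Prelude.Def_Solvable
import Cfsg.Agent.Lib.Helper55.Basic

set_option autoImplicit false

namespace Cfsg.Agent.Lib.Helper55

/-- An element that is both a `p`-element and of order prime to `p` is trivial. -/
theorem eq_one_of_pow_of_coprime {G : Type*} [Group G] {p : ℕ} {z : G} {k n : ℕ}
    (h1 : z ^ (p ^ k) = 1) (h2 : z ^ n = 1) (hn : n.Coprime p) : z = 1 := by
  have h3 : orderOf z ∣ p ^ k := orderOf_dvd_of_pow_eq_one h1
  have h4 : orderOf z ∣ n := orderOf_dvd_of_pow_eq_one h2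
  have h5 : (n).Coprime (p ^ k) := Nat.Coprime.pow_right k hn
  have h6 : orderOf z = 1 := Nat.eq_one_of_dvd_coprimes h5 h4 h3
  exact orderOf_eq_one_iff.1 h6

/-- If `q⁻¹ d q = d z` with `z` a `p`-element commuting with the `p'`-element `d`, then `z = 1`. -/
theorem eq_one_of_conj_eq_mul {G : Type*} [Group G] {p : ℕ} {d q z : G} {k : ℕ}
    (hd : (orderOf d).Coprime p) (hconj : q⁻¹ * d * q = d * z) (hcomm : Commute d z)
    (hz : z ^ (p ^ k) = 1) : z = 1 := by
  refine eq_one_of_pow_of_coprime hz (n := orderOf d) ?_ hd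
  have h1 : (q⁻¹ * d * q) ^ orderOf d = 1 := by
    have : (q⁻¹ * d * q) ^ orderOf d = q⁻¹ * d ^ orderOf d * q := by
      have := conj_pow (a := q⁻¹) (b := d) (i := orderOf d)
      simpa using this
    rw [this, pow_orderOf_eq_one]; simp
  rw [hconj, hcomm.mul_pow, pow_orderOf_eq_one, one_mul] at h1
  exact h1

/-- A subgroup of a finite group all of whose `p'`-elements are trivial is a `p`-group. -/
theorem isPGroup_of_forall_coprime_eq_one {G : Type*} [Group G] [Finite G] {p : ℕ} [Fact p.Prime]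
    (C : Subgroup G) (h : ∀ c ∈ C, (orderOf c).Coprime p → c = 1) : IsPGroup p ↥C := by
  intro g
  have hpos : orderOf (g : G) ≠ 0 := (orderOf_pos (g : G)).ne'
  obtain ⟨k, m, hm, hkm⟩ := Nat.exists_eq_pow_mul_and_not_dvd hpos p (Fact.out : p.Prime).ne_one
  refine ⟨k, ?_⟩
  have h1 : orderOf ((g : G) ^ (p ^ k)) = m := by
    rw [orderOf_pow' _ (pow_ne_zero k (Fact.out : p.Prime).ne_zero), hkm,
      Nat.gcd_eq_right (Dvd.intro _ rfl), Nat.mul_div_cancel_left _ (pow_pos (Fact.out : p.Prime).pos k)]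
  have h2 : (g : G) ^ (p ^ k) = 1 := by
    apply h _ (C.pow_mem g.2 _)
    rw [h1]
    exact ((Nat.Prime.coprime_iff_not_dvd Fact.out).2 hm).symm
  exact Subtype.ext (by simpa using h2)

theorem pCore_isPGroup (p : ℕ) (G : Type*) [Group G] : IsPGroup p ↥(Cfsg.pCore p G) :=
  Sylow.sSup_of_normal _ (fun _ h => h.2) (fun _ h => h.1)

theorem pCore_normal' (p : ℕ) (G : Type*) [Group G] : (Cfsg.pCore p G).Normal :=
  Subgroup.sSup_normal _ (fun _ h => h.1)

theorem le_pCore {p : ℕ} {G : Type*} [Group G] {N : Subgroup G} (hN : N.Normal)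
    (hp : IsPGroup p ↥N) : N ≤ Cfsg.pCore p G :=
  le_sSup ⟨hN, hp⟩

/-- In a group of characteristic `p` (`R` a `p`-subgroup containing its centralizer), a `p'`-element `c`
such that every `c⁻¹ r⁻¹ c r` (`r ∈ R`) lies in `R` and commutes with `c` is trivial. -/
theorem eq_one_of_quadratic {G : Type*} [Group G] {p : ℕ} {R : Subgroup G}
    (hR : IsPGroup p ↥R) (hC : Subgroup.centralizer (R : Set G) ≤ R) {c : G}
    (hc : (orderOf c).Coprime p)
    (h : ∀ r ∈ R, c⁻¹ * (r⁻¹ * c * r) ∈ R ∧ Commute c (c⁻¹ * (r⁻¹ * c * r))) : c = 1 := by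
  have h1 : c ∈ Subgroup.centralizer (R : Set G) := by
    rw [Subgroup.mem_centralizer_iff]
    intro r hr
    obtain ⟨hz, hcomm⟩ := h r hr
    obtain ⟨k, hk⟩ := hR ⟨_, hz⟩
    have hk' : (c⁻¹ * (r⁻¹ * c * r)) ^ (p ^ k) = 1 := by
      simpa using congrArg Subtype.val hk
    have := eq_one_of_conj_eq_mul (q := r) (z := c⁻¹ * (r⁻¹ * c * r)) hc (by group) hcomm hk'
    have h2 : r⁻¹ * c * r = c := by
      have h3 : c * (c⁻¹ * (r⁻¹ * c * r)) = c * 1 := by rw [this]
      simpa using h3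
    calc r * c = r * (r⁻¹ * c * r) := by rw [h2]
      _ = c * r := by group
  obtain ⟨k, hk⟩ := hR ⟨c, hC h1⟩
  have hk' : c ^ (p ^ k) = 1 := by simpa using congrArg Subtype.val hk
  exact eq_one_of_pow_of_coprime hk' (pow_orderOf_eq_one c) hc

end Cfsg.Agent.Lib.Helper55
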