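import Cfsg.Agent.Lib.Helper55.Model
import Cfsg.Agent.Lib.Helper56.Transvection

set_option autoImplicit false
set_option linter.unusedSectionVars false

/-! Cyclic normal subgroups of Sylow subgroups of `p`-soluble groups. -/

namespace Cfsg.Agent.Lib.Helper55

open Cfsg Subgroup
open scoped commutatorElement Pointwise

universe u

variable {X : Type u} [Group X] [Finite X] {p : ℕ} [hp : Fact p.Prime]

section

variable (V : Subgroup X) [hVn : V.Normal]

theorem commutator_zpowers_le_of {a w : X} (hVc : ∀ x ∈ V, ∀ y ∈ V, x * y = y * x)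
    (hcomm : ∀ v ∈ V, a * v * a⁻¹ * v⁻¹ ∈ zpowers w) : ⁅V, zpowers a⁆ ≤ zpowers w := by
  have haN : a ∈ normalizer (V : Set X) := by rw [normalizer_eq_top]; exact mem_top a
  rw [commutator_zpowers_eq V hVc a haN]
  rintro _ ⟨_, ⟨v, rfl⟩, rfl⟩
  show (v : X) * a * (v : X)⁻¹ * a⁻¹ ∈ zpowers w
  have := inv_mem (hcomm v v.2)
  have e : (a * (v : X) * a⁻¹ * (v : X)⁻¹)⁻¹ = (v : X) * a * (v : X)⁻¹ * a⁻¹ := by group
  rwa [e] at this

theorem relIndex_le_of {a w : X} (hVc : ∀ x ∈ V, ∀ y ∈ V, x * y = y * x) (hwp : w ^ p = 1)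
    (hcomm : ∀ v ∈ V, a * v * a⁻¹ * v⁻¹ ∈ zpowers w) :
    (V ⊓ centralizer {a}).relIndex V ≤ p := by
  have haN : a ∈ normalizer (V : Set X) := by rw [normalizer_eq_top]; exact mem_top a
  rw [← card_commutator_zpowers V hVc a haN]
  refine (card_le_of_le (commutator_zpowers_le_of V hVc hcomm)).trans ?_
  rw [Nat.card_zpowers]
  exact Nat.le_of_dvd hp.out.pos (orderOf_dvd_of_pow_eq_one hwp)

theorem noPCore_of_le (hV : IsElementaryAbelian p V) (hCV : centralizer (V : Set X) ≤ V)
    (hOp : pCore p X ≤ V) : NoPCore p V := by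
  intro D hDn hCD ⟨k, hk⟩
  apply le_antisymm _ hCD
  have hVC : V ≤ centralizer (V : Set X) := by
    intro v hv
    rw [mem_centralizer_iff]
    intro y hy
    exact Helper14.IsElementaryAbelian.comm hV hy hv
  have hCeq : centralizer (V : Set X) = V := le_antisymm hCV hVC
  obtain ⟨n, hn⟩ := (Helper14.IsElementaryAbelian.isPGroup hV).exists_card_eq
  have hDp : IsPGroup p ↥D := by
    apply IsPGroup.of_card (n := n + k)
    rw [← Helper14.card_mul_relIndex hCD, hk, hCeq, hn, pow_add]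
  exact (Helper53.le_pCore hDn hDp).trans (hOp.trans hVC)

theorem norm_three {a u c : X} (hu : u ^ 3 = 1) (hc : c ^ 3 = 1) (huc : u * c = c * u)
    (hac : a * c = c * a) (hau : a * u * a⁻¹ = c * u) : (u * a) ^ 3 = a ^ 3 := by
  have e0 : (u * a) ^ 3 = u * (a * u * a⁻¹) * (a * (a * u * a⁻¹) * a⁻¹) * a ^ 3 := by
    simp only [pow_succ, pow_zero, one_mul]
    group
  have e1 : a * (c * u) * a⁻¹ = c * (c * u) := by
    calc a * (c * u) * a⁻¹ = (a * c) * a⁻¹ * (a * u * a⁻¹) := by group
      _ = c * (c * u) := by rw [hac, hau, mul_inv_cancel_right]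
  rw [e0, hau, e1]
  have e2 : u * (c * u) * (c * (c * u)) = u ^ 3 * c ^ 3 := by
    have h1 : c * u = u * c := huc.symm
    have h2 : ∀ t, c * (u * t) = u * (c * t) := fun t => by rw [← mul_assoc, h1, mul_assoc]
    simp only [pow_succ, pow_zero, one_mul, mul_assoc, h1, h2]
  rw [e2, hu, hc, one_mul, one_mul]

theorem mem_centralizer_of_cyclic_action_odd (hp2 : p ≠ 2) (hsol : IsPSolvable p X)
    (hV : IsElementaryAbelian p V) (hCV : centralizer (V : Set X) ≤ V) (hOp : pCore p X ≤ V)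
    (a : X) (hap : a ^ p ∈ V) (hcomm : ∀ v ∈ V, a * v * a⁻¹ * v⁻¹ ∈ zpowers (a ^ p)) :
    a ∈ centralizer (V : Set X) := by
  by_contra hna
  have hVc : ∀ x ∈ V, ∀ y ∈ V, x * y = y * x :=
    fun x hx y hy => Helper14.IsElementaryAbelian.comm hV hx hy
  have hVC : V ≤ centralizer (V : Set X) := by
    intro v hv
    rw [mem_centralizer_iff]
    intro y hy
    exact hVc y hy v hv
  have haN : a ∈ normalizer (V : Set X) := by rw [normalizer_eq_top]; exact mem_top a
  set w := a ^ p with hw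
  have hwp : w ^ p = 1 := hV.2 w hap
  have hD := noPCore_of_le V hV hCV hOp
  have hF := ffs_model V hsol hV hD ⊤
  set H' := (⊤ : Subgroup X).map (rho V) with hH'
  set K' := (pPrimeCore p ↥H').map H'.subtype with hK'
  set A' := zpowers (rho V a) with hA'
  have hA'map : A' = (zpowers a).map (rho V) := by rw [hA', MonoidHom.map_zpowers]
  have hord : orderOf (rho V a) = p := by
    apply orderOf_eq_prime
    · rw [← map_pow, ← MonoidHom.mem_ker, ker_rho]
      exact hVC hap
    · intro h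
      rw [← MonoidHom.mem_ker, ker_rho] at h
      exact hna h
  have hcardA : Nat.card ↥A' = p := by rw [hA', Nat.card_zpowers, hord]
  have hA'H : A' ≤ H' := by rw [hA'map]; exact map_mono le_top
  have hMin : MinOff p (VV V) H' A' := by
    refine ⟨hA'H, ?_, hcardA⟩
    rw [hF.bestOffender_iff hA'H]
    refine ⟨Helper14.isElementaryAbelian_zpowers (by rw [← hord]; exact pow_orderOf_eq_one _), ?_⟩
    apply le_antisymm
    · exact hF.card_mul_le hA'H
        (Helper14.isElementaryAbelian_zpowers (by rw [← hord]; exact pow_orderOf_eq_one _))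
    · rw [hcardA, hA'map, card_cv, card_VV, centralizer_zpowers,
        ← Helper14.card_mul_relIndex (inf_le_left : V ⊓ centralizer {a} ≤ V), mul_comm]
      exact Nat.mul_le_mul_right _ (relIndex_le_of V hVc hwp hcomm)
  obtain ⟨x, hxK, hxA⟩ := FFS.MinOff.exists_not_centralizing hF hMin
  have P : Pair p (VV V) H' K' A' x := ⟨hF, hMin, hxK, hxA⟩
  have hp3 : p = 3 := P.prime_le_three.resolve_left hp2
  subst hp3
  obtain ⟨z', ⟨hz'D, hz'K⟩, hz'1, hz'c⟩ := P.exists_central
  obtain ⟨z, -, rfl⟩ := hF.hKH hz'K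
  -- `z` commutes with `a` modulo `V`
  have hza : rho V z * rho V a = rho V a * rho V z :=
    ((mem_centralizer_iff.1 hz'c) (rho V a) (le_sup_left (a := A') (mem_zpowers _))).symm
  set u := z * a * z⁻¹ * a⁻¹ with hu
  have huV : u ∈ V := by
    apply hCV
    rw [← ker_rho, MonoidHom.mem_ker, hu, map_mul, map_mul, map_mul, map_inv, map_inv, hza]
    group
  set c := a * u * a⁻¹ * u⁻¹ with hc
  have hcw : c ∈ zpowers w := hcomm u huV
  have hcV : c ∈ V := (zpowers_le.2 hap) hcw
  have haw : a * w = w * a := by rw [hw, ← pow_succ', ← pow_succ]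
  have hac : a * c = c * a := by
    obtain ⟨k, hk⟩ := mem_zpowers_iff.1 hcw
    rw [← hk]
    exact ((show Commute a w from haw).zpow_right k).eq
  have hzw : z * w * z⁻¹ = w := by
    have h1 : z * w * z⁻¹ = (u * a) ^ 3 := by
      rw [hw, ← conj_pow]
      congr 1
      rw [hu]; group
    rw [h1]
    exact norm_three (hV.2 u huV) (hV.2 c hcV) (hVc u huV c hcV) hac (by rw [hc]; group)
  -- a nontrivial commutator
  have hex : ∃ v ∈ V, a * v * a⁻¹ * v⁻¹ ≠ 1 := by
    by_contra hcon
    push Not at hcon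
    apply hna
    rw [mem_centralizer_iff]
    intro v hv
    have := hcon v hv
    rw [mul_inv_eq_one, mul_inv_eq_iff_eq_mul] at this
    exact this.symm
  obtain ⟨v, hvV, hv1⟩ := hex
  set e := a * v * a⁻¹ * v⁻¹ with he
  have heV : e ∈ V := (zpowers_le.2 hap) (hcomm v hvV)
  have hze : z * e * z⁻¹ = e := by
    obtain ⟨k, hk⟩ := mem_zpowers_iff.1 (hcomm v hvV)
    have hk' : w ^ k = e := hk
    rw [← hk', ← conj_zpow, hzw]
  set D' := A' ⊔ cjs x A' with hD'
  set W' := ⁅VV V, D'⁆ with hW'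
  have heW : iot V ⟨e, heV⟩ ∈ W' := by
    have h1 : iot V ⟨e, heV⟩ = rho V a * iot V ⟨v, hvV⟩ * (rho V a)⁻¹ * (iot V ⟨v, hvV⟩)⁻¹ := by
      rw [rho_conj, ← map_inv, ← map_mul]
      congr 1
    rw [h1]
    exact conj_mul_inv_mem_commutator ⟨_, rfl⟩ (le_sup_left (a := A') (mem_zpowers _))
  have hez : iot V ⟨e, heV⟩ ∈ centralizer {rho V z} := by
    rw [mem_centralizer_singleton_iff]
    have h1 := rho_conj V z ⟨e, heV⟩
    have h2 : MulAut.conjNormal z (⟨e, heV⟩ : ↥V) = ⟨e, heV⟩ := by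
      apply Subtype.ext
      rw [MulAut.conjNormal_apply]
      exact hze
    rw [h2, mul_inv_eq_iff_eq_mul] at h1
    exact h1.symm
  have hirr := P.natSL2.irreducible (N := D') (U := W' ⊓ centralizer {rho V z}) P.prime_le_three
    (fun d hd => pow_mem hd 3) inf_le_left (by
      apply le_normalizer_of_conj_mem
      intro d hd y hy
      refine ⟨(mem_normalizer_iff.1 (P.D_le_NW hd) y).1 hy.1, ?_⟩
      have h1 : y * rho V z = rho V z * y := mem_centralizer_singleton_iff.1 hy.2
      have h2 : d * rho V z = rho V z * d := (mem_centralizer_iff.1 hz'c) d hd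
      show d * y * d⁻¹ ∈ centralizer {rho V z}
      rw [mem_centralizer_singleton_iff]
      calc d * y * d⁻¹ * rho V z = d * y * (d⁻¹ * (rho V z * d)) * d⁻¹ := by group
        _ = d * (y * rho V z) * d⁻¹ := by rw [← h2]; group
        _ = (d * rho V z) * y * d⁻¹ := by rw [h1]; group
        _ = rho V z * (d * y * d⁻¹) := by rw [h2]; group)
  rcases hirr with h1 | h1
  · have h2 : iot V ⟨e, heV⟩ ∈ W' ⊓ centralizer {rho V z} := ⟨heW, hez⟩
    rw [h1, mem_bot] at h2
    have h3 := iot_injective V (h2.trans (map_one _).symm)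
    exact hv1 (congrArg Subtype.val h3)
  · have h2 : W' ≤ centralizer {rho V z} := inf_eq_left.1 h1
    have h3 : rho V z ∈ D' ⊓ centralizer (W' : Set (Hol V)) := by
      refine ⟨hz'D, ?_⟩
      rw [← centralizer_zpowers, le_centralizer_iff, zpowers_le] at h2
      exact h2
    rw [P.faithful, mem_bot] at h3
    exact hz'1 h3

theorem mem_of_cyclic_action (hsol : IsPSolvable p X)
    (hV : IsElementaryAbelian p V) (hCV : centralizer (V : Set X) ≤ V) (hOp : pCore p X ≤ V)
    (h : p ≠ 2 ∨ ¬ Involves (Equiv.Perm (Fin 4)) X)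
    (a : X) (hap : a ^ p ∈ V) (hcomm : ∀ v ∈ V, a * v * a⁻¹ * v⁻¹ ∈ zpowers (a ^ p)) :
    a ∈ V := by
  by_cases hp2 : p = 2
  · subst hp2
    have hfree : ¬ Involves (Equiv.Perm (Fin 4)) X := h.resolve_left (fun h => h rfl)
    have hVc : ∀ x ∈ V, ∀ y ∈ V, x * y = y * x :=
      fun x hx y hy => Helper14.IsElementaryAbelian.comm hV hx hy
    obtain ⟨N, hNn, haN, hN⟩ := Helper56.transvection_mem_normal V hVc
      (Helper14.IsElementaryAbelian.isPGroup hV) a ⟨2, by
        have := hV.2 _ hap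
        rw [← pow_mul] at this
        exact this⟩ (relIndex_le_of V hVc (hV.2 _ hap) hcomm) hfree
    have hNp : IsPGroup 2 ↥N := by
      intro n
      obtain ⟨k, hk⟩ := hN n n.2
      refine ⟨k + 1, ?_⟩
      apply Subtype.ext
      rw [Subgroup.coe_pow, Subgroup.coe_one, pow_succ, pow_mul]
      exact hV.2 _ (hCV hk)
    exact hOp (Helper53.le_pCore hNn hNp haN)
  · exact hCV (mem_centralizer_of_cyclic_action_odd V hp2 hsol hV hCV hOp a hap hcomm)

end

end Cfsg.Agent.Lib.Helper55
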