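import Cfsg.Agent.Lib.Helper55.CycNormal
import Cfsg.Agent.Lib.Helper14.QuadAbstract
import Cfsg.Agent.Lib.Helper14.PSolvable
import Cfsg.Agent.Lib.Helper1.Coprime2
import Cfsg.Agent.Lib.Helper3.PGroup

set_option autoImplicit false
set_option linter.unusedSectionVars false

/-! Cyclic normal subgroups of Sylow subgroups of `p`-soluble groups: the reduction. -/

namespace Cfsg.Agent.Lib.Helper55

open Cfsg Subgroup
open scoped commutatorElement Pointwise

universe u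

variable {Y : Type u} [Group Y] [Finite Y] {p : ℕ} [hp : Fact p.Prime]

/-- The Frattini subgroup of `O_p(Y)`, inside `Y`. -/
abbrev frO (p : ℕ) (Y : Type u) [Group Y] : Subgroup Y :=
  (frattini ↥(pCore p Y)).map (pCore p Y).subtype

instance frO_normal : (frO p Y).Normal := by
  haveI := Helper53.pCore_characteristic p Y
  infer_instance

theorem frO_le : frO p Y ≤ pCore p Y := map_subtype_le _

theorem elemAb_frQ : IsElementaryAbelian p ((pCore p Y).map (QuotientGroup.mk' (frO p Y))) := by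
  have hPp : IsPGroup p ↥(pCore p Y) := Helper53.pCore_isPGroup p Y
  rw [Helper14.isElementaryAbelian_iff]
  constructor
  · rintro _ ⟨x, hx, rfl⟩ _ ⟨y, hy, rfl⟩
    rw [← map_mul, ← map_mul]
    apply (QuotientGroup.eq).mpr
    have h1 : ⁅(⟨y, hy⟩ : ↥(pCore p Y))⁻¹, (⟨x, hx⟩ : ↥(pCore p Y))⁻¹⁆ ∈ frattini ↥(pCore p Y) :=
      Helper3.commutator_le_frattini hPp
        (Subgroup.commutator_mem_commutator (Subgroup.mem_top _) (Subgroup.mem_top _))
    refine ⟨_, h1, ?_⟩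
    simp only [commutatorElement_def, Subgroup.subtype_apply, Subgroup.coe_mul,
      InvMemClass.coe_inv, inv_inv]
    group
  · rintro _ ⟨x, hx, rfl⟩
    rw [← map_pow]
    apply (QuotientGroup.eq_one_iff _).mpr
    exact ⟨_, Helper3.pow_p_mem_frattini hPp ⟨x, hx⟩, rfl⟩

theorem centralizer_frQ_le (hsol : IsPSolvable p Y) (hO : pPrimeCore p Y = ⊥) :
    centralizer (((pCore p Y).map (QuotientGroup.mk' (frO p Y)) : Subgroup (Y ⧸ frO p Y)) :
      Set (Y ⧸ frO p Y)) ≤ (pCore p Y).map (QuotientGroup.mk' (frO p Y)) := by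
  set Q := pCore p Y with hQ
  set π := QuotientGroup.mk' (frO p Y) with hπ
  have hQn : Q.Normal := Helper53.pCore_normal p Y
  have hVn : (Q.map π).Normal := hQn.map π (QuotientGroup.mk'_surjective _)
  set C := (centralizer ((Q.map π : Subgroup (Y ⧸ frO p Y)) : Set (Y ⧸ frO p Y))).comap π with hC
  have hCn : C.Normal := by
    rw [hC]
    exact Subgroup.Normal.comap Subgroup.normal_centralizer π
  have hCp : IsPGroup p ↥C := by
    intro c
    obtain ⟨k, hk⟩ := Helper53.exists_pow_coprime (p := p) (c : Y)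
    refine ⟨k, ?_⟩
    apply Subtype.ext
    rw [Subgroup.coe_pow, Subgroup.coe_one]
    set c' := (c : Y) ^ p ^ k with hc'
    have hc'C : c' ∈ C := pow_mem c.2 _
    have h1 : zpowers c' ≤ centralizer (Q : Set Y) := by
      apply Helper1.coprime_trivial_on_frattini_quotient
      · rw [normalizer_eq_top]; exact le_top
      · rw [Nat.card_zpowers]
        obtain ⟨n, hn⟩ := ((Helper53.pCore_isPGroup p Y).to_subgroup (frattini ↥Q)).exists_card_eq
        rw [hn]
        exact Nat.Coprime.pow_right n hk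
      · intro r hr q hq
        have hrC : r ∈ C := (zpowers_le.2 hc'C) hr
        have h2 : π q * π r = π r * π q := (mem_centralizer_iff.1 hrC) (π q) ⟨q, hq, rfl⟩
        have h3 : π (r * q * r⁻¹ * q⁻¹) = 1 := by
          rw [map_mul, map_mul, map_mul, map_inv, map_inv, ← h2]; group
        exact (QuotientGroup.eq_one_iff _).1 h3
    have h2 : c' ∈ Q :=
      Helper14.centralizer_pCore_le_of_isPSolvable hsol hO (h1 (mem_zpowers c'))
    obtain ⟨j, hj⟩ := (Helper53.pCore_isPGroup p Y) ⟨c', h2⟩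
    have hj' : c' ^ p ^ j = 1 := congrArg Subtype.val hj
    have h3 : orderOf c' ∣ p ^ j := orderOf_dvd_of_pow_eq_one hj'
    have h4 : orderOf c' = 1 := Nat.Coprime.eq_one_of_dvd (Nat.Coprime.pow_right j hk) h3
    exact orderOf_eq_one_iff.1 h4
  have hCQ : C ≤ Q := Helper53.le_pCore hCn hCp
  intro x hx
  obtain ⟨y, rfl⟩ := QuotientGroup.mk'_surjective (frO p Y) x
  exact ⟨y, hCQ hx, rfl⟩

theorem pCore_frQ_le :
    pCore p (Y ⧸ frO p Y) ≤ (pCore p Y).map (QuotientGroup.mk' (frO p Y)) := by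
  set π := QuotientGroup.mk' (frO p Y) with hπ
  have h1 : IsPGroup p ↥((pCore p (Y ⧸ frO p Y)).comap π) := by
    apply (Helper53.pCore_isPGroup p _).comap_of_ker_isPGroup
    rw [hπ, QuotientGroup.ker_mk']
    exact (Helper53.pCore_isPGroup p Y).to_le frO_le
  have h2 : ((pCore p (Y ⧸ frO p Y)).comap π).Normal :=
    (Helper53.pCore_normal p _).comap π
  intro x hx
  obtain ⟨y, rfl⟩ := QuotientGroup.mk'_surjective (frO p Y) x
  exact ⟨y, Helper53.le_pCore h2 h1 hx, rfl⟩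

/-- In a cyclic `p`-group `⟨g⟩`, the subgroup `⟨g⟩ ∩ Q` is generated by the first power
`g ^ (p ^ m)` lying in `Q`. -/
theorem exists_first_power {Q : Subgroup Y} {g : Y} (hg : ∃ N : ℕ, g ^ p ^ N = 1) (hgQ : g ∉ Q) :
    ∃ a₀ ∈ zpowers g, a₀ ∉ Q ∧ a₀ ^ p ∈ Q ∧ ∀ t ∈ zpowers g, t ∈ Q → t ∈ zpowers (a₀ ^ p) := by
  classical
  obtain ⟨N, hN⟩ := hg
  have hex : ∃ m : ℕ, g ^ p ^ m ∈ Q := ⟨N, hN ▸ one_mem Q⟩
  set m := Nat.find hex with hm
  have hmQ : g ^ p ^ m ∈ Q := Nat.find_spec hex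
  have hm0 : m ≠ 0 := by
    intro h0
    rw [h0, pow_zero, pow_one] at hmQ
    exact hgQ hmQ
  obtain ⟨m', hm'⟩ := Nat.exists_eq_succ_of_ne_zero hm0
  have hpow : (g ^ p ^ m') ^ p = g ^ p ^ m := by rw [← pow_mul, ← pow_succ, hm']
  refine ⟨g ^ p ^ m', pow_mem (mem_zpowers g) _, ?_, ?_, ?_⟩
  · exact Nat.find_min hex (by rw [← hm, hm']; exact Nat.lt_succ_self m')
  · rw [hpow]; exact hmQ
  · intro t ht htQ
    rw [hpow]
    obtain ⟨j, rfl⟩ := mem_zpowers_iff.1 ht
    set d := Int.gcd j (p ^ N : ℕ) with hd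
    have hdQ : g ^ d ∈ Q := by
      have h1 := Int.gcd_eq_gcd_ab j (p ^ N : ℕ)
      have h2 : g ^ (d : ℤ) = (g ^ j) ^ (Int.gcdA j (p ^ N : ℕ)) := by
        rw [hd, h1, zpow_add, zpow_mul, zpow_mul, zpow_natCast, hN, one_zpow, mul_one]
      rw [← zpow_natCast, h2]
      exact zpow_mem htQ _
    have hdvd : d ∣ p ^ N := by
      have := Int.gcd_dvd_right j (p ^ N : ℕ)
      exact_mod_cast this
    obtain ⟨i, -, hi⟩ := (Nat.dvd_prime_pow hp.out).1 hdvd
    have hmi : m ≤ i := Nat.find_min' hex (hi ▸ hdQ)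
    have h3 : ((p ^ m : ℕ) : ℤ) ∣ j := by
      have h4 : ((d : ℕ) : ℤ) ∣ j := Int.gcd_dvd_left j (p ^ N : ℕ)
      refine dvd_trans ?_ h4
      rw [hi]
      exact_mod_cast pow_dvd_pow p hmi
    obtain ⟨j', rfl⟩ := h3
    rw [zpow_mul, zpow_natCast]
    exact zpow_mem (mem_zpowers _) _

theorem cyclic_normal_le_pCore (hsol : IsPSolvable p Y) (hO : pPrimeCore p Y = ⊥)
    (h : p ≠ 2 ∨ ¬ Involves (Equiv.Perm (Fin 4)) Y) {P A : Subgroup Y} (hP : IsPGroup p ↥P)
    (hQP : pCore p Y ≤ P) (hAP : A ≤ P) (hAn : P ≤ normalizer (A : Set Y)) (hA : IsCyclic ↥A) :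
    A ≤ pCore p Y := by
  by_contra hcon
  set Q := pCore p Y with hQ
  have hQn : Q.Normal := Helper53.pCore_normal p Y
  obtain ⟨⟨g, hgA⟩, hgen⟩ := hA.exists_generator
  have hAz : A = zpowers g := by
    apply le_antisymm
    · intro t ht
      obtain ⟨k, hk⟩ := mem_zpowers_iff.1 (hgen ⟨t, ht⟩)
      rw [mem_zpowers_iff]
      exact ⟨k, by simpa using congrArg Subtype.val hk⟩
    · exact zpowers_le.2 hgA
  have hgQ : g ∉ Q := by
    intro h1
    apply hcon
    rw [hAz]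
    exact zpowers_le.2 h1
  have hgp : ∃ N : ℕ, g ^ p ^ N = 1 := by
    obtain ⟨N, hN⟩ := hP ⟨g, hAP hgA⟩
    exact ⟨N, congrArg Subtype.val hN⟩
  obtain ⟨a₀, ha₀A, ha₀Q, ha₀p, hfirst⟩ := exists_first_power hgp hgQ
  rw [← hAz] at ha₀A hfirst
  set π := QuotientGroup.mk' (frO p Y) with hπ
  have hVn : (Q.map π).Normal := hQn.map π (QuotientGroup.mk'_surjective _)
  have key := mem_of_cyclic_action (Q.map π) (Helper14.IsPSolvable.quotient hsol _) elemAb_frQ
    (centralizer_frQ_le hsol hO) pCore_frQ_le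
    (h.imp id (fun h1 h2 => h1 (Helper14.involves_of_quotient _ h2))) (π a₀)
    (by rw [← map_pow]; exact ⟨_, ha₀p, rfl⟩) (by
      rintro _ ⟨y, hy, rfl⟩
      rw [← map_pow, ← MonoidHom.map_zpowers, ← map_inv, ← map_inv, ← map_mul, ← map_mul,
        ← map_mul]
      refine ⟨_, hfirst _ ?_ ?_, rfl⟩
      · have h1 : y * a₀⁻¹ * y⁻¹ ∈ A :=
          (mem_normalizer_iff.1 (hAn (hQP hy)) _).1 (inv_mem ha₀A)
        have e : a₀ * y * a₀⁻¹ * y⁻¹ = a₀ * (y * a₀⁻¹ * y⁻¹) := by group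
        rw [e]
        exact mul_mem ha₀A h1
      · exact mul_mem (hQn.conj_mem y hy a₀) (inv_mem hy))
  obtain ⟨q, hq, hqa⟩ := key
  apply ha₀Q
  have h1 : q⁻¹ * a₀ ∈ frO p Y := (QuotientGroup.eq).1 hqa
  have h2 := mul_mem hq (frO_le h1)
  rwa [mul_inv_cancel_left] at h2

end Cfsg.Agent.Lib.Helper55
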