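import Mathlib
import Cfsg.Agent.Lib.Helper54.CoprimeGen
import Cfsg.Agent.Lib.Helper14.AxB
import Cfsg.Agent.Lib.Helper14.Thompson
import Cfsg.Agent.Lib.Helper80.Cores

set_option autoImplicit false

namespace Cfsg.Agent.Lib.Helper55

open Cfsg Subgroup
open Cfsg.Agent.Lib.Helper14 (IsElementaryAbelian.comm IsElementaryAbelian.isPGroup
  IsElementaryAbelian.mono)

variable {G : Type*} [Group G]

/-- `B` is a subgroup of `A` with `A / B` cyclic. -/
def Hyp (A B : Subgroup G) : Prop := B ≤ A ∧ ∃ a ∈ A, B ⊔ zpowers a = A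

theorem le_centralizer_of_elemAb {p : ℕ} {A B : Subgroup G} (hA : IsElementaryAbelian p A)
    (hBA : B ≤ A) : A ≤ centralizer (B : Set G) := by
  intro a ha
  rw [mem_centralizer_iff]
  intro b hb
  exact IsElementaryAbelian.comm hA (hBA hb) ha

theorem isSolvable_of_elemAb {p : ℕ} {A : Subgroup G} (hA : IsElementaryAbelian p A) :
    Group.IsSolvable ↥A := by
  exact Group.isSolvable_of_comm (fun a b => Subtype.ext (IsElementaryAbelian.comm hA a.2 b.2))

theorem coprime_card_of_elemAb [Finite G] {p : ℕ} [Fact p.Prime] {A K : Subgroup G}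
    (hA : IsElementaryAbelian p A) (hK : (Nat.card ↥K).Coprime p) :
    (Nat.card ↥A).Coprime (Nat.card ↥K) := by
  obtain ⟨n, hn⟩ := IsPGroup.iff_card.1 (IsElementaryAbelian.isPGroup hA)
  rw [hn]
  exact (Nat.Coprime.pow_right n hK).symm

/-- `A` normalizes `C_K(B)` when `A` is abelian, contains `B` and normalizes `K`. -/
theorem le_normalizer_inf_centralizer {p : ℕ} {A B K : Subgroup G}
    (hA : IsElementaryAbelian p A) (hBA : B ≤ A) (hAK : A ≤ normalizer (K : Set G)) :
    A ≤ normalizer ((K ⊓ centralizer (B : Set G) : Subgroup G) : Set G) := by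
  refine Helper30.le_normalizer_inf hAK ?_
  refine (le_centralizer_of_elemAb hA hBA).trans ?_
  intro x hx
  rw [mem_normalizer_iff]
  intro y
  constructor
  · intro hy
    exact mul_mem (mul_mem hx hy) (inv_mem hx)
  · intro hy
    have := mul_mem (mul_mem (inv_mem hx) hy) hx
    simpa [mul_assoc] using this

/-- Generation of a `p'`-group by the centralizers of the hyperplanes of an elementary abelian
`p`-group acting on it. -/
theorem hyperplane_generation [Finite G] {p : ℕ} [Fact p.Prime] {A : Subgroup G}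
    (hA : IsElementaryAbelian p A) :
    ∀ (n : ℕ) (K : Subgroup G), Nat.card ↥K = n → A ≤ normalizer (K : Set G) →
      (Nat.card ↥K).Coprime p →
      K ≤ ⨆ B ∈ {B : Subgroup G | Hyp A B}, K ⊓ centralizer (B : Set G) := by
  intro n
  induction n using Nat.strong_induction_on with
  | _ n ih =>
  intro K hn hAK hK
  set C := A ⊓ centralizer (K : Set G) with hC
  by_cases hcyc : ∃ a ∈ A, C ⊔ zpowers a = A
  · have hmem : C ∈ {B : Subgroup G | Hyp A B} := ⟨inf_le_left, hcyc⟩
    refine le_trans ?_ (le_iSup₂ (f := fun (B : Subgroup G) (_ : B ∈ {B : Subgroup G | Hyp A B}) =>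
      K ⊓ centralizer (B : Set G)) C hmem)
    refine le_inf le_rfl ?_
    rw [le_centralizer_iff]
    exact inf_le_right
  · push Not at hcyc
    have hex : ∃ a ∈ A, a ∉ C := by
      by_contra hcon
      push Not at hcon
      apply hcyc 1 A.one_mem
      rw [zpowers_one_eq_bot, sup_bot_eq]
      exact le_antisymm inf_le_left hcon
    obtain ⟨a, haA, haC⟩ := hex
    have hex2 : ∃ b ∈ A, b ∉ C ⊔ zpowers a := by
      by_contra hcon
      push Not at hcon
      apply hcyc a haA
      exact le_antisymm (sup_le inf_le_left (by rwa [zpowers_le])) hcon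
    obtain ⟨b, hbA, hbC⟩ := hex2
    have hpK : ¬ p ∣ Nat.card ↥K := by
      intro h
      have := Nat.dvd_gcd h (dvd_refl p)
      rw [hK] at this
      exact (Fact.out : p.Prime).one_lt.ne' (Nat.dvd_one.mp this)
    have hgen := Helper54.le_genC p hAK (coprime_card_of_elemAb hA hK) (isSolvable_of_elemAb hA)
      haA hbA (IsElementaryAbelian.comm hA haA hbA) (hA.2 a haA) (hA.2 b hbA) hpK
    -- the inductive step for one fixed point subgroup
    have hstep : ∀ c ∈ A, c ∉ C → K ⊓ centralizer {c} ≤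
        ⨆ B ∈ {B : Subgroup G | Hyp A B}, K ⊓ centralizer (B : Set G) := by
      intro c hcA hcC
      have hlt : K ⊓ centralizer {c} < K := by
        refine lt_of_le_of_ne inf_le_left fun heq => hcC (mem_inf.2 ⟨hcA, ?_⟩)
        rw [mem_centralizer_iff]
        intro k hk
        have hk' : k ∈ K ⊓ centralizer {c} := by rw [heq]; exact hk
        exact (mem_centralizer_iff.1 hk'.2 c rfl).symm
      have hnorm : A ≤ normalizer ((K ⊓ centralizer {c} : Subgroup G) : Set G) := by
        have := le_normalizer_inf_centralizer hA (B := zpowers c) (by rwa [zpowers_le]) hAK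
        rwa [show centralizer ((zpowers c : Subgroup G) : Set G) = centralizer {c} from by
          rw [zpowers_eq_closure, centralizer_closure]] at this
      have hcard := Helper14.card_lt_card_of_lt hlt
      have := ih _ (hn ▸ hcard) (K ⊓ centralizer {c}) rfl hnorm
        (Nat.Coprime.coprime_dvd_left (card_dvd_of_le inf_le_left) hK)
      refine this.trans (iSup₂_mono fun B _ => inf_le_inf_right _ inf_le_left)
    refine hgen.trans (sup_le (hstep a haA haC) (iSup_le fun i => hstep _ ?_ ?_))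
    · exact A.mul_mem (A.pow_mem haA i) hbA
    · intro hmem
      apply hbC
      have : b = (a ^ i)⁻¹ * (a ^ i * b) := by group
      rw [this]
      exact mul_mem (inv_mem (pow_mem (le_sup_right (a := C) (mem_zpowers a)) i))
        (le_sup_left (b := zpowers a) hmem)

/-- A hyperplane avoiding a prescribed element and with `A` acting nontrivially on its centralizer. -/
theorem exists_hyp [Finite G] {p : ℕ} [Fact p.Prime] {A K : Subgroup G}
    (hA : IsElementaryAbelian p A) (hAK : A ≤ normalizer (K : Set G))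
    (hK : (Nat.card ↥K).Coprime p) {b₀ : G} (hb₀ : b₀ ∈ A) (hb₀K : b₀ ∉ centralizer (K : Set G)) :
    ∃ B, Hyp A B ∧ ¬ (K ⊓ centralizer (B : Set G) ≤ centralizer (A : Set G)) ∧ b₀ ∉ B := by
  by_contra hcon
  push Not at hcon
  apply hb₀K
  have h1 : K ≤ centralizer {b₀} := by
    refine (hyperplane_generation hA _ K rfl hAK hK).trans (iSup₂_le fun B hB => ?_)
    by_cases h : K ⊓ centralizer (B : Set G) ≤ centralizer (A : Set G)
    · exact h.trans (centralizer_le (by simpa using hb₀))
    · exact inf_le_right.trans (centralizer_le (by simpa using hcon B hB h))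
  rw [mem_centralizer_iff]
  intro k hk
  exact (mem_centralizer_iff.1 (h1 hk) b₀ rfl).symm

/-- The `A × B`-lemma step: fixed points on `V` grow when passing to a good hyperplane. -/
theorem cv_lt_of_hyp [Finite G] {p : ℕ} [Fact p.Prime] {V A B K : Subgroup G}
    (hV : IsPGroup p ↥V) (hAV : A ≤ normalizer (V : Set G)) (hKV : K ≤ normalizer (V : Set G))
    (hKf : K ⊓ centralizer (V : Set G) = ⊥) (hK : (Nat.card ↥K).Coprime p)
    (hAK : A ≤ normalizer (K : Set G)) (hA : IsElementaryAbelian p A) (hBA : B ≤ A)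
    (hne : ¬ (K ⊓ centralizer (B : Set G) ≤ centralizer (A : Set G))) :
    V ⊓ centralizer (A : Set G) < V ⊓ centralizer (B : Set G) := by
  refine lt_of_le_of_ne (inf_le_inf_left _ (centralizer_le hBA)) fun heq => hne ?_
  intro x hx
  rw [mem_centralizer_iff]
  intro a ha
  set y := x * a * x⁻¹ * a⁻¹ with hy
  have haB : a ∈ centralizer (B : Set G) := le_centralizer_of_elemAb hA hBA ha
  have hyK : y ∈ K := by
    have h2 : a * x⁻¹ * a⁻¹ ∈ K := (mem_normalizer_iff.mp (hAK ha) x⁻¹).mp (K.inv_mem hx.1)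
    have : y = x * (a * x⁻¹ * a⁻¹) := by rw [hy]; group
    rw [this]
    exact K.mul_mem hx.1 h2
  have hyB : y ∈ centralizer (B : Set G) :=
    mul_mem (mul_mem (mul_mem hx.2 haB) (inv_mem hx.2)) (inv_mem haB)
  have hyo : (orderOf y).Coprime p :=
    Nat.Coprime.coprime_dvd_left (orderOf_dvd_natCard (⟨y, hyK⟩ : ↥K) |> fun h => by
      rwa [Subgroup.orderOf_mk] at h) hK
  have hyC : y ∈ centralizer ((V ⊓ centralizer (B : Set G) : Subgroup G) : Set G) := by
    rw [mem_centralizer_iff]
    intro w hw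
    have hw' : x⁻¹ * w * x ∈ V ⊓ centralizer (B : Set G) := by
      refine mem_inf.2 ⟨?_, mul_mem (mul_mem (inv_mem hx.2) hw.2) hx.2⟩
      have := (mem_normalizer_iff.mp (inv_mem (hKV hx.1)) w).mp hw.1
      simpa using this
    have c1 : a * w = w * a := mem_centralizer_iff.1 (heq ▸ hw : w ∈ V ⊓ centralizer (A : Set G)).2 a ha
    have c2 : a * (x⁻¹ * w * x) = (x⁻¹ * w * x) * a :=
      mem_centralizer_iff.1 (heq ▸ hw' : _ ∈ V ⊓ centralizer (A : Set G)).2 a ha
    have c1' : a⁻¹ * w = w * a⁻¹ := by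
      have : w = a * w * a⁻¹ := by rw [c1]; group
      calc a⁻¹ * w = a⁻¹ * (a * w * a⁻¹) := by rw [← this]
        _ = w * a⁻¹ := by group
    calc w * y = x * ((x⁻¹ * w * x) * a) * x⁻¹ * a⁻¹ := by rw [hy]; group
      _ = x * (a * (x⁻¹ * w * x)) * x⁻¹ * a⁻¹ := by rw [c2]
      _ = x * a * x⁻¹ * (w * a⁻¹) := by group
      _ = x * a * x⁻¹ * (a⁻¹ * w) := by rw [c1']
      _ = y * w := by rw [hy]; group
  have hyV := Helper14.thompson_AxB B y ((IsElementaryAbelian.isPGroup hA).to_le hBA) hyo hyB V hV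
    (hKV hyK) (hBA.trans hAV) hyC
  have hy1 : y = 1 := by
    have : y ∈ K ⊓ centralizer (V : Set G) := ⟨hyK, hyV⟩
    rwa [hKf, mem_bot] at this
  have : x * a = a * x := by
    have h3 : x * a * x⁻¹ * a⁻¹ = 1 := hy1
    calc x * a = (x * a * x⁻¹ * a⁻¹) * (a * x) := by group
      _ = a * x := by rw [h3, one_mul]
  exact this.symm

theorem Hyp.card_dvd {p : ℕ} {A B : Subgroup G} (hA : IsElementaryAbelian p A) (h : Hyp A B) :
    Nat.card ↥A ∣ Nat.card ↥B * p := by
  obtain ⟨hBA, a, ha, hsup⟩ := h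
  have h1 := Helper80.card_sup_dvd' B (zpowers a) (by
    intro b hb
    rw [mem_normalizer_iff]
    intro y
    have hcomm : ∀ y ∈ zpowers a, b * y * b⁻¹ = y := by
      intro y hy
      have hyA : y ∈ A := (zpowers_le.2 ha) hy
      rw [IsElementaryAbelian.comm hA (hBA hb) hyA]; group
    constructor
    · intro hy; rw [hcomm y hy]; exact hy
    · intro hy
      have h2 := hcomm _ hy
      have : y = b⁻¹ * (b * y * b⁻¹) * b := by group
      have hb' : b⁻¹ * (b * y * b⁻¹) * b = b * y * b⁻¹ := by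
        have hyA : b * y * b⁻¹ ∈ A := (zpowers_le.2 ha) hy
        rw [mul_assoc, IsElementaryAbelian.comm hA hyA (hBA hb)]; group
      rw [this, hb']; exact hy)
  rw [hsup] at h1
  refine h1.trans (Nat.mul_dvd_mul_left _ ?_)
  rw [Nat.card_zpowers]
  exact orderOf_dvd_of_pow_eq_one (hA.2 a ha)

theorem card_eq_mul_of_hyp [Finite G] {p : ℕ} [hp : Fact p.Prime] {A B : Subgroup G}
    (hA : IsElementaryAbelian p A) (h : Hyp A B) (hne : B ≠ A) :
    Nat.card ↥A = Nat.card ↥B * p := by
  have h1 := h.card_dvd hA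
  obtain ⟨k, hk⟩ := card_dvd_of_le h.1
  rw [hk] at h1 ⊢
  have hpos : 0 < Nat.card ↥B := Nat.card_pos
  have h2 : k ∣ p := Nat.dvd_of_mul_dvd_mul_left hpos h1
  rcases (Nat.dvd_prime hp.out).1 h2 with rfl | rfl
  · exfalso
    apply hne
    exact eq_of_le_of_card_ge h.1 (by rw [hk, mul_one])
  · rfl

/-- A proper subgroup of a `p`-group has index at least `p`. -/
theorem mul_card_le_of_lt [Finite G] {p : ℕ} [hp : Fact p.Prime] {X Y : Subgroup G}
    (hY : IsPGroup p ↥Y) (hlt : X < Y) : p * Nat.card ↥X ≤ Nat.card ↥Y := by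
  obtain ⟨m, hm⟩ := IsPGroup.iff_card.1 hY
  obtain ⟨n, hn⟩ := IsPGroup.iff_card.1 (hY.to_le hlt.le)
  have h1 := Helper14.card_lt_card_of_lt hlt
  rw [hm, hn] at h1 ⊢
  have h2 : n < m := (Nat.pow_lt_pow_iff_right hp.out.one_lt).1 h1
  calc p * p ^ n = p ^ (n + 1) := by rw [pow_succ]; ring
    _ ≤ p ^ m := Nat.pow_le_pow_right hp.out.pos h2

/-- No over-offenders: `|A : C_A(K)| ≤ |V : C_V(A)|`. -/
theorem no_over_offender [Finite G] {p : ℕ} [Fact p.Prime] {V K : Subgroup G}
    (hV : IsPGroup p ↥V) (hKV : K ≤ normalizer (V : Set G))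
    (hKf : K ⊓ centralizer (V : Set G) = ⊥) (hK : (Nat.card ↥K).Coprime p) :
    ∀ (n : ℕ) (A : Subgroup G), Nat.card ↥A = n → IsElementaryAbelian p A →
      A ≤ normalizer (V : Set G) → A ≤ normalizer (K : Set G) →
      Nat.card ↥A * Nat.card ↥(V ⊓ centralizer (A : Set G)) ≤
        Nat.card ↥(A ⊓ centralizer (K : Set G)) * Nat.card ↥V := by
  intro n
  induction n using Nat.strong_induction_on with
  | _ n ih =>
  intro A hn hA hAV hAK
  by_cases hAC : A ≤ centralizer (K : Set G)
  · rw [inf_of_le_left hAC]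
    exact Nat.mul_le_mul_left _ (card_le_of_le inf_le_left)
  · obtain ⟨b₀, hb₀, hb₀K⟩ := SetLike.not_le_iff_exists.1 hAC
    obtain ⟨B, hB, hBne, -⟩ := exists_hyp hA hAK hK hb₀ hb₀K
    have hBA : B ≠ A := by
      rintro rfl
      exact hBne inf_le_right
    have hcard := card_eq_mul_of_hyp hA hB hBA
    have hlt := cv_lt_of_hyp hV hAV hKV hKf hK hAK hA hB.1 hBne
    have h1 := mul_card_le_of_lt (hV.to_le inf_le_left) hlt
    have h2 := ih (Nat.card ↥B) (by
      rw [← hn]; exact Helper14.card_lt_card_of_lt (lt_of_le_of_ne hB.1 hBA)) B rfl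
      (IsElementaryAbelian.mono hA hB.1) (hB.1.trans hAV) (hB.1.trans hAK)
    have h3 : Nat.card ↥(B ⊓ centralizer (K : Set G)) ≤ Nat.card ↥(A ⊓ centralizer (K : Set G)) :=
      card_le_of_le (inf_le_inf_right _ hB.1)
    calc Nat.card ↥A * Nat.card ↥(V ⊓ centralizer (A : Set G))
        = Nat.card ↥B * (p * Nat.card ↥(V ⊓ centralizer (A : Set G))) := by rw [hcard]; ring
      _ ≤ Nat.card ↥B * Nat.card ↥(V ⊓ centralizer (B : Set G)) := Nat.mul_le_mul_left _ h1
      _ ≤ Nat.card ↥(B ⊓ centralizer (K : Set G)) * Nat.card ↥V := h2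
      _ ≤ _ := Nat.mul_le_mul_right _ h3

end Cfsg.Agent.Lib.Helper55
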