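import Cfsg.Agent.Lib.Helper55.FF1
import Cfsg.Agent.Lib.Helper28.Cores
import Cfsg.Agent.Lib.Helper14.Sup

set_option autoImplicit false
set_option linter.unusedSectionVars false

namespace Cfsg.Agent.Lib.Helper55

open Cfsg Subgroup
open scoped commutatorElement
open Cfsg.Agent.Lib.Helper14 (IsElementaryAbelian.comm IsElementaryAbelian.isPGroup
  IsElementaryAbelian.mono isElementaryAbelian_iff)

variable {G : Type*} [Group G]

section StabQ

/-- The elements of `N(V)` acting trivially on `V / W`. -/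
def stabQ (V W : Subgroup G) : Subgroup G where
  carrier := {t | t ∈ normalizer (V : Set G) ∧ ∀ v ∈ V, v * t * v⁻¹ * t⁻¹ ∈ W ⊓ V}
  one_mem' := ⟨Subgroup.one_mem _, fun v _ => by simp⟩
  mul_mem' := by
    rintro s t ⟨hs, hs'⟩ ⟨ht, ht'⟩
    refine ⟨mul_mem hs ht, fun v hv => ?_⟩
    have h1 := hs' v hv
    have h2 := ht' v hv
    have h3 := hs' _ h2.2
    -- s w s⁻¹ = (w s w⁻¹ s⁻¹)⁻¹ w
    have : v * (s * t) * v⁻¹ * (s * t)⁻¹ =
        (v * s * v⁻¹ * s⁻¹) * (((v * t * v⁻¹ * t⁻¹) * s * (v * t * v⁻¹ * t⁻¹)⁻¹ * s⁻¹)⁻¹ *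
          (v * t * v⁻¹ * t⁻¹)) := by group
    rw [this]
    exact mul_mem h1 (mul_mem (inv_mem h3) h2)
  inv_mem' := by
    rintro t ⟨ht, ht'⟩
    refine ⟨inv_mem ht, fun v hv => ?_⟩
    have hv' : t⁻¹ * v * t ∈ V := by
      have := (mem_normalizer_iff.mp (inv_mem ht) v).mp hv
      simpa using this
    have h1 := ht' _ hv'
    have : v * t⁻¹ * v⁻¹ * t⁻¹⁻¹ = ((t⁻¹ * v * t) * t * (t⁻¹ * v * t)⁻¹ * t⁻¹)⁻¹ := by group
    rw [this]
    exact inv_mem h1

theorem mem_stabQ {V W : Subgroup G} {t : G} :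
    t ∈ stabQ V W ↔ t ∈ normalizer (V : Set G) ∧ ∀ v ∈ V, v * t * v⁻¹ * t⁻¹ ∈ W ⊓ V := Iff.rfl

theorem commutator_le_of_le_stabQ {V W X : Subgroup G} (h : X ≤ stabQ V W) : ⁅V, X⁆ ≤ W := by
  rw [commutator_le]
  intro v hv x hx
  exact ((h hx).2 v hv).1

theorem le_stabQ_of_commutator_le {V W X : Subgroup G} (hX : X ≤ normalizer (V : Set G))
    (h : ⁅V, X⁆ ≤ W) : X ≤ stabQ V W := by
  intro x hx
  refine ⟨hX hx, fun v hv => ⟨h (commutator_mem_commutator hv hx), ?_⟩⟩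
  exact Helper30.commutator_le_of_le_normalizer hX (commutator_mem_commutator hv hx)

end StabQ

section CommHom

/-- The commutator map `v ↦ [v, a]` on an abelian subgroup normalized by `a`. -/
def commHom (V : Subgroup G) (hVc : ∀ x ∈ V, ∀ y ∈ V, x * y = y * x) (a : G)
    (ha : a ∈ normalizer (V : Set G)) : ↥V →* ↥V where
  toFun v := ⟨v * a * (v : G)⁻¹ * a⁻¹, by
    have h2 : a * (v : G)⁻¹ * a⁻¹ ∈ V := (mem_normalizer_iff.mp ha _).mp (V.inv_mem v.2)
    have : (v : G) * a * (v : G)⁻¹ * a⁻¹ = v * (a * (v : G)⁻¹ * a⁻¹) := by group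
    rw [this]
    exact V.mul_mem v.2 h2⟩
  map_one' := by ext; simp
  map_mul' := by
    intro v w
    ext
    have h2 : a * (v : G)⁻¹ * a⁻¹ ∈ V := (mem_normalizer_iff.mp ha _).mp (V.inv_mem v.2)
    have h3 : a * (w : G)⁻¹ * a⁻¹ ∈ V := (mem_normalizer_iff.mp ha _).mp (V.inv_mem w.2)
    have c1 := hVc _ h3 _ h2
    have c2 := hVc _ w.2 _ h2
    simp only [Subgroup.coe_mul]
    calc (v : G) * w * a * ((v : G) * w)⁻¹ * a⁻¹
        = v * w * ((a * (w : G)⁻¹ * a⁻¹) * (a * (v : G)⁻¹ * a⁻¹)) := by group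
      _ = v * w * ((a * (v : G)⁻¹ * a⁻¹) * (a * (w : G)⁻¹ * a⁻¹)) := by rw [c1]
      _ = v * (w * (a * (v : G)⁻¹ * a⁻¹)) * (a * (w : G)⁻¹ * a⁻¹) := by group
      _ = v * ((a * (v : G)⁻¹ * a⁻¹) * w) * (a * (w : G)⁻¹ * a⁻¹) := by rw [c2]
      _ = _ := by group

theorem commHom_ker (V : Subgroup G) (hVc : ∀ x ∈ V, ∀ y ∈ V, x * y = y * x) (a : G)
    (ha : a ∈ normalizer (V : Set G)) :
    (commHom V hVc a ha).ker = (V ⊓ centralizer {a}).subgroupOf V := by
  ext v
  rw [MonoidHom.mem_ker, mem_subgroupOf, mem_inf, mem_centralizer_iff]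
  constructor
  · intro h
    have h1 : (v : G) * a * (v : G)⁻¹ * a⁻¹ = 1 := congrArg Subtype.val h
    refine ⟨v.2, ?_⟩
    intro b hb
    rw [Set.mem_singleton_iff] at hb
    subst hb
    calc b * v = ((v : G) * b * (v : G)⁻¹ * b⁻¹)⁻¹ * (v * b) := by group
      _ = v * b := by rw [h1]; simp
  · rintro ⟨-, h⟩
    apply Subtype.ext
    show (v : G) * a * (v : G)⁻¹ * a⁻¹ = 1
    rw [← h a rfl]
    group

theorem commutator_zpowers_eq [Finite G] (V : Subgroup G)
    (hVc : ∀ x ∈ V, ∀ y ∈ V, x * y = y * x) (a : G) (ha : a ∈ normalizer (V : Set G)) :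
    ⁅V, zpowers a⁆ = (commHom V hVc a ha).range.map V.subtype := by
  apply le_antisymm
  · apply commutator_le_of_le_stabQ
    rw [zpowers_le]
    refine ⟨ha, fun v hv => ⟨?_, ?_⟩⟩
    · exact ⟨commHom V hVc a ha ⟨v, hv⟩, ⟨_, rfl⟩, rfl⟩
    · exact (commHom V hVc a ha ⟨v, hv⟩).2
  · rintro _ ⟨_, ⟨v, rfl⟩, rfl⟩
    exact commutator_mem_commutator v.2 (mem_zpowers a)

theorem card_commutator_zpowers [Finite G] (V : Subgroup G)
    (hVc : ∀ x ∈ V, ∀ y ∈ V, x * y = y * x) (a : G) (ha : a ∈ normalizer (V : Set G)) :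
    Nat.card ↥⁅V, zpowers a⁆ = (V ⊓ centralizer {a}).relIndex V := by
  rw [commutator_zpowers_eq V hVc a ha, card_map_of_injective V.subtype_injective, ← index_ker,
    commHom_ker]
  rfl

theorem centralizer_zpowers (a : G) : centralizer ((zpowers a : Subgroup G) : Set G) = centralizer {a} := by
  rw [zpowers_eq_closure, centralizer_closure]

end CommHom

/-- The standing hypotheses: `H` acts faithfully on the elementary abelian `p`-group `V`, and `K` is
a normal `p'`-subgroup of `H` containing its centralizer in `H`. -/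
structure FFS (p : ℕ) (V H K : Subgroup G) : Prop where
  hV : IsElementaryAbelian p V
  hHV : H ≤ normalizer (V : Set G)
  hf : H ⊓ centralizer (V : Set G) = ⊥
  hKH : K ≤ H
  hHK : H ≤ normalizer (K : Set G)
  hKp : (Nat.card ↥K).Coprime p
  hCK : H ⊓ centralizer (K : Set G) ≤ K

theorem le_normalizer_map_subtype {H : Subgroup G} (N : Subgroup ↥H) [hN : N.Normal] :
    H ≤ normalizer ((N.map H.subtype : Subgroup G) : Set G) := by
  intro h hh
  rw [mem_normalizer_iff]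
  intro x
  constructor
  · rintro ⟨y, hy, rfl⟩
    exact ⟨⟨h, hh⟩ * y * ⟨h, hh⟩⁻¹, hN.conj_mem y hy _, rfl⟩
  · rintro ⟨y, hy, hyx⟩
    refine ⟨⟨h, hh⟩⁻¹ * y * ⟨h, hh⟩, ?_, ?_⟩
    · have := hN.conj_mem y hy ⟨h, hh⟩⁻¹
      simpa using this
    · simp only [Subgroup.coe_subtype, Subgroup.coe_mul, Subgroup.coe_inv]
      have hyx' : (y : G) = h * x * h⁻¹ := hyx
      rw [hyx']
      group

theorem ffs_of [Finite G] {p : ℕ} [Fact p.Prime] {V H : Subgroup G}
    (hV : IsElementaryAbelian p V) (hHV : H ≤ normalizer (V : Set G))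
    (hf : H ⊓ centralizer (V : Set G) = ⊥)
    (hS1 : centralizer (pPrimeCore p ↥H : Set ↥H) ≤ pPrimeCore p ↥H) :
    FFS p V H ((pPrimeCore p ↥H).map H.subtype) where
  hV := hV
  hHV := hHV
  hf := hf
  hKH := map_subtype_le _
  hHK := by
    have : (pPrimeCore p ↥H).Characteristic := Helper28.pPrimeCore_characteristic p
    exact le_normalizer_map_subtype _
  hKp := by
    rw [card_map_of_injective H.subtype_injective]
    exact Helper28.pPrimeCore_coprime p
  hCK := by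
    rintro x ⟨hxH, hxC⟩
    refine ⟨⟨x, hxH⟩, hS1 ?_, rfl⟩
    rw [mem_centralizer_iff]
    intro y hy
    apply Subtype.ext
    exact mem_centralizer_iff.1 hxC y ⟨y, hy, rfl⟩

namespace FFS

variable [Finite G] {p : ℕ} [Fact p.Prime] {V H K : Subgroup G}

theorem hVp (h : FFS p V H K) : IsPGroup p ↥V := IsElementaryAbelian.isPGroup h.hV

theorem hVc (h : FFS p V H K) : ∀ x ∈ V, ∀ y ∈ V, x * y = y * x :=
  fun _ hx _ hy => IsElementaryAbelian.comm h.hV hx hy

theorem hKV (h : FFS p V H K) : K ≤ normalizer (V : Set G) := h.hKH.trans h.hHV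

theorem hKf (h : FFS p V H K) : K ⊓ centralizer (V : Set G) = ⊥ :=
  le_bot_iff.1 ((inf_le_inf_right _ h.hKH).trans h.hf.le)

/-- `p`-subgroups of `H` act faithfully on `K`. -/
theorem inf_centralizer_eq_bot (h : FFS p V H K) {A : Subgroup G} (hAH : A ≤ H)
    (hA : IsPGroup p ↥A) : A ⊓ centralizer (K : Set G) = ⊥ := by
  have h1 : A ⊓ centralizer (K : Set G) ≤ A ⊓ K :=
    le_inf inf_le_left ((inf_le_inf_right _ hAH).trans h.hCK)
  rw [Helper28.inf_eq_bot_of_isPGroup_of_coprime hA h.hKp] at h1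
  exact le_bot_iff.1 h1

theorem card_mul_le (h : FFS p V H K) {A : Subgroup G} (hAH : A ≤ H)
    (hA : IsElementaryAbelian p A) :
    Nat.card ↥A * Nat.card ↥(V ⊓ centralizer (A : Set G)) ≤ Nat.card ↥V := by
  have := no_over_offender h.hVp h.hKV h.hKf h.hKp _ A rfl hA (hAH.trans h.hHV) (hAH.trans h.hHK)
  rwa [h.inf_centralizer_eq_bot hAH (IsElementaryAbelian.isPGroup hA), card_bot, one_mul] at this

theorem elemAb_of_bestOffender (h : FFS p V H K) {A : Subgroup G} (hAH : A ≤ H)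
    (hA : IsBestOffenderOn p V A) : IsElementaryAbelian p A := by
  rw [isElementaryAbelian_iff]
  constructor
  · intro x hx y hy
    have h1 : ⁅x, y⁆ ∈ H ⊓ centralizer (V : Set G) :=
      mem_inf.2 ⟨mul_mem (mul_mem (mul_mem (hAH hx) (hAH hy)) (inv_mem (hAH hx))) (inv_mem (hAH hy)),
        hA.2.1 (commutator_mem_commutator hx hy)⟩
    rw [h.hf, mem_bot] at h1
    exact commutatorElement_eq_one_iff_mul_comm.1 h1
  · intro a ha
    have h1 : a ^ p ∈ H ⊓ centralizer (V : Set G) := ⟨pow_mem (hAH ha) p, hA.2.2 a ha⟩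
    rwa [h.hf, mem_bot] at h1

/-- Best offenders in `H` are the elementary abelian subgroups with `|A| |C_V(A)| = |V|`. -/
theorem bestOffender_iff (h : FFS p V H K) {A : Subgroup G} (hAH : A ≤ H) :
    IsBestOffenderOn p V A ↔ IsElementaryAbelian p A ∧
      Nat.card ↥A * Nat.card ↥(V ⊓ centralizer (A : Set G)) = Nat.card ↥V := by
  constructor
  · intro hA
    have hE := h.elemAb_of_bestOffender hAH hA
    refine ⟨hE, le_antisymm (h.card_mul_le hAH hE) ?_⟩
    have := hA.1 ⊥ bot_le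
    rw [card_bot, one_mul] at this
    refine le_trans (le_of_eq ?_) this
    have : V ⊓ centralizer ((⊥ : Subgroup G) : Set G) = V := by
      rw [inf_eq_left]
      intro v _
      rw [mem_centralizer_iff]
      intro x hx
      rw [SetLike.mem_coe, mem_bot] at hx
      rw [hx]; simp
    rw [this]
  · rintro ⟨hE, hc⟩
    refine ⟨fun B hB => ?_, ?_, ?_⟩
    · rw [hc]
      exact h.card_mul_le (hB.trans hAH) (IsElementaryAbelian.mono hE hB)
    · rw [commutator_le]
      intro x hx y hy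
      rw [commutatorElement_eq_one_iff_mul_comm.2 (IsElementaryAbelian.comm hE hx hy)]
      exact one_mem _
    · intro a ha
      rw [hE.2 a ha]
      exact one_mem _

theorem commutator_ne_bot (h : FFS p V H K) {A : Subgroup G} (hAH : A ≤ H) (hA : A ≠ ⊥) :
    ⁅V, A⁆ ≠ ⊥ := by
  intro hbot
  apply hA
  rw [commutator_comm, commutator_eq_bot_iff_le_centralizer] at hbot
  exact le_bot_iff.1 ((le_inf hAH hbot).trans h.hf.le)

/-- Every nontrivial best offender has a hyperplane which is a best offender and avoids a prescribed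
nontrivial element. -/
theorem exists_hyp_offender (h : FFS p V H K) {A : Subgroup G} (hAH : A ≤ H)
    (hA : IsBestOffenderOn p V A) {b₀ : G} (hb₀ : b₀ ∈ A) (hb₀1 : b₀ ≠ 1) :
    ∃ B, B ≤ A ∧ b₀ ∉ B ∧ IsBestOffenderOn p V B ∧ Nat.card ↥A = Nat.card ↥B * p := by
  obtain ⟨hE, hc⟩ := (h.bestOffender_iff hAH).1 hA
  have hb₀K : b₀ ∉ centralizer (K : Set G) := by
    intro hmem
    have : b₀ ∈ A ⊓ centralizer (K : Set G) := ⟨hb₀, hmem⟩
    rw [h.inf_centralizer_eq_bot hAH (IsElementaryAbelian.isPGroup hE), mem_bot] at this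
    exact hb₀1 this
  obtain ⟨B, hB, hBne, hb₀B⟩ := exists_hyp hE (hAH.trans h.hHK) h.hKp hb₀ hb₀K
  have hBA : B ≠ A := by
    rintro rfl
    exact hb₀B hb₀
  have hcard := card_eq_mul_of_hyp hE hB hBA
  have hlt := cv_lt_of_hyp h.hVp (hAH.trans h.hHV) h.hKV h.hKf h.hKp (hAH.trans h.hHK) hE hB.1 hBne
  have h1 := mul_card_le_of_lt (h.hVp.to_le inf_le_left) hlt
  have hEB := IsElementaryAbelian.mono hE hB.1
  refine ⟨B, hB.1, hb₀B, (h.bestOffender_iff (hB.1.trans hAH)).2 ⟨hEB, ?_⟩, hcard⟩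
  apply le_antisymm (h.card_mul_le (hB.1.trans hAH) hEB)
  calc Nat.card ↥V = Nat.card ↥A * Nat.card ↥(V ⊓ centralizer (A : Set G)) := hc.symm
    _ = Nat.card ↥B * (p * Nat.card ↥(V ⊓ centralizer (A : Set G))) := by rw [hcard]; ring
    _ ≤ _ := Nat.mul_le_mul_left _ h1

end FFS

end Cfsg.Agent.Lib.Helper55
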