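import Cfsg.Agent.Lib.Helper55.FF2

set_option autoImplicit false
set_option linter.unusedSectionVars false

namespace Cfsg.Agent.Lib.Helper55

open Cfsg Subgroup
open scoped commutatorElement
open Cfsg.Agent.Lib.Helper14 (IsElementaryAbelian.comm IsElementaryAbelian.isPGroup
  IsElementaryAbelian.mono isElementaryAbelian_iff)

variable {G : Type*} [Group G]

/-- Best offenders of order `p` in `H`. -/
def MinOff (p : ℕ) (V H A : Subgroup G) : Prop :=
  A ≤ H ∧ IsBestOffenderOn p V A ∧ Nat.card ↥A = p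

theorem iSupIndep_cons {A T : Subgroup G} (hA : ∀ x ∈ A, ∀ y ∈ A, x * y = y * x) {k : ℕ}
    {B : Fin k → Subgroup G} (hTA : T ≤ A) (hBA : ∀ i, B i ≤ A) (hB : iSupIndep B)
    (hT : Disjoint T (⨆ i, B i)) : iSupIndep (Fin.cons T B : Fin (k + 1) → Subgroup G) := by
  intro i
  refine Fin.cases ?_ (fun i' => ?_) i
  · simp only [Fin.cons_zero]
    refine hT.mono_right (iSup₂_le fun j hj => ?_)
    revert hj
    refine Fin.cases ?_ (fun j' => ?_) j
    · intro hj; exact absurd rfl hj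
    · intro _
      simp only [Fin.cons_succ]
      exact le_iSup B j'
  · simp only [Fin.cons_succ]
    set C := ⨆ (j' : Fin k) (_ : j' ≠ i'), B j' with hC
    have hCle : C ≤ ⨆ i, B i := iSup₂_le fun j _ => le_iSup B j
    have hCA : C ≤ A := iSup₂_le fun j _ => hBA j
    have hle : (⨆ (j : Fin (k + 1)) (_ : j ≠ i'.succ), (Fin.cons T B : Fin (k + 1) → Subgroup G) j) ≤
        T ⊔ C := by
      refine iSup₂_le fun j hj => ?_
      revert hj
      refine Fin.cases ?_ (fun j' => ?_) j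
      · intro _; simp only [Fin.cons_zero]; exact le_sup_left
      · intro hj
        simp only [Fin.cons_succ]
        refine le_trans ?_ le_sup_right
        exact le_iSup₂ (f := fun (j' : Fin k) (_ : j' ≠ i') => B j') j'
          (fun h => hj (congrArg Fin.succ h))
    refine Disjoint.mono_right hle ?_
    rw [disjoint_iff, eq_bot_iff]
    rintro x ⟨hx1, hx2⟩
    obtain ⟨t, ht, c, hc, rfl⟩ := (Helper14.mem_sup_of_commute
      (fun t ht c hc => hA t (hTA ht) c (hCA hc))).1 hx2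
    have ht1 : t ∈ T ⊓ ⨆ i, B i := by
      refine mem_inf.2 ⟨ht, ?_⟩
      have : t = (t * c) * c⁻¹ := by group
      rw [this]
      exact mul_mem (le_iSup B i' hx1) (inv_mem (hCle hc))
    rw [hT.eq_bot, mem_bot] at ht1
    subst ht1
    rw [one_mul] at hx1 ⊢
    have : c ∈ B i' ⊓ C := ⟨hx1, hc⟩
    rwa [(hB i').eq_bot] at this

namespace FFS

variable [Finite G] {p : ℕ} [hp : Fact p.Prime] {V H K : Subgroup G}

theorem minOff_of_min (h : FFS p V H K) {A : Subgroup G} (hAH : A ≤ H)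
    (hA : IsBestOffenderOn p V A) (hAV : ⁅V, A⁆ ≠ ⊥)
    (hmin : ∀ B : Subgroup G, B ≤ A → IsBestOffenderOn p V B → ⁅V, B⁆ ≠ ⊥ → B = A) :
    MinOff p V H A := by
  refine ⟨hAH, hA, ?_⟩
  have hA1 : A ≠ ⊥ := by
    rintro rfl
    exact hAV (commutator_bot_right V)
  obtain ⟨⟨b₀, hb₀⟩, hb₀1⟩ := Subgroup.ne_bot_iff_exists_ne_one.1 hA1
  obtain ⟨B, hBA, hb₀B, hB, hcard⟩ := h.exists_hyp_offender hAH hA hb₀
    (fun h => hb₀1 (Subtype.ext h))
  have hB1 : B = ⊥ := by
    by_contra hne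
    have := hmin B hBA hB (h.commutator_ne_bot (hBA.trans hAH) hne)
    exact hb₀B (this ▸ hb₀)
  rw [hcard, hB1, card_bot, one_mul]

theorem min_of_minOff (h : FFS p V H K) {A : Subgroup G} (hA : MinOff p V H A) :
    ⁅V, A⁆ ≠ ⊥ ∧
      ∀ B : Subgroup G, B ≤ A → IsBestOffenderOn p V B → ⁅V, B⁆ ≠ ⊥ → B = A := by
  have hA1 : A ≠ ⊥ := by
    rintro rfl
    have := hA.2.2
    rw [card_bot] at this
    exact hp.out.one_lt.ne this
  refine ⟨h.commutator_ne_bot hA.1 hA1, fun B hBA _ hBV => ?_⟩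
  have hB1 : B ≠ ⊥ := by
    rintro rfl
    exact hBV (commutator_bot_right V)
  have hdvd := card_dvd_of_le hBA
  rw [hA.2.2] at hdvd
  rcases (Nat.dvd_prime hp.out).1 hdvd with h1 | h1
  · exact absurd (card_eq_one.1 h1) hB1
  · exact eq_of_le_of_card_ge hBA (by rw [h1, hA.2.2])

theorem MinOff.ne_bot {A : Subgroup G} (hA : MinOff p V H A) : A ≠ ⊥ := by
  rintro rfl
  have := hA.2.2
  rw [card_bot] at this
  exact hp.out.one_lt.ne this

theorem MinOff.exists_gen {A : Subgroup G} (hA : MinOff p V H A) :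
    ∃ a, A = zpowers a ∧ orderOf a = p := by
  obtain ⟨⟨a, ha⟩, ha1⟩ := Subgroup.ne_bot_iff_exists_ne_one.1 (MinOff.ne_bot hA)
  have ha1' : a ≠ 1 := fun h => ha1 (Subtype.ext h)
  have hord : orderOf a = p := by
    have h1 : orderOf a ∣ p := by
      rw [← hA.2.2, ← Subgroup.orderOf_mk a ha]
      exact orderOf_dvd_natCard _
    rcases (Nat.dvd_prime hp.out).1 h1 with h2 | h2
    · exact absurd (orderOf_eq_one_iff.1 h2) ha1'
    · exact h2
  refine ⟨a, (eq_of_le_of_card_ge (zpowers_le.2 ha) ?_).symm, hord⟩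
  rw [Nat.card_zpowers, hord, hA.2.2]

theorem MinOff.card_cv (h : FFS p V H K) {A : Subgroup G} (hA : MinOff p V H A) :
    p * Nat.card ↥(V ⊓ centralizer (A : Set G)) = Nat.card ↥V := by
  have := ((h.bestOffender_iff hA.1).1 hA.2.1).2
  rwa [hA.2.2] at this

theorem MinOff.relIndex_cv (h : FFS p V H K) {A : Subgroup G} (hA : MinOff p V H A) :
    (V ⊓ centralizer (A : Set G)).relIndex V = p := by
  have h1 := MinOff.card_cv h hA
  have h2 := Helper14.card_mul_relIndex (inf_le_left : V ⊓ centralizer (A : Set G) ≤ V)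
  rw [← h1, mul_comm] at h2
  exact Nat.eq_of_mul_eq_mul_right Nat.card_pos h2

theorem MinOff.card_commutator (h : FFS p V H K) {A : Subgroup G} (hA : MinOff p V H A) :
    Nat.card ↥⁅V, A⁆ = p := by
  obtain ⟨a, rfl, -⟩ := MinOff.exists_gen hA
  rw [card_commutator_zpowers V h.hVc a (h.hHV (hA.1 (mem_zpowers a))), ← centralizer_zpowers]
  exact MinOff.relIndex_cv h hA

/-- Every best offender is generated by its minimal offenders. -/
theorem le_iSup_minOff (h : FFS p V H K) :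
    ∀ (n : ℕ) (A : Subgroup G), Nat.card ↥A = n → A ≤ H → IsBestOffenderOn p V A →
      A ≤ ⨆ T ∈ {T : Subgroup G | T ≤ A ∧ MinOff p V H T}, T := by
  intro n
  induction n using Nat.strong_induction_on with
  | _ n ih =>
  intro A hn hAH hA
  by_cases hA1 : A = ⊥
  · rw [hA1]; exact bot_le
  set A₀ := ⨆ T ∈ {T : Subgroup G | T ≤ A ∧ MinOff p V H T}, T with hA₀
  have hA₀A : A₀ ≤ A := iSup₂_le fun T hT => hT.1
  -- every offender hyperplane lies in `A₀`
  have hyp_le : ∀ B : Subgroup G, B ≤ A → IsBestOffenderOn p V B →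
      Nat.card ↥A = Nat.card ↥B * p → B ≤ A₀ := by
    intro B hBA hB hcard
    have hlt : Nat.card ↥B < n := by
      rw [← hn, hcard]
      exact lt_mul_of_one_lt_right Nat.card_pos hp.out.one_lt
    refine (ih _ hlt B rfl (hBA.trans hAH) hB).trans ?_
    refine iSup₂_le fun T hT => ?_
    exact le_iSup₂ (f := fun (T : Subgroup G) (_ : T ∈ {T : Subgroup G | T ≤ A ∧ MinOff p V H T}) => T)
      T ⟨hT.1.trans hBA, hT.2⟩
  obtain ⟨⟨b₀, hb₀⟩, hb₀1⟩ := Subgroup.ne_bot_iff_exists_ne_one.1 hA1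
  obtain ⟨B, hBA, hb₀B, hB, hcard⟩ := h.exists_hyp_offender hAH hA hb₀
    (fun h => hb₀1 (Subtype.ext h))
  by_cases hB1 : B = ⊥
  · -- `A` has order `p`
    have : MinOff p V H A := ⟨hAH, hA, by rw [hcard, hB1, card_bot, one_mul]⟩
    exact le_iSup₂ (f := fun (T : Subgroup G) (_ : T ∈ {T : Subgroup G | T ≤ A ∧ MinOff p V H T}) => T)
      A ⟨le_rfl, this⟩
  · obtain ⟨⟨b₁, hb₁⟩, hb₁1⟩ := Subgroup.ne_bot_iff_exists_ne_one.1 hB1
    obtain ⟨B', hBA', hb₁B', hB', hcard'⟩ := h.exists_hyp_offender hAH hA (hBA hb₁)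
      (fun h => hb₁1 (Subtype.ext h))
    have h1 := hyp_le B hBA hB hcard
    have h2 := hyp_le B' hBA' hB' hcard'
    -- `B < B ⊔ B' ≤ A₀ ≤ A` and `|A : B| = p`
    by_contra hcon
    have hlt : A₀ < A := lt_of_le_of_ne hA₀A (fun heq => hcon heq.ge)
    have hEA := h.elemAb_of_bestOffender hAH hA
    have h3 := mul_card_le_of_lt (IsElementaryAbelian.isPGroup hEA) hlt
    have h4 : Nat.card ↥A₀ ≤ Nat.card ↥B' := by
      rw [hcard', mul_comm] at h3
      exact Nat.le_of_mul_le_mul_right h3 hp.out.pos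
    have h5 : B' = A₀ := eq_of_le_of_card_ge h2 h4
    exact hb₁B' (h5 ▸ h1 hb₁)

/-- Decomposition of a best offender as a direct product of minimal ones. -/
theorem exists_decomposition (h : FFS p V H K) :
    ∀ (n : ℕ) (A : Subgroup G), Nat.card ↥A = n → A ≤ H → IsBestOffenderOn p V A →
      ∃ (k : ℕ) (B : Fin k → Subgroup G), (∀ i, B i ≤ A ∧ MinOff p V H (B i)) ∧ iSupIndep B ∧
        ⨆ i, B i = A := by
  intro n
  induction n using Nat.strong_induction_on with
  | _ n ih =>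
  intro A hn hAH hA
  by_cases hA1 : A = ⊥
  · refine ⟨0, Fin.elim0, fun i => i.elim0, fun i => i.elim0, ?_⟩
    rw [hA1, iSup_of_empty]
  obtain ⟨⟨b₀, hb₀⟩, hb₀1⟩ := Subgroup.ne_bot_iff_exists_ne_one.1 hA1
  obtain ⟨B, hBA, hb₀B, hB, hcard⟩ := h.exists_hyp_offender hAH hA hb₀
    (fun h => hb₀1 (Subtype.ext h))
  have hEA := h.elemAb_of_bestOffender hAH hA
  have hex : ∃ T, T ≤ A ∧ MinOff p V H T ∧ ¬ T ≤ B := by
    by_contra hcon
    push Not at hcon
    apply hb₀B
    exact ((h.le_iSup_minOff _ A rfl hAH hA).trans (iSup₂_le fun T hT => hcon T hT.1 hT.2)) hb₀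
  obtain ⟨T, hTA, hT, hTB⟩ := hex
  have hlt : Nat.card ↥B < n := by
    rw [← hn, hcard]
    exact lt_mul_of_one_lt_right Nat.card_pos hp.out.one_lt
  obtain ⟨k, F, hF1, hF2, hF3⟩ := ih _ hlt B rfl (hBA.trans hAH) hB
  have hdisj : T ⊓ B = ⊥ := by
    have hdvd := card_dvd_of_le (inf_le_left : T ⊓ B ≤ T)
    rw [hT.2.2] at hdvd
    rcases (Nat.dvd_prime hp.out).1 hdvd with h1 | h1
    · exact card_eq_one.1 h1
    · exfalso
      apply hTB
      have : T ⊓ B = T := eq_of_le_of_card_ge inf_le_left (by rw [h1, hT.2.2])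
      exact this ▸ inf_le_right
  have hsup : T ⊔ B = A := by
    by_contra hne
    have hlt2 : T ⊔ B < A := lt_of_le_of_ne (sup_le hTA hBA) hne
    have h3 := mul_card_le_of_lt (IsElementaryAbelian.isPGroup hEA) hlt2
    rw [hcard, mul_comm] at h3
    have h4 : Nat.card ↥(T ⊔ B) ≤ Nat.card ↥B := Nat.le_of_mul_le_mul_right h3 hp.out.pos
    have h5 : B = T ⊔ B := eq_of_le_of_card_ge le_sup_right h4
    exact hTB (h5 ▸ le_sup_left)
  refine ⟨k + 1, Fin.cons T F, ?_, ?_, ?_⟩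
  · intro i
    refine Fin.cases ?_ (fun i' => ?_) i
    · simp only [Fin.cons_zero]; exact ⟨hTA, hT⟩
    · simp only [Fin.cons_succ]; exact ⟨(hF1 i').1.trans hBA, (hF1 i').2⟩
  · refine iSupIndep_cons (fun x hx y hy => IsElementaryAbelian.comm hEA hx hy) hTA
      (fun i => (hF1 i).1.trans hBA) hF2 ?_
    rw [hF3, disjoint_iff]
    exact hdisj
  · rw [← hsup, ← hF3]
    apply le_antisymm
    · refine iSup_le fun i => ?_
      refine Fin.cases ?_ (fun i' => ?_) i
      · simp only [Fin.cons_zero]; exact le_sup_left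
      · simp only [Fin.cons_succ]; exact le_trans (le_iSup F i') le_sup_right
    · refine sup_le ?_ (iSup_le fun i' => ?_)
      · exact le_iSup (Fin.cons T F : Fin (k + 1) → Subgroup G) 0
      · exact le_iSup (Fin.cons T F : Fin (k + 1) → Subgroup G) i'.succ

end FFS

end Cfsg.Agent.Lib.Helper55
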