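import Mathlib
import Cfsg.Agent.Lib.Helper85.SL2RankOne

set_option autoImplicit false

namespace Cfsg.Agent.Lib.Helper55

open Matrix Subgroup
open Cfsg.Agent.Lib.Helper85 (SL2.lo SL2.up SL2.ext2 SL2.mul_entry)

/-- `SL₂(p)` has a normal `p`-complement only for `p ≤ 3`. -/
theorem sl2_prime_le_three {p : ℕ} [hp : Fact p.Prime]
    (N : Subgroup (Matrix.SpecialLinearGroup (Fin 2) (ZMod p))) [hN : N.Normal]
    (h1 : ∀ g, g ^ p ∈ N) (h2 : ∀ g ∈ N, g ^ p = 1 → g = 1) : p = 2 ∨ p = 3 := by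
  by_contra hcon
  push Not at hcon
  have h20 : (2 : ZMod p) ≠ 0 := by
    intro h
    have : ((2 : ℕ) : ZMod p) = 0 := by exact_mod_cast h
    rw [ZMod.natCast_eq_zero_iff] at this
    exact hcon.1 ((Nat.prime_dvd_prime_iff_eq hp.out Nat.prime_two).1 this)
  let dg : ZMod p → ZMod p → Matrix (Fin 2) (Fin 2) (ZMod p) := fun s t => !![s, 0; 0, t]
  let d : Matrix.SpecialLinearGroup (Fin 2) (ZMod p) :=
    ⟨!![2, 0; 0, 2⁻¹], by simp [det_fin_two_of, h20]⟩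
  have hdpow : ∀ n : ℕ, ((d ^ n : Matrix.SpecialLinearGroup (Fin 2) (ZMod p)) :
      Matrix (Fin 2) (Fin 2) (ZMod p)) = !![2 ^ n, 0; 0, (2⁻¹) ^ n] := by
    intro n
    induction n with
    | zero => ext i j; fin_cases i <;> fin_cases j <;> simp
    | succ n ih =>
      rw [pow_succ, Matrix.SpecialLinearGroup.coe_mul, ih]
      ext i j
      fin_cases i <;> fin_cases j <;> simp [d, Matrix.mul_apply, Fin.sum_univ_two, pow_succ]
  have hdp : d ^ p = d := by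
    apply Subtype.ext
    rw [hdpow, ZMod.pow_card, ZMod.pow_card]
  have hd : d ∈ N := hdp ▸ h1 d
  have h3 : d * SL2.up 1 * d⁻¹ * (SL2.up 1)⁻¹ ∈ N := by
    have : d * SL2.up 1 * d⁻¹ * (SL2.up 1)⁻¹ = d * (SL2.up 1 * d⁻¹ * (SL2.up 1)⁻¹) := by group
    rw [this]
    exact N.mul_mem hd (hN.conj_mem _ (N.inv_mem hd) _)
  have h4 : d * SL2.up 1 * d⁻¹ * (SL2.up 1)⁻¹ = SL2.up 3 := by
    have h5 : d * SL2.up 1 = SL2.up 3 * SL2.up 1 * d := by
      apply Subtype.ext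
      simp only [Matrix.SpecialLinearGroup.coe_mul]
      show (!![2, 0; 0, 2⁻¹] : Matrix (Fin 2) (Fin 2) (ZMod p)) * !![1, 1; 0, 1] =
        !![1, 3; 0, 1] * !![1, 1; 0, 1] * !![2, 0; 0, 2⁻¹]
      ext i j
      fin_cases i <;> fin_cases j <;> simp [Matrix.mul_apply, Fin.sum_univ_two]
      field_simp
      ring
    rw [h5]
    group
  rw [h4] at h3
  have hpow : ∀ n : ℕ, SL2.up (3 : ZMod p) ^ n = SL2.up ((n : ZMod p) * 3) := by
    intro n
    induction n with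
    | zero => simp [Helper85.SL2.up_zero]
    | succ n ih => rw [pow_succ, ih, Helper85.SL2.up_add]; congr 1; push_cast; ring
  have h6 := h2 _ h3 (by rw [hpow]; simp [Helper85.SL2.up_zero])
  rw [← Helper85.SL2.up_zero] at h6
  have h7 : (3 : ZMod p) = 0 := Helper85.SL2.up_injective h6
  have : ((3 : ℕ) : ZMod p) = 0 := by exact_mod_cast h7
  rw [ZMod.natCast_eq_zero_iff] at this
  exact hcon.2 ((Nat.prime_dvd_prime_iff_eq hp.out Nat.prime_three).1 this)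

/-- A subgroup of `SL₂(3)` containing all cubes is not abelian. -/
theorem sl2_three_nonabelian (N : Subgroup (Matrix.SpecialLinearGroup (Fin 2) (ZMod 3)))
    (h1 : ∀ g, g ^ 3 ∈ N) : ∃ i ∈ N, ∃ j ∈ N, i * j ≠ j * i := by
  let i : Matrix.SpecialLinearGroup (Fin 2) (ZMod 3) := ⟨!![0, -1; 1, 0], by decide⟩
  let j : Matrix.SpecialLinearGroup (Fin 2) (ZMod 3) := ⟨!![1, 1; 1, -1], by decide⟩
  have hi : (i ^ 3) ^ 3 = i := by
    apply Subtype.ext
    simp only [Matrix.SpecialLinearGroup.coe_pow]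
    show ((!![0, -1; 1, 0] : Matrix (Fin 2) (Fin 2) (ZMod 3)) ^ 3) ^ 3 = !![0, -1; 1, 0]
    decide
  have hj : (j ^ 3) ^ 3 = j := by
    apply Subtype.ext
    simp only [Matrix.SpecialLinearGroup.coe_pow]
    show ((!![1, 1; 1, -1] : Matrix (Fin 2) (Fin 2) (ZMod 3)) ^ 3) ^ 3 = !![1, 1; 1, -1]
    decide
  refine ⟨i, hi ▸ h1 _, j, hj ▸ h1 _, fun h => ?_⟩
  have h' := congrArg Subtype.val h
  simp only [Matrix.SpecialLinearGroup.coe_mul] at h'
  revert h'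
  show ¬ ((!![0, -1; 1, 0] : Matrix (Fin 2) (Fin 2) (ZMod 3)) * !![1, 1; 1, -1] =
    !![1, 1; 1, -1] * !![0, -1; 1, 0])
  decide

end Cfsg.Agent.Lib.Helper55
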