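import Cfsg.Agent.Lib.Helper55.FF3
import Cfsg.Agent.Lib.Helper55.ActSL2
import Cfsg.Agent.Lib.Helper55.SL2Small
import Cfsg.Agent.Lib.Helper12.Card
import Cfsg.Agent.S0055

set_option autoImplicit false
set_option linter.unusedSectionVars false

namespace Cfsg.Agent.Lib.Helper55

open Cfsg Subgroup
open scoped commutatorElement
open Cfsg.Agent.Lib.Helper14 (IsElementaryAbelian.comm IsElementaryAbelian.isPGroup
  IsElementaryAbelian.mono isElementaryAbelian_iff)

variable {G : Type*} [Group G]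


section General

variable [Finite G] {p : ℕ} [hp : Fact p.Prime]

theorem exists_zpowers_of_card_prime {P : Subgroup G} (hP : Nat.card ↥P = p) :
    ∃ e, P = zpowers e ∧ orderOf e = p := by
  have hne : P ≠ ⊥ := by
    rintro rfl
    rw [card_bot] at hP
    exact hp.out.one_lt.ne hP
  obtain ⟨⟨a, ha⟩, ha1⟩ := Subgroup.ne_bot_iff_exists_ne_one.1 hne
  have ha1' : a ≠ 1 := fun h => ha1 (Subtype.ext h)
  have hord : orderOf a = p := by
    have h1 : orderOf a ∣ p := by
      rw [← hP, ← Subgroup.orderOf_mk a ha]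
      exact orderOf_dvd_natCard _
    rcases (Nat.dvd_prime hp.out).1 h1 with h2 | h2
    · exact absurd (orderOf_eq_one_iff.1 h2) ha1'
    · exact h2
  refine ⟨a, (eq_of_le_of_card_ge (zpowers_le.2 ha) ?_).symm, hord⟩
  rw [Nat.card_zpowers, hord, hP]

theorem eq_bot_or_eq_of_le_of_card_prime {P X : Subgroup G} (hP : Nat.card ↥P = p) (hX : X ≤ P) :
    X = ⊥ ∨ X = P := by
  have hdvd := card_dvd_of_le hX
  rw [hP] at hdvd
  rcases (Nat.dvd_prime hp.out).1 hdvd with h1 | h1
  · exact Or.inl (card_eq_one.1 h1)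
  · exact Or.inr (eq_of_le_of_card_ge hX (by rw [h1, hP]))

omit [Finite G] hp in
theorem commutator_sup_eq {V X Y : Subgroup G} (hX : X ≤ normalizer (V : Set G))
    (hY : Y ≤ normalizer (V : Set G)) : ⁅V, X ⊔ Y⁆ = ⁅V, X⁆ ⊔ ⁅V, Y⁆ := by
  apply le_antisymm
  · apply commutator_le_of_le_stabQ
    exact sup_le (le_stabQ_of_commutator_le hX le_sup_left)
      (le_stabQ_of_commutator_le hY le_sup_right)
  · exact sup_le (commutator_mono le_rfl le_sup_left) (commutator_mono le_rfl le_sup_right)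

omit [Finite G] hp in
theorem map_conj_zpowers (g a : G) :
    (zpowers a).map (MulAut.conj g).toMonoidHom = zpowers (g * a * g⁻¹) := by
  rw [MonoidHom.map_zpowers]
  rfl

end General

namespace FFS

variable [Finite G] {p : ℕ} [hp : Fact p.Prime] {V H K : Subgroup G}

theorem orderOf_coprime (h : FFS p V H K) {y : G} (hy : y ∈ K) : (orderOf y).Coprime p :=
  Nat.Coprime.coprime_dvd_left (by
    have := orderOf_dvd_natCard (⟨y, hy⟩ : ↥K)
    rwa [Subgroup.orderOf_mk] at this) h.hKp

/-- A `p'`-element acting quadratically is trivial. -/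
theorem eq_one_of_quad (h : FFS p V H K) {y : G} (hy : y ∈ K)
    (hq : ∀ v ∈ V, Commute y (y * v * y⁻¹ * v⁻¹)) : y = 1 := by
  have h1 := Helper14.mem_centralizer_of_coprime_of_quadratic h.hVp (h.orderOf_coprime hy)
    (h.hKV hy) hq
  have h2 : y ∈ K ⊓ centralizer (V : Set G) := ⟨hy, h1⟩
  rwa [h.hKf, mem_bot] at h2

theorem map_conj_V (h : FFS p V H K) {g : G} (hg : g ∈ H) :
    V.map (MulAut.conj g).toMonoidHom = V :=
  Helper14.map_conj_of_mem_normalizer (h.hHV hg)

theorem map_conj_le_H {A : Subgroup G} (hA : A ≤ H) {g : G} (hg : g ∈ H) :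
    A.map (MulAut.conj g).toMonoidHom ≤ H := by
  rintro _ ⟨a, ha, rfl⟩
  exact H.mul_mem (H.mul_mem hg (hA ha)) (H.inv_mem hg)

theorem map_conj_cv (h : FFS p V H K) (A : Subgroup G) {g : G} (hg : g ∈ H) :
    (V ⊓ centralizer (A : Set G)).map (MulAut.conj g).toMonoidHom =
      V ⊓ centralizer ((A.map (MulAut.conj g).toMonoidHom : Subgroup G) : Set G) := by
  rw [Subgroup.map_inf _ _ _ (MulAut.conj g).injective, h.map_conj_V hg,
    Helper14.map_conj_centralizer]

theorem map_conj_commutator (h : FFS p V H K) (A : Subgroup G) {g : G} (hg : g ∈ H) :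
    (⁅V, A⁆).map (MulAut.conj g).toMonoidHom = ⁅V, A.map (MulAut.conj g).toMonoidHom⁆ := by
  rw [Subgroup.map_commutator, h.map_conj_V hg]

theorem MinOff.conj (h : FFS p V H K) {A : Subgroup G} (hA : MinOff p V H A) {g : G}
    (hg : g ∈ H) : MinOff p V H (A.map (MulAut.conj g).toMonoidHom) := by
  have hle := map_conj_le_H hA.1 hg
  obtain ⟨hE, hc⟩ := (h.bestOffender_iff hA.1).1 hA.2.1
  refine ⟨hle, (h.bestOffender_iff hle).2 ⟨Helper14.IsElementaryAbelian.map hE _, ?_⟩, ?_⟩
  · rw [← h.map_conj_cv A hg, Helper14.card_map_conj, Helper14.card_map_conj]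
    exact hc
  · rw [Helper14.card_map_conj]
    exact hA.2.2

theorem MinOff.isPGroup {A : Subgroup G} (hA : MinOff p V H A) : IsPGroup p ↥A :=
  IsPGroup.of_card (n := 1) (by rw [pow_one]; exact hA.2.2)

theorem MinOff.inf_K (h : FFS p V H K) {A : Subgroup G} (hA : MinOff p V H A) : A ⊓ K = ⊥ :=
  Helper28.inf_eq_bot_of_isPGroup_of_coprime (MinOff.isPGroup hA) h.hKp

/-- A group of order `p` acts trivially on a group of order `p`. -/
theorem le_centralizer_of_card_prime {A P : Subgroup G} (hA : IsPGroup p ↥A)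
    (hP : Nat.card ↥P = p) (hAP : A ≤ normalizer (P : Set G)) : A ≤ centralizer (P : Set G) := by
  have hPp : IsPGroup p ↥P := IsPGroup.of_card (n := 1) (by rw [pow_one]; exact hP)
  have hne : P ≠ ⊥ := by
    rintro rfl
    rw [card_bot] at hP
    exact hp.out.one_lt.ne hP
  have hlt := Helper14.commutator_lt_of_isPGroup hPp hA hAP hne
  rcases eq_bot_or_eq_of_le_of_card_prime hP hlt.le with h1 | h1
  · rw [commutator_comm, commutator_eq_bot_iff_le_centralizer] at h1
    exact h1
  · exact absurd h1 hlt.ne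

theorem MinOff.le_normalizer_commutator (h : FFS p V H K) {A : Subgroup G}
    (hA : MinOff p V H A) : A ≤ normalizer ((⁅V, A⁆ : Subgroup G) : Set G) :=
  Helper30.le_normalizer_commutator (hA.1.trans h.hHV) le_normalizer

theorem MinOff.quad (h : FFS p V H K) {A : Subgroup G} (hA : MinOff p V H A) :
    A ≤ centralizer ((⁅V, A⁆ : Subgroup G) : Set G) :=
  le_centralizer_of_card_prime (MinOff.isPGroup hA) (MinOff.card_commutator h hA)
    (MinOff.le_normalizer_commutator h hA)

/-- `p`-subgroups of `K A` have order at most `p`. -/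
theorem card_dvd_of_isPGroup (h : FFS p V H K) {A P : Subgroup G} (hA : MinOff p V H A)
    (hP : IsPGroup p ↥P) (hPle : P ≤ K ⊔ A) : Nat.card ↥P ∣ p := by
  have hKA : K ⊔ A ≤ normalizer (K : Set G) := sup_le le_normalizer (hA.1.trans h.hHK)
  have h1 := Helper12.card_sup_mul_card_inf' P K (hPle.trans hKA)
  rw [Helper28.inf_eq_bot_of_isPGroup_of_coprime hP h.hKp, card_bot, mul_one] at h1
  have h2 : Nat.card ↥(P ⊔ K) ∣ Nat.card ↥(K ⊔ A) := card_dvd_of_le (sup_le hPle le_sup_left)
  have h3 : Nat.card ↥(K ⊔ A) ∣ Nat.card ↥A * Nat.card ↥K := by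
    rw [sup_comm]
    exact Helper80.card_sup_dvd' A K (hA.1.trans h.hHK)
  rw [h1, hA.2.2] at *
  exact Nat.dvd_of_mul_dvd_mul_right Nat.card_pos (h2.trans h3)

end FFS

end Cfsg.Agent.Lib.Helper55
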