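import Cfsg.Agent.Lib.Helper55.FF4

set_option autoImplicit false
set_option linter.unusedSectionVars false

namespace Cfsg.Agent.Lib.Helper55

open Cfsg Subgroup
open scoped commutatorElement
open Cfsg.Agent.Lib.Helper14 (IsElementaryAbelian.comm IsElementaryAbelian.isPGroup
  IsElementaryAbelian.mono isElementaryAbelian_iff)

variable {G : Type*} [Group G]

/-- conjugate subgroup -/
abbrev cjs (x : G) (A : Subgroup G) : Subgroup G := A.map (MulAut.conj x).toMonoidHom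

theorem normalizer_le_normalizer_centralizer' (W : Subgroup G) :
    normalizer (W : Set G) ≤ normalizer ((centralizer (W : Set G) : Subgroup G) : Set G) := by
  intro g hg
  apply Helper14.mem_normalizer_of_map_conj_eq
  rw [Helper14.map_conj_centralizer, Helper14.map_conj_of_mem_normalizer hg]

theorem conj_mul_inv_mem_commutator {V D : Subgroup G} {v d : G} (hv : v ∈ V) (hd : d ∈ D) :
    d * v * d⁻¹ * v⁻¹ ∈ ⁅V, D⁆ := by
  rw [commutator_comm]
  exact commutator_mem_commutator hd hv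

namespace FFS

variable [Finite G] {p : ℕ} [hp : Fact p.Prime] {V H K : Subgroup G}

theorem pow_eq_one_of_mem_V (h : FFS p V H K) {v : G} (hv : v ∈ V) : v ^ p = 1 :=
  ((isElementaryAbelian_iff.1 h.hV).2 v hv)

/-- An element acting quadratically has order dividing `p`. -/
theorem pow_eq_one_of_quad (h : FFS p V H K) {c : G} (hc : c ∈ H)
    (hq : ∀ v ∈ V, Commute c (c * v * c⁻¹ * v⁻¹)) : c ^ p = 1 := by
  have key : ∀ v ∈ V, ∀ n : ℕ, c ^ n * v * (c ^ n)⁻¹ = (c * v * c⁻¹ * v⁻¹) ^ n * v := by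
    intro v hv n
    induction n with
    | zero => simp
    | succ n ih =>
      have h1 : c * (c * v * c⁻¹ * v⁻¹) ^ n * c⁻¹ = (c * v * c⁻¹ * v⁻¹) ^ n := by
        rw [((hq v hv).pow_right n).eq]; group
      calc c ^ (n + 1) * v * (c ^ (n + 1))⁻¹ = c * (c ^ n * v * (c ^ n)⁻¹) * c⁻¹ := by
            rw [pow_succ']; group
        _ = (c * (c * v * c⁻¹ * v⁻¹) ^ n * c⁻¹) * (c * v * c⁻¹) := by rw [ih]; group
        _ = (c * v * c⁻¹ * v⁻¹) ^ n * ((c * v * c⁻¹ * v⁻¹) * v) := by rw [h1]; group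
        _ = _ := by rw [pow_succ]; group
  have h2 : c ^ p ∈ H ⊓ centralizer (V : Set G) := by
    refine mem_inf.2 ⟨H.pow_mem hc p, ?_⟩
    rw [mem_centralizer_iff]
    intro v hv
    have hw : c * v * c⁻¹ * v⁻¹ ∈ V :=
      V.mul_mem ((mem_normalizer_iff.1 (h.hHV hc) v).1 hv) (V.inv_mem hv)
    have h3 := key v hv p
    rw [h.pow_eq_one_of_mem_V hw, one_mul] at h3
    calc v * c ^ p = (c ^ p * v * (c ^ p)⁻¹) * c ^ p := by rw [h3]
      _ = c ^ p * v := by group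
  rwa [h.hf, mem_bot] at h2

end FFS

/-- The setting of K-S 9.3.3: a minimal offender and a non-centralizing element of `K`. -/
structure Pair (p : ℕ) (V H K A : Subgroup G) (x : G) : Prop where
  h : FFS p V H K
  hA : MinOff p V H A
  hx : x ∈ K
  hxA : x ∉ centralizer (A : Set G)

namespace Pair

open FFS

variable [Finite G] {p : ℕ} [hp : Fact p.Prime] {V H K A : Subgroup G} {x : G}

theorem hAx (P : Pair p V H K A x) : MinOff p V H (cjs x A) :=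
  MinOff.conj P.h P.hA (P.h.hKH P.hx)

theorem ne (P : Pair p V H K A x) : cjs x A ≠ A := by
  intro heq
  exact P.hxA (Helper30.mem_centralizer_of_mem_normalizer (P.hA.1.trans P.h.hHK)
    (by rw [inf_comm]; exact MinOff.inf_K P.h P.hA) P.hx
    (Helper14.mem_normalizer_of_map_conj_eq heq))

theorem inf_eq_bot (P : Pair p V H K A x) : A ⊓ cjs x A = ⊥ := by
  rcases eq_bot_or_eq_of_le_of_card_prime P.hA.2.2 (inf_le_left : A ⊓ cjs x A ≤ A) with h1 | h1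
  · exact h1
  · have h2 : A ≤ cjs x A := inf_eq_left.1 h1
    exact absurd (eq_of_le_of_card_ge h2 (by rw [P.hAx.2.2, P.hA.2.2])).symm P.ne

theorem D_le_H (P : Pair p V H K A x) : A ⊔ cjs x A ≤ H := sup_le P.hA.1 P.hAx.1

theorem D_le_NV (P : Pair p V H K A x) : A ⊔ cjs x A ≤ normalizer (V : Set G) :=
  P.D_le_H.trans P.h.hHV

theorem W_eq (P : Pair p V H K A x) : ⁅V, A ⊔ cjs x A⁆ = ⁅V, A⁆ ⊔ ⁅V, cjs x A⁆ :=
  commutator_sup_eq (P.hA.1.trans P.h.hHV) (P.hAx.1.trans P.h.hHV)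

theorem W_le_V (P : Pair p V H K A x) : ⁅V, A ⊔ cjs x A⁆ ≤ V :=
  Helper30.commutator_le_of_le_normalizer P.D_le_NV

theorem D_le_NW (P : Pair p V H K A x) :
    A ⊔ cjs x A ≤ normalizer ((⁅V, A ⊔ cjs x A⁆ : Subgroup G) : Set G) :=
  Helper30.le_normalizer_commutator P.D_le_NV le_normalizer

theorem P_ne (P : Pair p V H K A x) : ⁅V, A⁆ ≠ ⁅V, cjs x A⁆ := by
  intro heq
  obtain ⟨a, hAa, -⟩ := MinOff.exists_gen P.hA
  have haA : a ∈ A := hAa ▸ mem_zpowers a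
  have hbAx : x * a * x⁻¹ ∈ cjs x A := ⟨a, haA, rfl⟩
  have hW : ⁅V, A ⊔ cjs x A⁆ = ⁅V, A⁆ := by rw [P.W_eq, ← heq, sup_idem]
  set y := x * a * x⁻¹ * a⁻¹ with hy
  have hyK : y ∈ K := by
    have : y = x * (a * x⁻¹ * a⁻¹) := by rw [hy]; group
    rw [this]
    exact K.mul_mem P.hx ((mem_normalizer_iff.1 (P.h.hHK (P.hA.1 haA)) _).1 (K.inv_mem P.hx))
  have hyD : y ∈ A ⊔ cjs x A :=
    mul_mem ((le_sup_right : cjs x A ≤ A ⊔ cjs x A) hbAx)
      (inv_mem ((le_sup_left : A ≤ A ⊔ cjs x A) haA))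
  have hyC : y ∈ centralizer ((⁅V, A⁆ : Subgroup G) : Set G) :=
    mul_mem (by rw [heq]; exact MinOff.quad P.h P.hAx hbAx) (inv_mem (MinOff.quad P.h P.hA haA))
  have hy1 : y = 1 := by
    apply P.h.eq_one_of_quad hyK
    intro v hv
    have h1 : y * v * y⁻¹ * v⁻¹ ∈ ⁅V, A⁆ := hW ▸ conj_mul_inv_mem_commutator hv hyD
    exact ((mem_centralizer_iff.1 hyC) _ h1).symm
  apply P.hxA
  rw [hAa, centralizer_zpowers, mem_centralizer_iff]
  intro z hz
  rw [Set.mem_singleton_iff] at hz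
  subst hz
  calc z * x = (x * z * x⁻¹ * z⁻¹)⁻¹ * (x * z) := by group
    _ = x * z := by rw [← hy, hy1]; simp

theorem P_inf (P : Pair p V H K A x) : ⁅V, A⁆ ⊓ ⁅V, cjs x A⁆ = ⊥ := by
  have c1 := MinOff.card_commutator P.h P.hA
  have c2 := MinOff.card_commutator P.h P.hAx
  rcases eq_bot_or_eq_of_le_of_card_prime c1 (inf_le_left : ⁅V, A⁆ ⊓ ⁅V, cjs x A⁆ ≤ _) with h1 | h1
  · exact h1
  · have h2 : ⁅V, A⁆ ≤ ⁅V, cjs x A⁆ := inf_eq_left.1 h1
    exact absurd (eq_of_le_of_card_ge h2 (by rw [c1, c2])) P.P_ne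

theorem card_W (P : Pair p V H K A x) : Nat.card ↥⁅V, A ⊔ cjs x A⁆ = p ^ 2 := by
  have hP1 : ⁅V, A⁆ ≤ V := Helper30.commutator_le_of_le_normalizer (P.hA.1.trans P.h.hHV)
  have hP2 : ⁅V, cjs x A⁆ ≤ V := Helper30.commutator_le_of_le_normalizer (P.hAx.1.trans P.h.hHV)
  have hN : ⁅V, A⁆ ≤ normalizer ((⁅V, cjs x A⁆ : Subgroup G) : Set G) := by
    intro u hu
    rw [mem_normalizer_iff]
    intro w
    constructor
    · intro hw
      have : u * w * u⁻¹ = w := by rw [P.h.hVc u (hP1 hu) w (hP2 hw)]; group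
      rwa [this]
    · intro hw
      have h3 : u * w * u⁻¹ ∈ V := hP2 hw
      have h4 : w ∈ V := by
        have : w = u⁻¹ * (u * w * u⁻¹) * u := by group
        rw [this]
        exact V.mul_mem (V.mul_mem (V.inv_mem (hP1 hu)) h3) (hP1 hu)
      have : u * w * u⁻¹ = w := by rw [P.h.hVc u (hP1 hu) w h4]; group
      rwa [this] at hw
  have h1 := Helper12.card_sup_mul_card_inf' _ _ hN
  rw [P.P_inf, card_bot, mul_one, MinOff.card_commutator P.h P.hA,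
    MinOff.card_commutator P.h P.hAx] at h1
  rw [P.W_eq, h1, sq]

theorem Ax_le (P : Pair p V H K A x) : cjs x A ≤ K ⊔ A := by
  rintro _ ⟨a, ha, rfl⟩
  have hxS : x ∈ K ⊔ A := (le_sup_left : K ≤ K ⊔ A) P.hx
  exact mul_mem (mul_mem hxS ((le_sup_right : A ≤ K ⊔ A) ha)) (inv_mem hxS)

theorem A_le (P : Pair p V H K A x) : A ≤ K ⊔ cjs x A := by
  intro a ha
  have hxS : x ∈ K ⊔ cjs x A := (le_sup_left : K ≤ K ⊔ cjs x A) P.hx
  have hb : x * a * x⁻¹ ∈ K ⊔ cjs x A := (le_sup_right : cjs x A ≤ K ⊔ cjs x A) ⟨a, ha, rfl⟩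
  have : a = x⁻¹ * (x * a * x⁻¹) * x := by group
  rw [this]
  exact mul_mem (mul_mem (inv_mem hxS) hb) hxS

theorem D_le (P : Pair p V H K A x) : A ⊔ cjs x A ≤ K ⊔ A := sup_le le_sup_right P.Ax_le

theorem D_le' (P : Pair p V H K A x) : A ⊔ cjs x A ≤ K ⊔ cjs x A := sup_le P.A_le le_sup_right

theorem faithful (P : Pair p V H K A x) :
    (A ⊔ cjs x A) ⊓ centralizer ((⁅V, A ⊔ cjs x A⁆ : Subgroup G) : Set G) = ⊥ := by
  set D := A ⊔ cjs x A with hD
  set W := ⁅V, D⁆ with hW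
  set C := D ⊓ centralizer (W : Set G) with hC
  have hCp : IsPGroup p ↥C := by
    intro c
    refine ⟨1, ?_⟩
    rw [pow_one]
    apply Subtype.ext
    rw [Subgroup.coe_pow, Subgroup.coe_one]
    apply P.h.pow_eq_one_of_quad (P.D_le_H c.2.1)
    intro v hv
    exact ((mem_centralizer_iff.1 c.2.2) _ (conj_mul_inv_mem_commutator hv c.2.1)).symm
  have hDC : D ≤ normalizer (C : Set G) :=
    Helper30.le_normalizer_inf le_normalizer
      (P.D_le_NW.trans (normalizer_le_normalizer_centralizer' W))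
  have aux : ∀ B : Subgroup G, MinOff p V H B → B ≤ D → D ≤ K ⊔ B → C ≤ B := by
    intro B hB hBD hDB
    have h1 : IsPGroup p ↥(B ⊔ C) :=
      IsPGroup.to_sup_of_normal_right' (MinOff.isPGroup hB) hCp (hBD.trans hDC)
    have h2 := P.h.card_dvd_of_isPGroup hB h1 ((sup_le hBD inf_le_left).trans hDB)
    have h3 : B = B ⊔ C :=
      eq_of_le_of_card_ge le_sup_left (by rw [hB.2.2]; exact Nat.le_of_dvd hp.out.pos h2)
    rw [h3]
    exact le_sup_right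
  have h1 := aux A P.hA le_sup_left P.D_le
  have h2 := aux (cjs x A) P.hAx le_sup_right P.D_le'
  exact le_bot_iff.1 (P.inf_eq_bot ▸ le_inf h1 h2)

theorem not_le_centralizer (P : Pair p V H K A x) :
    ¬ ⁅V, cjs x A⁆ ≤ centralizer (A : Set G) := by
  intro hle
  have h1 : ⁅V, A ⊔ cjs x A⁆ ≤ centralizer (A : Set G) := by
    rw [P.W_eq]
    exact sup_le (le_centralizer_iff.1 (MinOff.quad P.h P.hA)) hle
  have h2 : A ≤ (A ⊔ cjs x A) ⊓ centralizer ((⁅V, A ⊔ cjs x A⁆ : Subgroup G) : Set G) :=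
    le_inf le_sup_left (le_centralizer_iff.1 h1)
  rw [P.faithful] at h2
  exact MinOff.ne_bot P.hA (le_bot_iff.1 h2)

theorem not_le_centralizer' (P : Pair p V H K A x) :
    ¬ ⁅V, A⁆ ≤ centralizer ((cjs x A : Subgroup G) : Set G) := by
  intro hle
  have h1 : ⁅V, A ⊔ cjs x A⁆ ≤ centralizer ((cjs x A : Subgroup G) : Set G) := by
    rw [P.W_eq]
    exact sup_le hle (le_centralizer_iff.1 (MinOff.quad P.h P.hAx))
  have h2 : cjs x A ≤ (A ⊔ cjs x A) ⊓ centralizer ((⁅V, A ⊔ cjs x A⁆ : Subgroup G) : Set G) :=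
    le_inf le_sup_right (le_centralizer_iff.1 h1)
  rw [P.faithful] at h2
  exact MinOff.ne_bot P.hAx (le_bot_iff.1 h2)

end Pair

namespace FFS

variable [Finite G] {p : ℕ} [hp : Fact p.Prime] {V H K : Subgroup G}

theorem transvection_data (h : FFS p V H K) {A : Subgroup G} (hA : MinOff p V H A) {a e₁ e₂ : G}
    (hAa : A = zpowers a) (he₁ : ⁅V, A⁆ = zpowers e₁) (he₂ : e₂ ∈ V)
    (hne : ¬ zpowers e₂ ≤ centralizer (A : Set G)) :
    ∃ l : ℕ, a * e₂ * a⁻¹ = e₂ * e₁ ^ l ∧ ¬ p ∣ l := by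
  have haA : a ∈ A := hAa ▸ mem_zpowers a
  have h1 : a * e₂ * a⁻¹ * e₂⁻¹ ∈ zpowers e₁ := he₁ ▸ conj_mul_inv_mem_commutator he₂ haA
  obtain ⟨l, hl⟩ := mem_powers_iff_mem_zpowers.2 h1
  have hl' : e₁ ^ l = a * e₂ * a⁻¹ * e₂⁻¹ := hl
  have he₁V : e₁ ∈ V :=
    Helper30.commutator_le_of_le_normalizer (hA.1.trans h.hHV) (he₁ ▸ mem_zpowers e₁)
  have h2 : a * e₂ * a⁻¹ = e₂ * e₁ ^ l := by
    rw [h.hVc e₂ he₂ _ (V.pow_mem he₁V l), hl']; group
  refine ⟨l, h2, fun hdvd => hne ?_⟩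
  obtain ⟨k, rfl⟩ := hdvd
  rw [pow_mul, h.pow_eq_one_of_mem_V he₁V, one_pow, mul_one] at h2
  rw [zpowers_le, hAa, centralizer_zpowers, mem_centralizer_iff]
  intro z hz
  rw [Set.mem_singleton_iff] at hz
  subst hz
  calc z * e₂ = (z * e₂ * z⁻¹) * z := by group
    _ = e₂ * z := by rw [h2]

theorem pow_mem_K (h : FFS p V H K) {A : Subgroup G} (hA : MinOff p V H A) {d : G}
    (hd : d ∈ K ⊔ A) : d ^ p ∈ K := by
  obtain ⟨k, hk, a, ha, rfl⟩ := (Helper14.mem_sup_of_le_normalizer (hA.1.trans h.hHK)).1 hd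
  have key : ∀ n : ℕ, ∃ k' ∈ K, (k * a) ^ n = k' * a ^ n := by
    intro n
    induction n with
    | zero => exact ⟨1, K.one_mem, by simp⟩
    | succ n ih =>
      obtain ⟨k', hk', he⟩ := ih
      refine ⟨k' * (a ^ n * k * (a ^ n)⁻¹), K.mul_mem hk'
        ((mem_normalizer_iff.1 (h.hHK (hA.1 (A.pow_mem ha n))) k).1 hk), ?_⟩
      rw [pow_succ, he, pow_succ]; group
  obtain ⟨k', hk', he⟩ := key p
  have hap : a ^ p = 1 := by
    have := pow_card_eq_one' (G := ↥A) (x := ⟨a, ha⟩)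
    rw [hA.2.2] at this
    exact congrArg Subtype.val this
  rw [he, hap, mul_one]
  exact hk'

theorem eq_one_of_pow_eq_one (h : FFS p V H K) {d : G} (hd : d ∈ K) (hp1 : d ^ p = 1) : d = 1 := by
  have h1 : orderOf d ∣ p := orderOf_dvd_of_pow_eq_one hp1
  have h2 := h.orderOf_coprime hd
  exact orderOf_eq_one_iff.1 (Nat.Coprime.eq_one_of_dvd h2 h1)

end FFS

namespace Pair

open FFS

variable [Finite G] {p : ℕ} [hp : Fact p.Prime] {V H K A : Subgroup G} {x : G}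

theorem nonempty_equiv (P : Pair p V H K A x) :
    Nonempty (↥(A ⊔ cjs x A) ≃* Matrix.SpecialLinearGroup (Fin 2) (ZMod p)) := by
  obtain ⟨a, hAa, -⟩ := MinOff.exists_gen P.hA
  obtain ⟨e₁, he₁, -⟩ := exists_zpowers_of_card_prime (MinOff.card_commutator P.h P.hA)
  obtain ⟨e₂, he₂, -⟩ := exists_zpowers_of_card_prime (MinOff.card_commutator P.h P.hAx)
  have hAxb : cjs x A = zpowers (x * a * x⁻¹) := by rw [hAa]; exact map_conj_zpowers x a
  have hP1 : ⁅V, A⁆ ≤ V := Helper30.commutator_le_of_le_normalizer (P.hA.1.trans P.h.hHV)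
  have hP2 : ⁅V, cjs x A⁆ ≤ V := Helper30.commutator_le_of_le_normalizer (P.hAx.1.trans P.h.hHV)
  have he₁P : e₁ ∈ ⁅V, A⁆ := he₁ ▸ mem_zpowers e₁
  have he₂P : e₂ ∈ ⁅V, cjs x A⁆ := he₂ ▸ mem_zpowers e₂
  obtain ⟨l, hl1, hl2⟩ := P.h.transvection_data P.hA hAa he₁ (hP2 he₂P)
    (he₂ ▸ P.not_le_centralizer)
  obtain ⟨m, hm1, hm2⟩ := P.h.transvection_data P.hAx hAxb he₂ (hP1 he₁P)
    (he₁ ▸ P.not_le_centralizer')
  have haA : a ∈ A := hAa ▸ mem_zpowers a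
  have hbAx : x * a * x⁻¹ ∈ cjs x A := ⟨a, haA, rfl⟩
  have hW := P.W_eq
  refine nonempty_mulEquiv_SL2 (W := ⁅V, A ⊔ cjs x A⁆) (a := a) (b := x * a * x⁻¹) (e₁ := e₁)
    (e₂ := e₂) (fun u hu w hw => P.h.hVc u (P.W_le_V hu) w (P.W_le_V hw))
    (fun u hu => P.h.pow_eq_one_of_mem_V (P.W_le_V hu)) P.card_W
    (hW ▸ (le_sup_left : ⁅V, A⁆ ≤ _) he₁P) (hW ▸ (le_sup_right : ⁅V, cjs x A⁆ ≤ _) he₂P)
    (by rw [hW, he₁, he₂]) (P.D_le_NW ((le_sup_left : A ≤ _) haA))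
    (P.D_le_NW ((le_sup_right : cjs x A ≤ _) hbAx)) (by rw [← hAa, ← hAxb]) P.faithful
    ?_ l hl1 hl2 ?_ m hm1 hm2
  · have := (mem_centralizer_iff.1 (MinOff.quad P.h P.hA haA)) e₁ he₁P
    rw [← this]; group
  · have := (mem_centralizer_iff.1 (MinOff.quad P.h P.hAx hbAx)) e₂ he₂P
    rw [← this]; group

theorem prime_le_three (P : Pair p V H K A x) : p = 2 ∨ p = 3 := by
  obtain ⟨φ⟩ := P.nonempty_equiv
  set D := A ⊔ cjs x A with hD
  have hn : (K.subgroupOf D).Normal :=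
    Subgroup.normal_subgroupOf_of_le_normalizer (P.D_le_H.trans P.h.hHK)
  have hn' : ((K.subgroupOf D).map φ.toMonoidHom).Normal := hn.map _ φ.surjective
  refine sl2_prime_le_three ((K.subgroupOf D).map φ.toMonoidHom) ?_ ?_
  · intro g
    obtain ⟨d, rfl⟩ := φ.surjective g
    refine ⟨d ^ p, ?_, map_pow _ _ _⟩
    show d ^ p ∈ K.subgroupOf D
    rw [mem_subgroupOf, Subgroup.coe_pow]
    exact P.h.pow_mem_K P.hA (P.D_le d.2)
  · rintro _ ⟨d, hd, rfl⟩ hg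
    have hd' : (d : G) ∈ K := hd
    have h1 : d ^ p = 1 := φ.injective (by rw [map_pow, map_one]; exact hg)
    have h2 : (d : G) = 1 := P.h.eq_one_of_pow_eq_one hd' (by
      rw [← Subgroup.coe_pow, h1, Subgroup.coe_one])
    have h3 : d = 1 := Subtype.ext h2
    rw [h3]
    exact map_one _

end Pair

end Cfsg.Agent.Lib.Helper55
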