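import Cfsg.Agent.Lib.Helper55.FF5
import Cfsg.Agent.Lib.Helper7.SL2

set_option autoImplicit false
set_option linter.unusedSectionVars false

namespace Cfsg.Agent.Lib.Helper55

open Cfsg Subgroup
open scoped commutatorElement Pointwise
open Cfsg.Agent.Lib.Helper14 (IsElementaryAbelian.comm IsElementaryAbelian.isPGroup
  IsElementaryAbelian.mono isElementaryAbelian_iff)

variable {G : Type*} [Group G]

namespace FFS

variable [Finite G] {p : ℕ} [hp : Fact p.Prime] {V H K : Subgroup G}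

theorem MinOff.elemAb (h : FFS p V H K) {A : Subgroup G} (hA : MinOff p V H A) :
    IsElementaryAbelian p A := ((h.bestOffender_iff hA.1).1 hA.2.1).1

theorem MinOff.hAK (h : FFS p V H K) {A : Subgroup G} (hA : MinOff p V H A) :
    A ≤ normalizer (K : Set G) := hA.1.trans h.hHK

theorem MinOff.hcop (h : FFS p V H K) {A : Subgroup G} (hA : MinOff p V H A) :
    (Nat.card ↥A).Coprime (Nat.card ↥K) := by
  rw [hA.2.2]; exact h.hKp.symm

theorem MinOff.hsolv (h : FFS p V H K) {A : Subgroup G} (hA : MinOff p V H A) :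
    Group.IsSolvable ↥A ∨ Group.IsSolvable ↥K := Or.inl (isSolvable_of_elemAb (MinOff.elemAb h hA))

theorem MinOff.exists_not_centralizing (h : FFS p V H K) {A : Subgroup G}
    (hA : MinOff p V H A) : ∃ x ∈ K, x ∉ centralizer (A : Set G) := by
  by_contra hcon
  push Not at hcon
  have h1 : K ≤ centralizer (A : Set G) := hcon
  have h2 : A ≤ A ⊓ K := le_inf le_rfl ((le_inf hA.1 (le_centralizer_iff.1 h1)).trans h.hCK)
  rw [MinOff.inf_K h hA] at h2
  exact MinOff.ne_bot hA (le_bot_iff.1 h2)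

/-- If `T ≤ K` is `A`-invariant then `(T A) ∩ K = T`. -/
theorem MinOff.sup_inf_K (h : FFS p V H K) {A T : Subgroup G} (hA : MinOff p V H A) (hT : T ≤ K)
    (hAT : A ≤ normalizer (T : Set G)) : (T ⊔ A) ⊓ K = T := by
  apply le_antisymm
  · rintro d ⟨hd1, hd2⟩
    obtain ⟨t, ht, a, ha, rfl⟩ := (Helper14.mem_sup_of_le_normalizer hAT).1 hd1
    have h1 : a ∈ A ⊓ K := by
      refine mem_inf.2 ⟨ha, ?_⟩
      have : a = t⁻¹ * (t * a) := by group
      rw [this]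
      exact K.mul_mem (K.inv_mem (hT ht)) hd2
    rw [MinOff.inf_K h hA, mem_bot] at h1
    rw [h1, mul_one]
    exact ht
  · exact le_inf le_sup_left hT

end FFS

namespace Pair

open FFS

variable [Finite G] {p : ℕ} [hp : Fact p.Prime] {V H K A : Subgroup G} {x : G}

theorem D_eq (P : Pair p V H K A x) : A ⊔ ((A ⊔ cjs x A) ⊓ K) = A ⊔ cjs x A := by
  apply le_antisymm (sup_le le_sup_left inf_le_left)
  intro d hd
  obtain ⟨k, hk, a, ha, rfl⟩ :=
    (Helper14.mem_sup_of_le_normalizer (MinOff.hAK P.h P.hA)).1 (P.D_le hd)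
  have h1 : k ∈ (A ⊔ cjs x A) ⊓ K := by
    refine mem_inf.2 ⟨?_, hk⟩
    have : k = (k * a) * a⁻¹ := by group
    rw [this]
    exact mul_mem hd (inv_mem ((le_sup_left : A ≤ A ⊔ cjs x A) ha))
  exact mul_mem ((le_sup_right : _ ≤ A ⊔ ((A ⊔ cjs x A) ⊓ K)) h1)
    ((le_sup_left : A ≤ A ⊔ ((A ⊔ cjs x A) ⊓ K)) ha)

theorem card_D (P : Pair p V H K A x) : Nat.card ↥(A ⊔ cjs x A) = p * (p ^ 2 - 1) := by
  obtain ⟨φ⟩ := P.nonempty_equiv
  rw [Nat.card_congr φ.toEquiv, Helper7.card_SL2, ZMod.card]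

theorem card_D_inf_K (P : Pair p V H K A x) : Nat.card ↥((A ⊔ cjs x A) ⊓ K) = p ^ 2 - 1 := by
  have hN : A ≤ normalizer (((A ⊔ cjs x A) ⊓ K : Subgroup G) : Set G) :=
    Helper30.le_normalizer_inf (le_sup_left.trans le_normalizer) (MinOff.hAK P.h P.hA)
  have h1 := Helper12.card_sup_mul_card_inf' _ _ hN
  have h2 : A ⊓ ((A ⊔ cjs x A) ⊓ K) = ⊥ :=
    le_bot_iff.1 ((MinOff.inf_K P.h P.hA) ▸ inf_le_inf_left A inf_le_right)
  rw [P.D_eq, h2, card_bot, mul_one, P.card_D, P.hA.2.2] at h1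
  exact (Nat.eq_of_mul_eq_mul_left hp.out.pos h1).symm

/-- `D ≤ T A` when `x` lies in the `A`-invariant subgroup `T`. -/
theorem D_le_of_mem (P : Pair p V H K A x) {T : Subgroup G} (hxT : x ∈ T) :
    A ⊔ cjs x A ≤ T ⊔ A := by
  refine sup_le le_sup_right ?_
  rintro _ ⟨a, ha, rfl⟩
  have hxS : x ∈ T ⊔ A := (le_sup_left : T ≤ T ⊔ A) hxT
  exact mul_mem (mul_mem hxS ((le_sup_right : A ≤ T ⊔ A) ha)) (inv_mem hxS)

theorem D_inf_K_le_of_mem (P : Pair p V H K A x) {T : Subgroup G} (hT : T ≤ K)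
    (hAT : A ≤ normalizer (T : Set G)) (hxT : x ∈ T) : (A ⊔ cjs x A) ⊓ K ≤ T := by
  rw [← MinOff.sup_inf_K P.h P.hA hT hAT]
  exact inf_le_inf_right K (P.D_le_of_mem hxT)

theorem D_le_R (P : Pair p V H K A x) : A ⊔ cjs x A ≤ ⁅K, A⁆ ⊔ A := by
  refine sup_le le_sup_right ?_
  rintro _ ⟨a, ha, rfl⟩
  have h1 : (MulAut.conj x).toMonoidHom a = ⁅x, a⁆ * a := by
    rw [commutatorElement_def]
    show x * a * x⁻¹ = _
    group
  rw [h1]
  exact mul_mem ((le_sup_left : ⁅K, A⁆ ≤ ⁅K, A⁆ ⊔ A) (commutator_mem_commutator P.hx ha))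
    ((le_sup_right : A ≤ ⁅K, A⁆ ⊔ A) ha)

theorem D_inf_K_le_R (P : Pair p V H K A x) : (A ⊔ cjs x A) ⊓ K ≤ ⁅K, A⁆ := by
  have hAK := MinOff.hAK P.h P.hA
  rw [← MinOff.sup_inf_K P.h P.hA (Helper30.commutator_le_of_le_normalizer hAK)
    (Helper30.le_normalizer_commutator hAK le_normalizer)]
  exact inf_le_inf_right K P.D_le_R

end Pair

namespace FFS

variable [Finite G] {p : ℕ} [hp : Fact p.Prime] {V H K : Subgroup G}

theorem MinOff.sylow_le_centralizer (h : FFS p V H K) {A : Subgroup G} (hA : MinOff p V H A)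
    {r k : ℕ} (hr : r.Prime) (hk : p ^ 2 - 1 = r ^ k) {s : ℕ} (hs : s.Prime) (hsr : s ≠ r)
    {T : Subgroup G} (hT : Helper30.IsSylowIn s T K) (hAT : A ≤ normalizer (T : Set G)) :
    T ≤ centralizer (A : Set G) := by
  by_contra hcon
  obtain ⟨x, hxT, hxA⟩ := SetLike.not_le_iff_exists.1 hcon
  have P : Pair p V H K A x := ⟨h, hA, hT.le hxT, hxA⟩
  have h1 : IsPGroup s ↥((A ⊔ cjs x A) ⊓ K) := hT.isPGroup.to_le (P.D_inf_K_le_of_mem hT.le hAT hxT)
  have : Fact s.Prime := ⟨hs⟩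
  obtain ⟨j, hj⟩ := IsPGroup.iff_card.1 h1
  rw [P.card_D_inf_K] at hj
  have h2 : 1 < p ^ 2 - 1 := by
    have := hp.out.two_le
    have : 2 ^ 2 ≤ p ^ 2 := Nat.pow_le_pow_left this 2
    omega
  have hj0 : j ≠ 0 := by
    rintro rfl
    rw [pow_zero] at hj
    omega
  have h3 : s ∣ r ^ k := by rw [← hk, hj]; exact dvd_pow_self s hj0
  exact hsr ((Nat.prime_dvd_prime_iff_eq hs hr).1 (hs.dvd_of_dvd_pow h3))

theorem MinOff.commutator_isPGroup (h : FFS p V H K) {A : Subgroup G} (hA : MinOff p V H A)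
    {r k : ℕ} (hr : r.Prime) (hk : p ^ 2 - 1 = r ^ k) : IsPGroup r ↥⁅K, A⁆ := by
  have : Fact r.Prime := ⟨hr⟩
  have hAK := MinOff.hAK h hA
  obtain ⟨T, hT, hAT⟩ := Helper30.exists_invariant_isSylowIn hAK (MinOff.hcop h hA)
    (MinOff.hsolv h hA) r
  have hcop : ((T.subgroupOf K).index).Coprime ((centralizer (A : Set G)).subgroupOf K).index := by
    apply Nat.coprime_of_dvd
    intro s hs hs1 hs2
    have : Fact s.Prime := ⟨hs⟩
    have hsr : s ≠ r := by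
      rintro rfl
      exact hT.not_dvd hs1
    obtain ⟨S, hS, hAS⟩ := Helper30.exists_invariant_isSylowIn hAK (MinOff.hcop h hA)
      (MinOff.hsolv h hA) s
    have h1 := MinOff.sylow_le_centralizer h hA hr hk hs hsr hS hAS
    exact hS.not_dvd (hs2.trans (relIndex_dvd_of_le_left K h1))
  have hmul := Helper12.mul_eq_univ_of_coprime_index _ _ hcop
  refine hT.isPGroup.to_le ?_
  rw [commutator_le]
  intro k hk a ha
  have h1 : (⟨k, hk⟩ : ↥K) ∈ ((T.subgroupOf K : Subgroup ↥K) : Set ↥K) *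
      (((centralizer (A : Set G)).subgroupOf K : Subgroup ↥K) : Set ↥K) := by
    rw [hmul]; exact Set.mem_univ _
  obtain ⟨t, ht, c, hc, htc⟩ := Set.mem_mul.1 h1
  have ht' : (t : G) ∈ T := ht
  have hc' : (c : G) ∈ centralizer (A : Set G) := hc
  have hk' : k = (t : G) * (c : G) := by
    have := congrArg Subtype.val htc
    exact this.symm
  have hca : a * (c : G) = (c : G) * a := mem_centralizer_iff.1 hc' a ha
  have h2 : ⁅k, a⁆ = (t : G) * (a * (t : G)⁻¹ * a⁻¹) := by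
    rw [hk', commutatorElement_def]
    calc (t : G) * c * a * ((t : G) * c)⁻¹ * a⁻¹ = (t : G) * (c * a) * (c : G)⁻¹ * (t : G)⁻¹ * a⁻¹ := by
          group
      _ = _ := by rw [← hca]; group
  rw [h2]
  exact T.mul_mem ht' ((mem_normalizer_iff.1 (hAT ha) _).1 (T.inv_mem ht'))

theorem MinOff.commutator_nonabelian {V H K : Subgroup G} (h : FFS 3 V H K) {A : Subgroup G}
    (hA : MinOff 3 V H A) : ¬ IsMulCommutative ↥⁅K, A⁆ := by
  intro hc
  obtain ⟨x, hx, hxA⟩ := MinOff.exists_not_centralizing h hA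
  have P : Pair 3 V H K A x := ⟨h, hA, hx, hxA⟩
  obtain ⟨φ⟩ := P.nonempty_equiv
  obtain ⟨_, ⟨d₁, hd₁, rfl⟩, _, ⟨d₂, hd₂, rfl⟩, hne⟩ :=
    sl2_three_nonabelian ((K.subgroupOf (A ⊔ cjs x A)).map φ.toMonoidHom) (by
      intro g
      obtain ⟨d, rfl⟩ := φ.surjective g
      refine ⟨d ^ 3, ?_, map_pow _ _ _⟩
      show d ^ 3 ∈ K.subgroupOf _
      rw [mem_subgroupOf, Subgroup.coe_pow]
      exact P.h.pow_mem_K P.hA (P.D_le d.2))
  apply hne
  have h1 : (d₁ : G) ∈ ⁅K, A⁆ := P.D_inf_K_le_R ⟨d₁.2, hd₁⟩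
  have h2 : (d₂ : G) ∈ ⁅K, A⁆ := P.D_inf_K_le_R ⟨d₂.2, hd₂⟩
  have h3 := hc.is_comm.comm (⟨d₁, h1⟩ : ↥⁅K, A⁆) ⟨d₂, h2⟩
  have h4 : (d₁ : G) * d₂ = d₂ * d₁ := congrArg Subtype.val h3
  have h5 : d₁ * d₂ = d₂ * d₁ := Subtype.ext h4
  show φ d₁ * φ d₂ = φ d₂ * φ d₁
  rw [← map_mul, ← map_mul, h5]

end FFS

end Cfsg.Agent.Lib.Helper55
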