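import Cfsg.Agent.Lib.Helper55.FF6
import Cfsg.Agent.Lib.Helper55.ActSL2b

set_option autoImplicit false
set_option linter.unusedSectionVars false

namespace Cfsg.Agent.Lib.Helper55

open Cfsg Subgroup
open scoped commutatorElement Pointwise
open Cfsg.Agent.Lib.Helper14 (IsElementaryAbelian.comm IsElementaryAbelian.isPGroup
  IsElementaryAbelian.mono isElementaryAbelian_iff)

variable {G : Type*} [Group G]

section Irr

variable [Finite G] {p : ℕ} [hp : Fact p.Prime]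

/-- The `p`-th powers of `SL₂(p)`, `p ≤ 3`, act irreducibly on the natural module. -/
theorem NatSL2.irreducible {D W N U : Subgroup G} (hN : NatSL2 p D W) (hp23 : p = 2 ∨ p = 3)
    (hpow : ∀ d ∈ D, d ^ p ∈ N) (hU : U ≤ W) (hNU : N ≤ normalizer (U : Set G)) :
    U = ⊥ ∨ U = W := by
  have hcW := hN.card_W
  obtain ⟨φ, θ, hc⟩ := hN
  by_cases hU1 : U = ⊥
  · exact Or.inl hU1
  right
  obtain ⟨⟨u, hu⟩, hu1⟩ := Subgroup.ne_bot_iff_exists_ne_one.1 hU1
  have hu1' : u ≠ 1 := fun h => hu1 (Subtype.ext h)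
  obtain ⟨v, hv⟩ := θ.surjective ⟨u, hU hu⟩
  have hv0 : Multiplicative.toAdd v ≠ 0 := by
    intro h0
    have : v = 1 := h0
    rw [this, map_one] at hv
    exact hu1' (congrArg Subtype.val hv).symm
  obtain ⟨h₀, hh₀⟩ := exists_no_eigen hp23
  set d₀ := φ.symm h₀ with hd₀
  have hd₀N : ((d₀ ^ p : ↥D) : G) ∈ N := by
    rw [Subgroup.coe_pow]; exact hpow _ d₀.2
  have h1 := hc (d₀ ^ p) v
  rw [map_pow, hd₀, MulEquiv.apply_symm_apply, ← hd₀, hv] at h1
  have hu' : ((θ (slAct p (h₀ ^ p) v) : ↥W) : G) ∈ U := by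
    rw [← h1]
    exact (mem_normalizer_iff.1 (hNU hd₀N) u).1 hu
  have hnot : ((θ (slAct p (h₀ ^ p) v) : ↥W) : G) ∉ zpowers u := by
    rintro ⟨n, hn⟩
    have h2 : θ (v ^ n) = θ (slAct p (h₀ ^ p) v) := by
      apply Subtype.ext
      rw [map_zpow, hv, ← hn]
      rfl
    have h3 := θ.injective h2
    have h4 : n • Multiplicative.toAdd v =
        ((h₀ ^ p : Matrix.SpecialLinearGroup (Fin 2) (ZMod p)) : Matrix (Fin 2) (Fin 2) (ZMod p)).mulVec
          (Multiplicative.toAdd v) := congrArg Multiplicative.toAdd h3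
    apply hh₀ _ hv0 (n : ZMod p)
    rw [← h4]
    ext i
    simp
  have hdvd : Nat.card ↥U ∣ p ^ 2 := hcW ▸ card_dvd_of_le hU
  obtain ⟨m, hm, hcard⟩ := (Nat.dvd_prime_pow hp.out).1 hdvd
  interval_cases m
  · rw [pow_zero] at hcard
    exact absurd (card_eq_one.1 hcard) hU1
  · rw [pow_one] at hcard
    rcases eq_bot_or_eq_of_le_of_card_prime hcard (zpowers_le.2 hu) with h5 | h5
    · exact absurd (zpowers_eq_bot.1 h5) hu1'
    · exact absurd (h5 ▸ hu') hnot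
  · exact eq_of_le_of_card_ge hU (by rw [hcard, hcW])

end Irr

namespace Pair

open FFS

variable [Finite G] {p : ℕ} [hp : Fact p.Prime] {V H K A : Subgroup G} {x : G}

theorem natSL2 (P : Pair p V H K A x) : NatSL2 p (A ⊔ cjs x A) ⁅V, A ⊔ cjs x A⁆ := by
  obtain ⟨a, hAa, -⟩ := MinOff.exists_gen P.hA
  obtain ⟨e₁, he₁, -⟩ := exists_zpowers_of_card_prime (MinOff.card_commutator P.h P.hA)
  obtain ⟨e₂, he₂, -⟩ := exists_zpowers_of_card_prime (MinOff.card_commutator P.h P.hAx)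
  have hAxb : cjs x A = zpowers (x * a * x⁻¹) := by rw [hAa]; exact map_conj_zpowers x a
  have hP1 : ⁅V, A⁆ ≤ V := Helper30.commutator_le_of_le_normalizer (P.hA.1.trans P.h.hHV)
  have hP2 : ⁅V, cjs x A⁆ ≤ V := Helper30.commutator_le_of_le_normalizer (P.hAx.1.trans P.h.hHV)
  have he₁P : e₁ ∈ ⁅V, A⁆ := he₁ ▸ mem_zpowers e₁
  have he₂P : e₂ ∈ ⁅V, cjs x A⁆ := he₂ ▸ mem_zpowers e₂
  obtain ⟨l, hl1, hl2⟩ := P.h.transvection_data P.hA hAa he₁ (hP2 he₂P)
    (he₂ ▸ P.not_le_centralizer)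
  obtain ⟨m, hm1, hm2⟩ := P.h.transvection_data P.hAx hAxb he₂ (hP1 he₁P)
    (he₁ ▸ P.not_le_centralizer')
  have haA : a ∈ A := hAa ▸ mem_zpowers a
  have hbAx : x * a * x⁻¹ ∈ cjs x A := ⟨a, haA, rfl⟩
  have hW := P.W_eq
  refine natSL2_of_transvections (W := ⁅V, A ⊔ cjs x A⁆) (a := a) (b := x * a * x⁻¹) (e₁ := e₁)
    (e₂ := e₂) (fun u hu w hw => P.h.hVc u (P.W_le_V hu) w (P.W_le_V hw))
    (fun u hu => P.h.pow_eq_one_of_mem_V (P.W_le_V hu)) P.card_W
    (hW ▸ (le_sup_left : ⁅V, A⁆ ≤ _) he₁P) (hW ▸ (le_sup_right : ⁅V, cjs x A⁆ ≤ _) he₂P)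
    (by rw [hW, he₁, he₂]) (P.D_le_NW ((le_sup_left : A ≤ _) haA))
    (P.D_le_NW ((le_sup_right : cjs x A ≤ _) hbAx)) (by rw [← hAa, ← hAxb]) P.faithful
    ?_ l hl1 hl2 ?_ m hm1 hm2
  · have := (mem_centralizer_iff.1 (MinOff.quad P.h P.hA haA)) e₁ he₁P
    rw [← this]; group
  · have := (mem_centralizer_iff.1 (MinOff.quad P.h P.hAx hbAx)) e₂ he₂P
    rw [← this]; group

/-- No proper nontrivial subgroup of `W` is invariant under `K`. -/
theorem irreducible (P : Pair p V H K A x) {U : Subgroup G} (hU : U ≤ ⁅V, A ⊔ cjs x A⁆)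
    (hKU : K ≤ normalizer (U : Set G)) : U = ⊥ ∨ U = ⁅V, A ⊔ cjs x A⁆ :=
  P.natSL2.irreducible P.prime_le_three (fun _ hd => P.h.pow_mem_K P.hA (P.D_le hd)) hU hKU

end Pair

namespace FFS

variable [Finite G] {p : ℕ} [hp : Fact p.Prime] {V H K : Subgroup G}

theorem MinOff.R_le_K (h : FFS p V H K) {A : Subgroup G} (hA : MinOff p V H A) : ⁅K, A⁆ ≤ K :=
  Helper30.commutator_le_of_le_normalizer (MinOff.hAK h hA)

theorem MinOff.R_comm (h : FFS p V H K) {A : Subgroup G} (hA : MinOff p V H A) :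
    ⁅⁅K, A⁆, A⁆ = ⁅K, A⁆ :=
  Helper30.commutator_commutator_eq (MinOff.hAK h hA) (MinOff.hcop h hA) (MinOff.hsolv h hA)

theorem MinOff.R_ne_bot (h : FFS p V H K) {A : Subgroup G} (hA : MinOff p V H A) :
    ⁅K, A⁆ ≠ ⊥ := by
  intro hR
  obtain ⟨x, hx, hxA⟩ := MinOff.exists_not_centralizing h hA
  rw [commutator_eq_bot_iff_le_centralizer] at hR
  exact hxA (hR hx)

theorem MinOff.E_le_H (h : FFS p V H K) {A : Subgroup G} (hA : MinOff p V H A) :
    ⁅K, A⁆ ⊔ A ≤ H := sup_le ((MinOff.R_le_K h hA).trans h.hKH) hA.1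

theorem MinOff.E_le_NR (K A : Subgroup G) :
    ⁅K, A⁆ ⊔ A ≤ normalizer ((⁅K, A⁆ : Subgroup G) : Set G) :=
  sup_le le_normalizer (normalizer_commutator_ge_right K A)

/-- If `A` centralizes an `E`-invariant subgroup, so does `E`. -/
theorem MinOff.E_le_centralizer (h : FFS p V H K) {A U : Subgroup G} (hA : MinOff p V H A)
    (hEU : ⁅K, A⁆ ⊔ A ≤ normalizer (U : Set G)) (hAU : A ≤ centralizer (U : Set G)) :
    ⁅K, A⁆ ⊔ A ≤ centralizer (U : Set G) := by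
  refine sup_le ?_ hAU
  rw [← MinOff.R_comm h hA, commutator_le]
  intro r hr a ha
  have h1 : r ∈ normalizer ((centralizer (U : Set G) : Subgroup G) : Set G) :=
    normalizer_le_normalizer_centralizer' U (hEU ((le_sup_left : ⁅K, A⁆ ≤ _) hr))
  rw [commutatorElement_def]
  exact mul_mem ((mem_normalizer_iff.1 h1 a).1 (hAU ha)) (inv_mem (hAU ha))

theorem coprime_card_V (h : FFS p V H K) {N : Subgroup G} (hNK : N ≤ K) :
    (Nat.card ↥N).Coprime (Nat.card ↥V) := by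
  obtain ⟨n, hn⟩ := IsPGroup.iff_card.1 h.hVp
  rw [hn]
  exact Nat.Coprime.pow_right n (Nat.Coprime.coprime_dvd_left (card_dvd_of_le hNK) h.hKp)

theorem decomp (h : FFS p V H K) {N : Subgroup G} (hNK : N ≤ K) :
    (V ⊓ centralizer (N : Set G)) ⊓ ⁅V, N⁆ = ⊥ ∧ (V ⊓ centralizer (N : Set G)) ⊔ ⁅V, N⁆ = V := by
  have : IsMulCommutative ↥V := ⟨⟨fun a b => Subtype.ext (h.hVc a a.2 b b.2)⟩⟩
  exact Cfsg.Agent.S0055.result N V (hNK.trans h.hKV) (h.coprime_card_V hNK)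

/-- The irreducibility lemma. -/
theorem MinOff.irr (h : FFS p V H K) {A N : Subgroup G} (hA : MinOff p V H A) (hN1 : N ≠ ⊥)
    (hNK : N ≤ K) (hNle : N ≤ ⁅K, A⁆ ⊔ A) (hNE : ⁅K, A⁆ ⊔ A ≤ normalizer (N : Set G)) :
    ⁅V, N⁆ = ⁅V, ⁅K, A⁆ ⊔ A⁆ ∧
      V ⊓ centralizer (N : Set G) = V ⊓ centralizer ((⁅K, A⁆ ⊔ A : Subgroup G) : Set G) := by
  obtain ⟨hd1, hd2⟩ := h.decomp hNK
  set E := ⁅K, A⁆ ⊔ A with hE
  set C₀ := V ⊓ centralizer (N : Set G) with hC₀
  set U := ⁅V, N⁆ with hU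
  have hEV : E ≤ normalizer (V : Set G) := (MinOff.E_le_H h hA).trans h.hHV
  have hEC₀ : E ≤ normalizer (C₀ : Set G) :=
    Helper30.le_normalizer_inf hEV (hNE.trans (normalizer_le_normalizer_centralizer' N))
  have hEU : E ≤ normalizer (U : Set G) := Helper30.le_normalizer_commutator hEV hNE
  have hUV : U ≤ V := Helper30.commutator_le_of_le_normalizer (hNK.trans h.hKV)
  have hAE : A ≤ E := le_sup_right
  have hcP := MinOff.card_commutator h hA
  have hor : ⁅C₀, A⁆ = ⊥ ∨ ⁅U, A⁆ = ⊥ := by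
    by_contra hcon
    push Not at hcon
    have h1 : ⁅C₀, A⁆ ≤ C₀ ⊓ ⁅V, A⁆ :=
      le_inf (Helper30.commutator_le_of_le_normalizer (hAE.trans hEC₀))
        (commutator_mono inf_le_left le_rfl)
    have h2 : ⁅U, A⁆ ≤ U ⊓ ⁅V, A⁆ :=
      le_inf (Helper30.commutator_le_of_le_normalizer (hAE.trans hEU)) (commutator_mono hUV le_rfl)
    have h3 : ⁅V, A⁆ ≤ C₀ := by
      rcases eq_bot_or_eq_of_le_of_card_prime hcP (inf_le_right : C₀ ⊓ ⁅V, A⁆ ≤ _) with h4 | h4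
      · exact absurd (le_bot_iff.1 (h4 ▸ h1)) hcon.1
      · exact inf_eq_right.1 h4
    have h5 : ⁅V, A⁆ ≤ U := by
      rcases eq_bot_or_eq_of_le_of_card_prime hcP (inf_le_right : U ⊓ ⁅V, A⁆ ≤ _) with h4 | h4
      · exact absurd (le_bot_iff.1 (h4 ▸ h2)) hcon.2
      · exact inf_eq_right.1 h4
    have h6 : ⁅V, A⁆ ≤ ⊥ := hd1 ▸ le_inf h3 h5
    exact (h.min_of_minOff hA).1 (le_bot_iff.1 h6)
  rcases hor with hc | hc
  · have h1 : A ≤ centralizer (C₀ : Set G) := by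
      rw [commutator_comm, commutator_eq_bot_iff_le_centralizer] at hc
      exact hc
    have h2 := MinOff.E_le_centralizer h hA hEC₀ h1
    constructor
    · apply le_antisymm (commutator_mono le_rfl hNle)
      rw [commutator_le]
      intro v hv e he
      rw [← hd2] at hv
      obtain ⟨c, hc', u, hu, rfl⟩ := (Helper14.mem_sup_of_commute (H := C₀) (K := U)
        (fun c hc' u hu => h.hVc c (mem_inf.1 hc').1 u (hUV hu))).1 hv
      have h3 : e * c = c * e := ((mem_centralizer_iff.1 (h2 he)) c hc').symm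
      have h3' : e * c⁻¹ = c⁻¹ * e := by
        calc e * c⁻¹ = c⁻¹ * (c * e) * c⁻¹ := by group
          _ = c⁻¹ * e := by rw [← h3]; group
      have h4 : u * (e * u⁻¹ * e⁻¹) ∈ U :=
        U.mul_mem hu ((mem_normalizer_iff.1 (hEU he) _).1 (U.inv_mem hu))
      have h5 : ⁅c * u, e⁆ = c * (u * (e * u⁻¹ * e⁻¹)) * c⁻¹ := by
        rw [commutatorElement_def]
        calc c * u * e * (c * u)⁻¹ * e⁻¹ = c * u * e * u⁻¹ * (c⁻¹ * e⁻¹) := by group
          _ = c * u * e * u⁻¹ * (e⁻¹ * c⁻¹) := by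
              congr 1
              calc c⁻¹ * e⁻¹ = e⁻¹ * (e * c⁻¹) * e⁻¹ := by group
                _ = e⁻¹ * c⁻¹ := by rw [h3']; group
          _ = _ := by group
      rw [h5, h.hVc c hc'.1 _ (hUV h4)]
      simpa using h4
    · apply le_antisymm
      · exact le_inf inf_le_left (le_centralizer_iff.1 h2)
      · exact inf_le_inf_left V (centralizer_le hNle)
  · exfalso
    have h1 : A ≤ centralizer (U : Set G) := by
      rw [commutator_comm, commutator_eq_bot_iff_le_centralizer] at hc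
      exact hc
    have h2 := MinOff.E_le_centralizer h hA hEU h1
    have h3 : U ≤ C₀ := le_inf hUV (le_centralizer_iff.1 (hNle.trans h2))
    have h4 : U = ⊥ := le_bot_iff.1 (hd1 ▸ le_inf h3 le_rfl)
    have h5 : N ≤ K ⊓ centralizer (V : Set G) := by
      refine le_inf hNK ?_
      rw [hU, commutator_comm, commutator_eq_bot_iff_le_centralizer] at h4
      exact h4
    rw [h.hKf] at h5
    exact hN1 (le_bot_iff.1 h5)

end FFS

end Cfsg.Agent.Lib.Helper55
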