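import Cfsg.Agent.Lib.Helper55.JCFFa
import Cfsg.Agent.Lib.Helper55.Norm
import Cfsg.Agent.Lib.Helper3.AutOrbit

set_option autoImplicit false
set_option linter.unusedSectionVars false

/-! Coprime operators on the failure-of-factorization structure. -/

namespace Cfsg.Agent.Lib.Helper55

open Cfsg Subgroup
open scoped commutatorElement Pointwise

variable {G : Type*} [Group G]

/-- An element of order dividing `q` normalizing a group of order `p²` centralizes it,
if `q` divides neither `p² - 1` nor `p² - p`. -/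
theorem mem_centralizer_of_card_sq [Finite G] {p q : ℕ} [hp : Fact p.Prime] [hq : Fact q.Prime]
    {W : Subgroup G} (hW : Nat.card ↥W = p ^ 2) {g : G} (hg : g ∈ normalizer (W : Set G))
    (hgq : g ^ q = 1) (h1 : ¬ q ∣ p ^ 2 - 1) (h2 : ¬ q ∣ p ^ 2 - p) :
    g ∈ centralizer (W : Set G) := by
  have haq : (MulAut.conj g) ^ q = 1 := by rw [← map_pow, hgq, map_one]
  have hmod := Helper3.card_modEq_card_inf_fixSub (MulAut.conj g) haq W
    (fun x hx => (mem_normalizer_iff.1 hg x).1 hx)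
    (fun x hx => by
      have := (mem_normalizer_iff.1 (inv_mem hg) x).1 hx
      simpa [MulAut.conj_symm_apply] using this)
  set U := W ⊓ Helper3.fixSub (MulAut.conj g) with hU
  have hdvd : Nat.card ↥U ∣ p ^ 2 := hW ▸ card_dvd_of_le (inf_le_left : U ≤ W)
  obtain ⟨m, hm, hc⟩ := (Nat.dvd_prime_pow hp.out).1 hdvd
  rw [hW, hc] at hmod
  have hp1 := hp.out.one_lt
  have hUW : U = W := by
    interval_cases m
    · exfalso
      apply h1
      rw [pow_zero] at hmod
      exact (Nat.modEq_iff_dvd' (by nlinarith)).1 hmod.symm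
    · exfalso
      apply h2
      rw [pow_one] at hmod
      exact (Nat.modEq_iff_dvd' (by nlinarith)).1 hmod.symm
    · exact eq_of_le_of_card_ge inf_le_left (by rw [hc, hW])
  rw [mem_centralizer_iff]
  intro w hw
  have h3 : w ∈ U := hUW ▸ hw
  have h4 : g * w * g⁻¹ = w := h3.2
  calc w * g = (g * w * g⁻¹) * g := by rw [h4]
    _ = g * w := by group

namespace FFS

variable [Finite G] {p : ℕ} [hp : Fact p.Prime] {V H K : Subgroup G}

theorem MinOff.conj' (h : FFS p V H K) {A : Subgroup G} (hA : MinOff p V H A) {g : G}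
    (hgV : g ∈ normalizer (V : Set G)) (hgH : g ∈ normalizer (H : Set G)) :
    MinOff p V H (cjs g A) := by
  have hle : cjs g A ≤ H := by
    have := Subgroup.map_mono (f := (MulAut.conj g).toMonoidHom) hA.1
    rwa [Helper14.map_conj_of_mem_normalizer hgH] at this
  obtain ⟨hE, hc⟩ := (h.bestOffender_iff hA.1).1 hA.2.1
  refine ⟨hle, (h.bestOffender_iff hle).2 ⟨Helper14.IsElementaryAbelian.map hE _, ?_⟩, ?_⟩
  · have h1 : (V ⊓ centralizer (A : Set G)).map (MulAut.conj g).toMonoidHom =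
        V ⊓ centralizer ((cjs g A : Subgroup G) : Set G) := by
      rw [Subgroup.map_inf _ _ _ (MulAut.conj g).injective,
        Helper14.map_conj_of_mem_normalizer hgV, Helper14.map_conj_centralizer]
    rw [← h1, Helper14.card_map_conj, Helper14.card_map_conj]
    exact hc
  · rw [Helper14.card_map_conj]
    exact hA.2.2

theorem MinOff.card_E (h : FFS p V H K) {A : Subgroup G} (hA : MinOff p V H A) :
    Nat.card ↥(EE K A) = p * (p ^ 2 - 1) := by
  obtain ⟨x, P, hE, -, -⟩ := MinOff.exists_pair h hA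
  show Nat.card ↥(⁅K, A⁆ ⊔ A) = _
  rw [hE, P.card_D]

theorem MinOff.E_eq_sup (h : FFS p V H K) {A : Subgroup G} (hA : MinOff p V H A) {x : G}
    (hx : x ∈ K) (hxA : x ∉ centralizer (A : Set G)) : EE K A = A ⊔ cjs x A := by
  have P : Pair p V H K A x := ⟨h, hA, hx, hxA⟩
  exact (eq_of_le_of_card_ge P.D_le_R (by rw [P.card_D, MinOff.card_E h hA])).symm

section Op

variable (hS3 : H = ⨆ A : {A : Subgroup G // A ≤ H ∧ IsBestOffenderOn p V A}, (A : Subgroup G))

include hS3

/-- the dichotomy for an operator `g`. -/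
theorem MinOff.dich_conj (h : FFS p V H K) {A : Subgroup G} (hA : MinOff p V H A) {g : G}
    (hgV : g ∈ normalizer (V : Set G)) (hgH : g ∈ normalizer (H : Set G))
    (hgK : g ∈ normalizer (K : Set G)) :
    cjs g (EE K A) = EE K A ∨
      (cjs g (EE K A) ≤ centralizer ((EE K A : Subgroup G) : Set G) ∧
       cjs g (EE K A) ≤ centralizer ((WW V K A : Subgroup G) : Set G) ∧
       cjs g (WW V K A) ≤ V ⊓ centralizer ((EE K A : Subgroup G) : Set G)) := by
  have hE : cjs g (EE K A) = EE K (cjs g A) := by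
    show (⁅K, A⁆ ⊔ A).map _ = _
    rw [Subgroup.map_sup, Subgroup.map_commutator, Helper14.map_conj_of_mem_normalizer hgK]
  have hW : cjs g (WW V K A) = WW V K (cjs g A) := by
    show (⁅V, ⁅K, A⁆ ⊔ A⁆).map _ = _
    rw [Subgroup.map_commutator, Helper14.map_conj_of_mem_normalizer hgV]
    congr 1
  have hA' := MinOff.conj' h hA hgV hgH
  rcases MinOff.dichotomy h hA hA' with h1 | ⟨-, h1, h2⟩
  · left
    rw [hE, h1]
  · right
    rw [hE, hW]
    refine ⟨?_, h1, le_inf (MinOff.W_le_V h hA') (le_centralizer_iff.1 h2)⟩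
    have h3 := MinOff.comm_eq_bot hS3 h hA
    rw [commutator_eq_bot_iff_le_centralizer, le_centralizer_iff] at h3
    exact (le_inf (MinOff.E_le_H h hA') h1).trans h3

theorem MinOff.mem_centralizer_E (h : FFS p V H K) {A : Subgroup G} (hA : MinOff p V H A)
    {q : ℕ} [hq : Fact q.Prime] (hqE : ¬ q ∣ p * (p ^ 2 - 1)) {g : G}
    (hgV : g ∈ normalizer (V : Set G)) (hgE : cjs g (EE K A) = EE K A) (hgq : g ^ q = 1) :
    g ∈ centralizer ((EE K A : Subgroup G) : Set G) ∧
      g ∈ centralizer ((WW V K A : Subgroup G) : Set G) := by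
  have hgE' : g ∈ normalizer ((EE K A : Subgroup G) : Set G) :=
    Helper14.mem_normalizer_of_map_conj_eq hgE
  have hgW : g ∈ normalizer ((WW V K A : Subgroup G) : Set G) :=
    Helper53.mem_normalizer_commutator hgV hgE'
  have h1 : ¬ q ∣ p ^ 2 - 1 := fun hd => hqE (Dvd.dvd.mul_left hd p)
  have h2 : ¬ q ∣ p ^ 2 - p := by
    intro hd
    apply hqE
    rcases MinOff.prime_le_three h hA with rfl | rfl
    · exact hd.trans (by norm_num)
    · exact hd.trans (by norm_num)
  have hc := mem_centralizer_of_card_sq (MinOff.card_W h hA) hgW hgq h1 h2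
  refine ⟨?_, hc⟩
  rw [mem_centralizer_iff]
  intro e he
  have h3 : g * e * g⁻¹ * e⁻¹ ∈ EE K A ⊓ centralizer ((WW V K A : Subgroup G) : Set G) := by
    refine mem_inf.2 ⟨mul_mem ((mem_normalizer_iff.1 hgE' e).1 he) (inv_mem he), ?_⟩
    have hN := normalizer_le_normalizer_centralizer' _ ((MinOff.natSL2 h hA).le_normalizer he)
    have : g * e * g⁻¹ * e⁻¹ = g * (e * g⁻¹ * e⁻¹) := by group
    rw [this]
    exact mul_mem hc ((mem_normalizer_iff.1 hN _).1 (inv_mem hc))
  rw [MinOff.faithful h hA, mem_bot] at h3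
  calc e * g = (g * e * g⁻¹ * e⁻¹)⁻¹ * (g * e) := by group
    _ = g * e := by rw [h3]; group

/-- A fixed point of the operators in `K` which does not centralize `A`. -/
theorem MinOff.exists_fixed (h : FFS p V H K) {A : Subgroup G} (hA : MinOff p V H A)
    {q : ℕ} [hq : Fact q.Prime] (hqE : ¬ q ∣ p * (p ^ 2 - 1))
    {Ξ : Type*} [Group Ξ] [Finite Ξ] (hΞ : IsPGroup q Ξ) (σ : Ξ →* G)
    (hσV : ∀ ξ, σ ξ ∈ normalizer (V : Set G)) (hσH : ∀ ξ, σ ξ ∈ normalizer (H : Set G))
    (hσK : ∀ ξ, σ ξ ∈ normalizer (K : Set G)) (hσq : ∀ ξ, σ ξ ^ q = 1) :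
    ∃ x ∈ K, (∀ ξ, σ ξ * x * (σ ξ)⁻¹ = x) ∧ x ∉ centralizer (A : Set G) := by
  have := Fintype.ofFinite Ξ
  have hR : ¬ ⁅K, A⁆ ≤ centralizer (A : Set G) := by
    intro hc
    rw [← commutator_eq_bot_iff_le_centralizer, MinOff.R_comm h hA] at hc
    exact MinOff.R_ne_bot h hA hc
  obtain ⟨r, hr, hrA⟩ := SetLike.not_le_iff_exists.1 hR
  have hrE : r ∈ EE K A := (le_sup_left : ⁅K, A⁆ ≤ EE K A) hr
  have hrK : r ∈ K := MinOff.R_le_K h hA hr
  have hC : ∀ ξ, σ ξ * r * (σ ξ)⁻¹ = r ∨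
      σ ξ * r * (σ ξ)⁻¹ ∈ centralizer ((EE K A : Subgroup G) : Set G) := by
    intro ξ
    rcases MinOff.dich_conj hS3 h hA (hσV ξ) (hσH ξ) (hσK ξ) with h1 | ⟨h1, -, -⟩
    · left
      have h2 := (MinOff.mem_centralizer_E hS3 h hA hqE (hσV ξ) h1 (hσq ξ)).1
      rw [← (mem_centralizer_iff.1 h2) r hrE, mul_inv_cancel_right]
    · right
      exact h1 ⟨r, hrE, rfl⟩
  have hcomm : ∀ ξ, Commute r (σ ξ * r * (σ ξ)⁻¹) := by
    intro ξ
    rcases hC ξ with h1 | h1
    · rw [h1]
    · exact (mem_centralizer_iff.1 h1) r hrE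
  refine ⟨nm σ r hcomm, nm_mem hcomm K (fun ξ => (mem_normalizer_iff.1 (hσK ξ) r).1 hrK),
    nm_fixed hcomm, ?_⟩
  intro hx
  obtain ⟨j, z, hz, hxz⟩ := nm_split hcomm hΞ _ hC
  apply hrA
  have hzA : z ∈ centralizer (A : Set G) := centralizer_le (le_sup_right : A ≤ EE K A) hz
  have h1 : r ^ (q ^ j) ∈ centralizer (A : Set G) := by
    have : r ^ (q ^ j) = nm σ r hcomm * z⁻¹ := by rw [hxz]; group
    rw [this]
    exact mul_mem hx (inv_mem hzA)
  refine Helper53.mem_of_pow_mem_of_coprime ?_ h1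
  have h2 : orderOf r ∣ p ^ 2 - 1 := by
    rw [← MinOff.card_R h hA, ← Subgroup.orderOf_mk r hr]
    exact orderOf_dvd_natCard _
  have h3 : ¬ q ∣ p ^ 2 - 1 := fun hd => hqE (Dvd.dvd.mul_left hd p)
  exact Nat.Coprime.coprime_dvd_left h2 ((Nat.Prime.coprime_iff_not_dvd hq.out).2 h3).symm

end Op

end FFS

end Cfsg.Agent.Lib.Helper55
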