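import Cfsg.Agent.Lib.Helper55.FFX
import Cfsg.Agent.Lib.Helper55.Norm2

set_option autoImplicit false
set_option linter.unusedSectionVars false

/-! Coprime operators on the failure-of-factorization structure: fixed points involve `SL₂(p)`. -/

namespace Cfsg.Agent.Lib.Helper55

open Cfsg Subgroup
open scoped commutatorElement Pointwise

variable {G : Type*} [Group G]

namespace FFS

variable [Finite G] {p : ℕ} [hp : Fact p.Prime] {V H K : Subgroup G}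

/-- The fixed points of the operators contain a plane and a subgroup inducing `SL₂(p)` on it. -/
theorem MinOff.exists_fixed_SL2 (h : FFS p V H K)
    (hS3 : H = ⨆ A : {A : Subgroup G // A ≤ H ∧ IsBestOffenderOn p V A}, (A : Subgroup G))
    {A : Subgroup G} (hA : MinOff p V H A)
    {q : ℕ} [hq : Fact q.Prime] (hqE : ¬ q ∣ p * (p ^ 2 - 1))
    {Ξ : Type*} [Group Ξ] [Finite Ξ] (hΞ : IsPGroup q Ξ) (σ : Ξ →* G)
    (hσV : ∀ ξ, σ ξ ∈ normalizer (V : Set G)) (hσH : ∀ ξ, σ ξ ∈ normalizer (H : Set G))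
    (hσK : ∀ ξ, σ ξ ∈ normalizer (K : Set G)) (hσq : ∀ ξ, σ ξ ^ q = 1) :
    ∃ W Y : Subgroup G, W ≤ V ∧ W ≤ centralizer (σ.range : Set G) ∧ Nat.card ↥W = p ^ 2 ∧
      Y ≤ H ∧ Y ≤ centralizer (σ.range : Set G) ∧ Y ≤ normalizer (W : Set G) ∧
      ∃ Ψ : ↥Y →* Matrix.SpecialLinearGroup (Fin 2) (ZMod p), Function.Surjective Ψ ∧
        ∀ y : ↥Y, Ψ y = 1 ↔ (y : G) ∈ centralizer (W : Set G) := by
  have := Fintype.ofFinite Ξ
  set E := EE K A with hE
  set W₀ := WW V K A with hW₀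
  have hW₀V : W₀ ≤ V := MinOff.W_le_V h hA
  have hEW : E ≤ normalizer (W₀ : Set G) := (MinOff.natSL2 h hA).le_normalizer
  have hEH : E ≤ H := MinOff.E_le_H h hA
  have hfix_iff : ∀ y : G, y ∈ centralizer (σ.range : Set G) ↔ ∀ ξ, σ ξ * y * (σ ξ)⁻¹ = y := by
    intro y
    rw [mem_centralizer_iff]
    constructor
    · intro h1 ξ
      rw [h1 (σ ξ) ⟨ξ, rfl⟩, mul_inv_cancel_right]
    · rintro h1 _ ⟨ξ, rfl⟩
      calc σ ξ * y = (σ ξ * y * (σ ξ)⁻¹) * σ ξ := by group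
        _ = y * σ ξ := by rw [h1 ξ]
  -- the two dichotomies
  have hCE : ∀ g ∈ E, ∀ ξ, σ ξ * g * (σ ξ)⁻¹ = g ∨
      σ ξ * g * (σ ξ)⁻¹ ∈ centralizer (E : Set G) ⊓ centralizer (W₀ : Set G) := by
    intro g hg ξ
    rcases MinOff.dich_conj hS3 h hA (hσV ξ) (hσH ξ) (hσK ξ) with h1 | ⟨h1, h2, -⟩
    · left
      have h2 := (MinOff.mem_centralizer_E hS3 h hA hqE (hσV ξ) h1 (hσq ξ)).1
      rw [← (mem_centralizer_iff.1 h2) g hg, mul_inv_cancel_right]
    · right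
      exact mem_inf.2 ⟨h1 ⟨g, hg, rfl⟩, h2 ⟨g, hg, rfl⟩⟩
  have hCW : ∀ w ∈ W₀, ∀ ξ, σ ξ * w * (σ ξ)⁻¹ = w ∨
      σ ξ * w * (σ ξ)⁻¹ ∈ V ⊓ centralizer (E : Set G) := by
    intro w hw ξ
    rcases MinOff.dich_conj hS3 h hA (hσV ξ) (hσH ξ) (hσK ξ) with h1 | ⟨-, -, h3⟩
    · left
      have h2 := (MinOff.mem_centralizer_E hS3 h hA hqE (hσV ξ) h1 (hσq ξ)).2
      rw [← (mem_centralizer_iff.1 h2) w hw, mul_inv_cancel_right]
    · right
      exact h3 ⟨w, hw, rfl⟩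
  have hcommE : ∀ g ∈ E, ∀ ξ, Commute g (σ ξ * g * (σ ξ)⁻¹) := by
    intro g hg ξ
    rcases hCE g hg ξ with h1 | h1
    · rw [h1]
    · exact (mem_centralizer_iff.1 (mem_inf.1 h1).1) g hg
  have hU : ∀ u ∈ W₀, ∀ u' ∈ W₀, ∀ ξ, Commute u (σ ξ * u' * (σ ξ)⁻¹) := by
    intro u hu u' hu' ξ
    exact h.hVc u (hW₀V hu) _ ((mem_normalizer_iff.1 (hσV ξ) u').1 (hW₀V hu'))
  have hqp : ¬ q ∣ p := fun hd => hqE (Dvd.dvd.mul_right hd _)
  set N := nmHom σ W₀ hU with hN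
  have hNinj : Function.Injective N := by
    rw [injective_iff_map_eq_one]
    intro w hw
    rw [hN, nmHom_apply] at hw
    obtain ⟨j, z, hz, hwz⟩ := nm_split (fun ξ => hU w w.2 w w.2 ξ) hΞ _ (hCW w w.2)
    rw [hw] at hwz
    have h1 : (w : G) ^ (q ^ j) ∈ (V ⊓ centralizer (E : Set G)) ⊓ W₀ := by
      refine mem_inf.2 ⟨?_, pow_mem w.2 _⟩
      have : (w : G) ^ (q ^ j) = z⁻¹ := eq_inv_of_mul_eq_one_left hwz.symm
      rw [this]
      exact inv_mem hz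
    rw [MinOff.dec1 h hA] at h1
    have h2 : (orderOf (w : G)).Coprime q := by
      have h3 : orderOf (w : G) ∣ p := orderOf_dvd_of_pow_eq_one (h.pow_eq_one_of_mem_V (hW₀V w.2))
      exact Nat.Coprime.coprime_dvd_left h3 ((Nat.Prime.coprime_iff_not_dvd hq.out).2 hqp).symm
    have h4 := Helper53.mem_of_pow_mem_of_coprime h2 h1
    exact Subtype.ext (mem_bot.1 h4)
  set C := centralizer (W₀ : Set G) with hC
  have hEC : E ≤ normalizer (C : Set G) := hEW.trans (normalizer_le_normalizer_centralizer' _)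
  have hCEW : C ⊔ E ≤ normalizer (W₀ : Set G) := sup_le (centralizer_le_normalizer _) hEW
  set Y := (H ⊓ centralizer (σ.range : Set G)) ⊓ (C ⊔ E) with hY
  have hYW₀ : Y ≤ normalizer (W₀ : Set G) := inf_le_right.trans hCEW
  have hYC : Y ≤ normalizer (C : Set G) := hYW₀.trans (normalizer_le_normalizer_centralizer' _)
  have hYfix : Y ≤ centralizer (σ.range : Set G) := inf_le_left.trans inf_le_right
  -- equivariance of the norm
  have hconj : ∀ y (hy : y ∈ Y) (w : ↥W₀),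
      y * N w * y⁻¹ = N ⟨y * w * y⁻¹, (mem_normalizer_iff.1 (hYW₀ hy) w).1 w.2⟩ := by
    intro y hy w
    rw [hN, nmHom_apply, nmHom_apply]
    apply nm_conj
    intro ξ
    exact ((mem_centralizer_iff.1 (hYfix hy)) (σ ξ) ⟨ξ, rfl⟩).symm
  have hcent : ∀ y ∈ Y, y ∈ centralizer (N.range : Set G) ↔ y ∈ C := by
    intro y hy
    constructor
    · intro h1
      rw [hC, mem_centralizer_iff]
      intro w hw
      have h2 : y * N ⟨w, hw⟩ * y⁻¹ = N ⟨w, hw⟩ := by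
        rw [← (mem_centralizer_iff.1 h1) _ ⟨⟨w, hw⟩, rfl⟩, mul_inv_cancel_right]
      rw [hconj y hy] at h2
      have h3 : y * w * y⁻¹ = w := congrArg Subtype.val (hNinj h2)
      calc w * y = (y * w * y⁻¹) * y := by rw [h3]
        _ = y * w := by group
    · intro h1
      rw [mem_centralizer_iff]
      rintro _ ⟨w, rfl⟩
      have h2 : y * (w : G) * y⁻¹ = w := by
        rw [← (mem_centralizer_iff.1 h1) w w.2, mul_inv_cancel_right]
      have h3 := hconj y hy w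
      have h4 : (⟨y * w * y⁻¹, (mem_normalizer_iff.1 (hYW₀ hy) w).1 w.2⟩ : ↥W₀) = w :=
        Subtype.ext h2
      rw [h4] at h3
      calc N w * y = (y * N w * y⁻¹) * y := by rw [h3]
        _ = y * N w := by group
  obtain ⟨φ, -, -⟩ := MinOff.natSL2 h hA
  have hYex : ∀ y ∈ Y, ∃ e ∈ E, e⁻¹ * y ∈ C := by
    intro y hy
    obtain ⟨c, hc, e, he, rfl⟩ := (Helper14.mem_sup_of_le_normalizer hEC).1 (mem_inf.1 hy).2
    refine ⟨e, he, ?_⟩
    have : e⁻¹ * (c * e) = e⁻¹ * c * (e⁻¹)⁻¹ := by group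
    rw [this]
    exact (mem_normalizer_iff.1 (hEC (inv_mem he)) c).1 hc
  have hsurj : ∀ e ∈ E, ∃ y ∈ Y, e⁻¹ * y ∈ C := by
    intro e he
    obtain ⟨j, z, hz, hez⟩ := nm_split (hcommE e he) hΞ _ (hCE e he)
    have hy₀ : nm σ e (hcommE e he) ∈ Y := by
      refine mem_inf.2 ⟨mem_inf.2 ⟨?_, ?_⟩, ?_⟩
      · exact nm_mem _ H (fun ξ => (mem_normalizer_iff.1 (hσH ξ) e).1 (hEH he))
      · exact (hfix_iff _).2 (nm_fixed _)
      · rw [hez]
        exact mul_mem ((le_sup_right : E ≤ C ⊔ E) (pow_mem he _))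
          ((le_sup_left : C ≤ C ⊔ E) (mem_inf.1 hz).2)
    have h1 : e ^ (q ^ j) ∈ C ⊔ Y := by
      have : e ^ (q ^ j) = nm σ e (hcommE e he) * z⁻¹ := by rw [hez]; group
      rw [this]
      exact mul_mem ((le_sup_right : Y ≤ C ⊔ Y) hy₀)
        ((le_sup_left : C ≤ C ⊔ Y) (inv_mem (mem_inf.1 hz).2))
    have h2 : (orderOf e).Coprime q := by
      have h3 : orderOf e ∣ p * (p ^ 2 - 1) := by
        rw [← MinOff.card_E h hA, ← Subgroup.orderOf_mk e he]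
        exact orderOf_dvd_natCard _
      exact Nat.Coprime.coprime_dvd_left h3 ((Nat.Prime.coprime_iff_not_dvd hq.out).2 hqE).symm
    have h4 := Helper53.mem_of_pow_mem_of_coprime h2 h1
    obtain ⟨c, hc, y, hy, rfl⟩ := (Helper14.mem_sup_of_le_normalizer hYC).1 h4
    refine ⟨y, hy, ?_⟩
    have : (c * y)⁻¹ * y = y⁻¹ * c⁻¹ * (y⁻¹)⁻¹ := by group
    rw [this]
    exact (mem_normalizer_iff.1 (hYC (inv_mem hy)) _).1 (inv_mem hc)
  obtain ⟨Ψ, hΨs, hΨk⟩ := exists_proj hEC (MinOff.faithful h hA) hYex hsurj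
  refine ⟨N.range, Y, ?_, ?_, ?_, inf_le_left.trans inf_le_left, hYfix, ?_,
    φ.toMonoidHom.comp Ψ, φ.surjective.comp hΨs, ?_⟩
  · rintro _ ⟨w, rfl⟩
    rw [hN, nmHom_apply]
    exact nm_mem _ V (fun ξ => (mem_normalizer_iff.1 (hσV ξ) w).1 (hW₀V w.2))
  · rintro _ ⟨w, rfl⟩
    rw [hN, nmHom_apply]
    exact (hfix_iff _).2 (nm_fixed _)
  · rw [← MinOff.card_W h hA]
    exact (Nat.card_congr (MonoidHom.ofInjective hNinj).toEquiv).symm
  · apply le_normalizer_of_conj_mem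
    rintro y hy _ ⟨w, rfl⟩
    exact ⟨_, (hconj y hy w).symm⟩
  · intro y
    rw [hcent y y.2, ← hΨk y]
    show φ (Ψ y) = 1 ↔ _
    exact φ.map_eq_one_iff

end FFS

end Cfsg.Agent.Lib.Helper55
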