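import Cfsg.Agent.Lib.Helper55.Isolated
import Cfsg.Agent.Lib.Helper27.LBalance
import Cfsg.Agent.Lib.Helper37.ParabolicSub
import Cfsg.Agent.Lib.Helper91.TTPrim
import Cfsg.Agent.Lib.Helper28.SylSub
import Cfsg.Agent.Lib.Helper14.Thompson
import Cfsg.Agent.Lib.Helper12.Card
import Cfsg.Agent.S1946

set_option autoImplicit false
set_option linter.unusedSectionVars false

/-! Isolated elements of order `p` in groups of `p`-rank at most two. -/

namespace Cfsg.Agent.Lib.Helper55

open Cfsg Subgroup
open scoped commutatorElement Pointwise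

universe u

variable {G : Type u} [Group G] [Finite G] {p : ℕ} [hp : Fact p.Prime]

theorem not_hasNormalPComplement_of_perfect {K : Type u} [Group K] [Finite K]
    (hperf : Group.IsPerfect K) (hdiv : p ∣ Nat.card K) : ¬ HasNormalPComplement p K := by
  rintro ⟨P, N, hN, hNP⟩
  have hcard : Nat.card N * Nat.card (P : Subgroup K) = Nat.card K := hNP.card_mul_card
  have hidx : N.index = Nat.card (P : Subgroup K) := by
    have h1 := N.card_mul_index
    rw [← hcard] at h1
    exact Nat.eq_of_mul_eq_mul_left Nat.card_pos h1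
  have hQp : IsPGroup p (K ⧸ N) := by
    obtain ⟨n, hn⟩ := P.2.exists_card_eq
    apply IsPGroup.of_card (n := n)
    rw [← hn, ← hidx]; rfl
  have hnil : Group.IsNilpotent (K ⧸ N) := hQp.isNilpotent
  have hnontriv : Nontrivial (K ⧸ N) := by
    rw [← Finite.one_lt_card_iff_nontrivial]
    have h1 : Nat.card (K ⧸ N) = Nat.card (P : Subgroup K) := hidx
    rw [h1]
    have h2 : p ∣ Nat.card (P : Subgroup K) := P.dvd_card_of_dvd_card hdiv
    exact lt_of_lt_of_le hp.out.one_lt (Nat.le_of_dvd Nat.card_pos h2)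
  exact Group.IsPerfect.not_isNilpotent (G := K ⧸ N) hnil

theorem comp_dvd_card (hO : pPrimeCore p G = ⊥) {K : Subgroup G} (hK : IsComponent K) :
    p ∣ Nat.card ↥K := by
  by_contra hnd
  have hc : (Nat.card ↥K).Coprime p := ((Nat.Prime.coprime_iff_not_dvd hp.out).2 hnd).symm
  have := Helper28.subnormal_le_pPrimeCore hK.1 hc
  rw [hO] at this
  exact Helper27.qs_ne_bot hK.2 (le_bot_iff.1 this)

/-- A component cannot have all its elements of order `p` in a Sylow subgroup unfused. -/
theorem comp_false_of_fix (hp2 : p ≠ 2) (hO : pPrimeCore p G = ⊥) {K : Subgroup G}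
    (hK : IsComponent K) (S : Sylow p G)
    (h : ∀ a ∈ (S : Subgroup G), a ∈ K → a ^ p = 1 → ∀ g ∈ K, g * a * g⁻¹ ∈ (S : Subgroup G) →
      g * a * g⁻¹ = a) : False := by
  obtain ⟨P, hP⟩ := Helper37.exists_sylow_subgroupOf_subnormal S hK.1
  apply not_hasNormalPComplement_of_perfect (p := p) hK.2.1 (comp_dvd_card hO hK)
  rw [Cfsg.Agent.S1946.result P]
  intro a ha hap g hg
  refine ⟨1, one_mem _, ?_⟩
  have hap' : a ^ p = 1 := by
    rcases hap with h1 | ⟨h1, -⟩
    · exact h1
    · exact absurd h1 hp2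
  rw [hP, mem_subgroupOf] at ha hg
  apply Subtype.ext
  have := h a ha a.2 (by exact_mod_cast congrArg Subtype.val hap') g g.2 (by exact_mod_cast hg)
  simpa using this

theorem exists_sylow_of_orderOf {x : G} (hx : orderOf x = p) : ∃ S : Sylow p G, x ∈ (S : Subgroup G) := by
  obtain ⟨S, hS⟩ := (isPGroup_zpowers_of_orderOf (p := p) (x := x) ⟨1, by rw [hx, pow_one]⟩).exists_le_sylow
  exact ⟨S, hS (mem_zpowers x)⟩

theorem isolated_normalizes_comp (hp2 : p ≠ 2) (hO : pPrimeCore p G = ⊥) {x : G}
    (hx : orderOf x = p) (hiso : IsIsolated x) {K : Subgroup G} (hK : IsComponent K) :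
    x ∈ normalizer (K : Set G) := by
  by_contra hcon
  have hne : K ≠ K.map (MulAut.conj x).toMonoidHom := by
    intro h
    exact hcon (Helper53.cj_eq_self_iff.1 h.symm)
  have hcomm := Helper27.comp_comm_of_ne hK (Helper27.comp_conj hK x) hne
  obtain ⟨S, hxS⟩ := exists_sylow_of_orderOf hx
  apply comp_false_of_fix hp2 hO hK S
  intro a haS haK _ g hg _
  have h1 : Commute x a := isolated_commute_of_mem_pgroup hiso S.2 hxS a haS
  have h2 : a ∈ K.map (MulAut.conj x).toMonoidHom := by
    refine ⟨a, haK, ?_⟩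
    show x * a * x⁻¹ = a
    rw [h1.eq, mul_inv_cancel_right]
  have h3 : Commute g a := Helper28.commute_of_commutator_eq_bot hcomm hg h2
  rw [h3.eq, mul_inv_cancel_right]

theorem isolated_rank_two_aux (hp2 : p ≠ 2) (hO : pPrimeCore p G = ⊥) (hrank : PRankLE p 2 G)
    {x y : G} (hx : orderOf x = p) (hy : orderOf y = p) (hiso : IsIsolated x) (hxy : Commute x y)
    {K : Subgroup G} (hK : IsComponent K) (hxK : x ∉ centralizer (K : Set G))
    (hyK : y ∈ centralizer (K : Set G)) : False := by
  have hxp : x ^ p = 1 := hx ▸ pow_orderOf_eq_one x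
  have hyp : y ^ p = 1 := hy ▸ pow_orderOf_eq_one y
  set B : Subgroup G := zpowers x ⊔ zpowers y with hB
  have hcomm_zz : ∀ a ∈ zpowers x, ∀ b ∈ zpowers y, a * b = b * a := by
    intro a ha b hb
    obtain ⟨i, rfl⟩ := mem_zpowers_iff.1 ha
    obtain ⟨j, rfl⟩ := mem_zpowers_iff.1 hb
    exact ((hxy.zpow_left i).zpow_right j).eq
  have hBea : IsElementaryAbelian p B :=
    Helper14.IsElementaryAbelian.sup (Helper14.isElementaryAbelian_zpowers hxp)
      (Helper14.isElementaryAbelian_zpowers hyp) hcomm_zz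
  have hinf : zpowers x ⊓ zpowers y = ⊥ := by
    have hc : Nat.card ↥(zpowers x) = p := by rw [Nat.card_zpowers, hx]
    have hdvd := card_dvd_of_le (inf_le_left : zpowers x ⊓ zpowers y ≤ zpowers x)
    rw [hc] at hdvd
    rcases (Nat.dvd_prime hp.out).1 hdvd with h1 | h1
    · exact card_eq_one.1 h1
    · exfalso
      have h2 : zpowers x ⊓ zpowers y = zpowers x :=
        eq_of_le_of_card_ge inf_le_left (by rw [h1, hc])
      have h3 : x ∈ zpowers y := (inf_eq_left.1 h2) (mem_zpowers x)
      exact hxK ((zpowers_le.2 hyK) h3)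
  have hBcard : Nat.card ↥B = p ^ 2 := by
    have h1 := Helper12.card_sup_mul_card_inf' (zpowers x) (zpowers y) (by
      intro a ha
      rw [mem_normalizer_iff]
      intro b
      constructor
      · intro hb
        rw [hcomm_zz a ha b hb, mul_inv_cancel_right]; exact hb
      · intro hb
        have h2 := hcomm_zz a ha _ hb
        have h3 : b = a * b * a⁻¹ := by
          have : a * (a * b * a⁻¹) = a * b := by rw [h2]; group
          exact (mul_left_cancel this).symm
        rw [h3]; exact hb)
    rw [hinf, card_bot, mul_one, Nat.card_zpowers, Nat.card_zpowers, hx, hy] at h1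
    rw [hB, h1, sq]
  obtain ⟨S, hBS⟩ := (Helper14.IsElementaryAbelian.isPGroup hBea).exists_le_sylow
  have hxS : x ∈ (S : Subgroup G) := hBS (le_sup_left (a := zpowers x) (mem_zpowers x))
  have hyS : y ∈ (S : Subgroup G) := hBS (le_sup_right (b := zpowers y) (mem_zpowers y))
  apply comp_false_of_fix hp2 hO hK S
  intro a haS haK hap g hg hgS
  have hxa : Commute x a := isolated_commute_of_mem_pgroup hiso S.2 hxS a haS
  have hya : Commute y a := ((mem_centralizer_iff.1 hyK) a haK).symm
  have hAea : IsElementaryAbelian p (B ⊔ zpowers a) := by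
    apply Helper14.IsElementaryAbelian.sup hBea (Helper14.isElementaryAbelian_zpowers hap)
    intro b hb c hc
    obtain ⟨k, rfl⟩ := mem_zpowers_iff.1 hc
    have hB' : B ≤ centralizer {a} := by
      rw [hB, sup_le_iff, zpowers_le, zpowers_le, mem_centralizer_singleton_iff,
        mem_centralizer_singleton_iff]
      exact ⟨hxa.eq, hya.eq⟩
    have h1 : Commute b a := by
      have := mem_centralizer_singleton_iff.1 (hB' hb)
      exact this
    exact (h1.zpow_right k).eq
  have hAcard : Nat.card ↥(B ⊔ zpowers a) ≤ p ^ 2 := hrank _ hAea.1 hAea.2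
  have hBA : B = B ⊔ zpowers a := eq_of_le_of_card_ge le_sup_left (by rw [hBcard]; exact hAcard)
  have haB : a ∈ B := by
    rw [hBA]; exact le_sup_right (b := zpowers a) (mem_zpowers a)
  obtain ⟨u, hu, v, hv, rfl⟩ := (Helper27.mem_sup_of_comm (by
    rw [commutator_eq_bot_iff_le_centralizer]
    intro c hc
    rw [mem_centralizer_iff]
    intro d hd
    exact (hcomm_zz c hc d hd).symm)).1 haB
  obtain ⟨i, rfl⟩ := mem_zpowers_iff.1 hu
  have hgv : Commute g v := by
    have : v ∈ centralizer (K : Set G) := (zpowers_le.2 hyK) hv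
    exact (mem_centralizer_iff.1 this) g hg
  have hconj : g * (x ^ i * v) * g⁻¹ = (g * x * g⁻¹) ^ i * v := by
    rw [conj_zpow]
    calc g * (x ^ i * v) * g⁻¹ = g * x ^ i * (g⁻¹ * (g * v)) * g⁻¹ := by group
      _ = g * x ^ i * (g⁻¹ * (v * g)) * g⁻¹ := by rw [hgv.eq]
      _ = g * x ^ i * g⁻¹ * v := by group
  by_cases hi : (p : ℤ) ∣ i
  · obtain ⟨k, rfl⟩ := hi
    have h1 : x ^ ((p : ℤ) * k) = 1 := by
      rw [zpow_mul, zpow_natCast, hxp, one_zpow]
    rw [h1, one_mul, hgv.eq, mul_inv_cancel_right]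
  · have hvS : v ∈ (S : Subgroup G) := (zpowers_le.2 hyS) hv
    have h1 : (g * x * g⁻¹) ^ i ∈ (S : Subgroup G) := by
      have := mul_mem hgS (inv_mem hvS)
      rwa [hconj, mul_inv_cancel_right] at this
    have hcop : IsCoprime i (p : ℤ) :=
      ((Nat.prime_iff_prime_int.1 hp.out).coprime_iff_not_dvd.2 hi).symm
    obtain ⟨r, s, hrs⟩ := hcop
    have hgp : (g * x * g⁻¹) ^ p = 1 := by rw [conj_pow, hxp]; group
    have h2 : g * x * g⁻¹ = ((g * x * g⁻¹) ^ i) ^ r := by
      rw [← zpow_mul]
      have : i * r = 1 - s * p := by linarith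
      rw [this, zpow_sub, zpow_one, mul_comm s, zpow_mul, zpow_natCast, hgp, one_zpow, inv_one,
        mul_one]
    have h3 : g * x * g⁻¹ ∈ (S : Subgroup G) := by
      rw [h2]; exact zpow_mem h1 r
    rw [hconj, isolated_conj_eq_of_mem_pgroup hiso S.2 hxS h3]

theorem isolated_exists_commuting {x : G} (hx : orderOf x = p) (hiso : IsIsolated x)
    {D : Subgroup G} (hxD : x ∈ normalizer (D : Set G)) (hdiv : p ∣ Nat.card ↥D) :
    ∃ y ∈ D, orderOf y = p ∧ Commute x y := by
  have hLn : D ⊔ zpowers x ≤ normalizer (D : Set G) := sup_le le_normalizer (zpowers_le.2 hxD)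
  obtain ⟨T, hT, hxT⟩ := Helper53.exists_isSyl_ge (p := p) (A := zpowers x) (K := D ⊔ zpowers x)
    le_sup_right (isPGroup_zpowers_of_orderOf ⟨1, by rw [hx, pow_one]⟩)
  have hTD := hT.inf_normal le_sup_left hLn
  have h1 := (Helper53.isSyl_iff_relIndex.1 hTD).2.2
  have h2 : p ∣ Nat.card ↥(T ⊓ D : Subgroup G) := by
    have h3 := Helper14.card_mul_relIndex (inf_le_right : T ⊓ D ≤ D)
    rw [← h3] at hdiv
    exact ((Nat.Prime.dvd_mul hp.out).1 hdiv).resolve_right h1
  obtain ⟨y, hy⟩ := exists_prime_orderOf_dvd_card' p h2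
  refine ⟨y, y.2.2, by rw [← hy, orderOf_coe], ?_⟩
  exact isolated_commute_of_mem_pgroup hiso hT.isPGroup (hxT (mem_zpowers x)) y y.2.1

theorem isolated_rank_two (hp2 : p ≠ 2) (hO : pPrimeCore p G = ⊥) (hrank : PRankLE p 2 G)
    {x : G} (hx : orderOf x = p) (hiso : IsIsolated x) (hnc : x ∉ center G) :
    ∃ K : Subgroup G, generalizedFittingSubgroup G = K ∧ IsComponent K ∧
      K ⊓ centralizer (K : Set G) = ⊥ := by
  obtain ⟨S, hxS⟩ := exists_sylow_of_orderOf hx
  have hfit : fittingSubgroup G = pCore p G := Helper27.fitting_eq_pCore_of_pPrimeCore_eq_bot p hO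
  have hxOp : pCore p G ≤ centralizer {x} := by
    intro u hu
    rw [mem_centralizer_singleton_iff]
    exact (isolated_commute_of_mem_pgroup hiso S.2 hxS u (Helper53.pCore_le_sylow S hu)).eq.symm
  have hex : ∃ K : Subgroup G, IsComponent K ∧ x ∉ centralizer (K : Set G) := by
    by_contra hcon
    push Not at hcon
    apply hnc
    have h1 : generalizedFittingSubgroup G ≤ centralizer {x} := by
      rw [generalizedFittingSubgroup, hfit]
      refine sup_le ?_ hxOp
      rw [Helper27.layer_le_iff]
      intro L hL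
      have := hcon L hL
      rw [← zpowers_le, ← le_centralizer_iff, zpowers_eq_closure, centralizer_closure] at this
      exact this
    have h2 : x ∈ generalizedFittingSubgroup G := by
      apply Helper28.centralizer_genFitting_le
      rw [← zpowers_le, ← le_centralizer_iff, zpowers_eq_closure, centralizer_closure]
      exact h1
    have hn : (generalizedFittingSubgroup G).Normal := Helper28.genFitting_normal
    rw [mem_center_iff]
    intro g
    have h3 : g * x * g⁻¹ ∈ centralizer {x} := h1 (hn.conj_mem x h2 g)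
    rw [mem_centralizer_singleton_iff] at h3
    have h4 := hiso g h3.symm
    calc g * x = (g * x * g⁻¹) * g := by group
      _ = x * g := by rw [h4]
  obtain ⟨K, hK, hxK⟩ := hex
  have hxN := isolated_normalizes_comp hp2 hO hx hiso hK
  have hxD := Helper28.normalizer_le_normalizer_centralizer K hxN
  have hnd : ¬ p ∣ Nat.card ↥(centralizer (K : Set G)) := by
    intro hdiv
    obtain ⟨y, hyD, hy, hxy⟩ := isolated_exists_commuting hx hiso hxD hdiv
    exact isolated_rank_two_aux hp2 hO hrank hx hy hiso hxy hK hxK hyD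
  have hcop : (Nat.card ↥(centralizer (K : Set G))).Coprime p :=
    ((Nat.Prime.coprime_iff_not_dvd hp.out).2 hnd).symm
  have hOp : pCore p G = ⊥ := by
    have hn : (pCore p G).Normal := Helper53.pCore_normal p G
    have h1 : ⁅K, pCore p G⁆ = ⊥ := by
      apply Helper27.comp_comm_solvable hK
      · have := (Helper53.pCore_isPGroup p G).isNilpotent
        infer_instance
      · rw [normalizer_eq_top]; exact le_top
    rw [commutator_eq_bot_iff_le_centralizer, le_centralizer_iff] at h1
    have h2 := Helper28.inf_eq_bot_of_isPGroup_of_coprime (Helper53.pCore_isPGroup p G) hcop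
    rwa [inf_eq_left.2 h1] at h2
  have hlayer : layer G = K := by
    apply le_antisymm _ (Helper27.comp_le_layer hK)
    rw [Helper27.layer_le_iff]
    intro L hL
    by_contra hLK
    have hne : L ≠ K := by
      rintro rfl
      exact hLK le_rfl
    have h1 := Helper27.comp_comm_of_ne hL hK hne
    rw [commutator_eq_bot_iff_le_centralizer] at h1
    exact hnd ((comp_dvd_card hO hL).trans (card_dvd_of_le h1))
  refine ⟨K, ?_, hK, ?_⟩
  · rw [generalizedFittingSubgroup, hfit, hOp, hlayer, sup_bot_eq]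
  · have := Helper27.center_layer_le_pCore p hO
    rw [hlayer, hOp] at this
    exact le_bot_iff.1 this

end Cfsg.Agent.Lib.Helper55
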