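import Cfsg.Agent.Lib.Helper55.FFX
import Cfsg.Agent.Lib.Helper55.AutPP
import Cfsg.Agent.Lib.Helper28.Radical
import Cfsg.Agent.Lib.Helper80.PSolv
import Cfsg.Agent.S0601
import Cfsg.Agent.Lib.Helper1.Coprime

set_option autoImplicit false
set_option linter.unusedSectionVars false

/-! Coprime operators in the holomorph model. -/

namespace Cfsg.Agent.Lib.Helper55

open Cfsg Subgroup
open scoped commutatorElement Pointwise

variable {G : Type*} [Group G]

section Sig

variable (V : Subgroup G) [V.Characteristic]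

/-- the action of the automorphisms of `G` on the characteristic subgroup `V`, in the holomorph. -/
def sig : MulAut G →* Hol V := SemidirectProduct.inr.comp (MulAut.characteristic V)

theorem sig_conj_iot (α : MulAut G) (v : ↥V) :
    sig V α * iot V v * (sig V α)⁻¹ = iot V (MulAut.characteristic V α v) := by
  have := SemidirectProduct.inl_aut (φ := MonoidHom.id (MulAut ↥V)) (MulAut.characteristic V α) v
  simp only [MonoidHom.id_apply] at this
  rw [iot, this, sig]
  simp

theorem sig_conj_rho (α : MulAut G) (k : G) :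
    sig V α * rho V k * (sig V α)⁻¹ = rho V (α k) := by
  show SemidirectProduct.inr _ * SemidirectProduct.inr _ * (SemidirectProduct.inr _)⁻¹ =
    SemidirectProduct.inr _
  rw [← map_inv, ← map_mul, ← map_mul]
  congr 1
  ext v
  simp [MulAut.conjNormal_apply, MulAut.mul_apply, MulAut.inv_apply]

theorem sig_mem_normalizer_VV (α : MulAut G) : sig V α ∈ normalizer ((VV V : Subgroup (Hol V)) : Set (Hol V)) := by
  have : (sig V).range ≤ normalizer ((VV V : Subgroup (Hol V)) : Set (Hol V)) := by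
    apply le_normalizer_of_conj_mem
    rintro _ ⟨α, rfl⟩ _ ⟨v, rfl⟩
    exact ⟨_, (sig_conj_iot V α v).symm⟩
  exact this ⟨α, rfl⟩

theorem sig_mem_normalizer_map (α : MulAut G) (J : Subgroup G) [hJ : J.Characteristic] :
    sig V α ∈ normalizer ((J.map (rho V) : Subgroup (Hol V)) : Set (Hol V)) := by
  have : (sig V).range ≤ normalizer ((J.map (rho V) : Subgroup (Hol V)) : Set (Hol V)) := by
    apply le_normalizer_of_conj_mem
    rintro _ ⟨α, rfl⟩ _ ⟨j, hj, rfl⟩
    exact ⟨α j, characteristic_iff_le_comap.1 hJ α hj, (sig_conj_rho V α j).symm⟩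
  exact this ⟨α, rfl⟩

end Sig

section Char

variable [Finite G] (p : ℕ) [Fact p.Prime]

instance VG_characteristic : (VG G p).Characteristic := by
  rw [characteristic_iff_map_eq]
  intro φ
  show (⨆ S : Sylow p G, omZ p (S : Subgroup G)).map _ = _
  rw [Subgroup.map_iSup]
  have h1 : ∀ S : Sylow p G, (omZ p (S : Subgroup G)).map φ.toMonoidHom =
      omZ p (((show MulAut G from φ) • S : Sylow p G) : Subgroup G) := by
    intro S
    show (omegaOne p _).map _ = _
    rw [Helper14.map_omegaOne_of_injective p _ _ φ.injective,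
      Helper14.map_inf_centralizer_of_injective _ _ φ.injective]
    rfl
  simp_rw [h1]
  exact (MulAction.surjective (show MulAut G from φ) (β := Sylow p G)).iSup_comp
    (fun S : Sylow p G => omZ p (S : Subgroup G))

instance thompsonSubgroup_characteristic' : (thompsonSubgroup p G).Characteristic :=
  (Cfsg.Agent.S0602.result (G := G) (p := p)).1

end Char

section Main

variable [Finite G] {p q : ℕ} [hp : Fact p.Prime] [hq : Fact q.Prime]

/-- the data of the model with operators. -/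
theorem minOff_E_le_of_operators (hsep : IsPSolvable p G) (hO : pPrimeCore p G = ⊥)
    (hqG : ¬ q ∣ Nat.card G)
    {Ξ : Type*} [Group Ξ] [Finite Ξ] (hΞ : IsPGroup q Ξ) (hΞq : ∀ ξ : Ξ, ξ ^ q = 1)
    (α : Ξ →* MulAut G) (F₀ : Subgroup G)
    (hfix : ∀ k : G, (∀ ξ, k⁻¹ * α ξ k ∈ centralizer ((VG G p : Subgroup G) : Set G)) →
      ∃ c ∈ F₀, k⁻¹ * c ∈ centralizer ((VG G p : Subgroup G) : Set G))
    (S : Sylow p G) :
    normalizer ((thompsonSubgroupOf p (S : Subgroup G) : Subgroup G) : Set G) ⊔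
      centralizer ((omZ p (S : Subgroup G) : Subgroup G) : Set G) ⊔ F₀ = ⊤ := by
  classical
  have hc := Helper80.centralizer_pCore_le hsep hO
  obtain ⟨-, hV, hD⟩ := Cfsg.Agent.S0601.result hc
  have F := ffs_model (VG G p) hsep hV hD (thompsonSubgroup p G)
  have hS3 := hS3_model (VG G p) hV
  set V := VG G p with hVdef
  set J := thompsonSubgroup p G with hJdef
  set H' := J.map (rho V) with hH'
  set K' := (pPrimeCore p ↥H').map H'.subtype with hK'
  set H₀ := normalizer ((thompsonSubgroupOf p (S : Subgroup G) : Subgroup G) : Set G) ⊔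
      centralizer ((omZ p (S : Subgroup G) : Subgroup G) : Set G) ⊔ F₀ with hH₀
  set σ : Ξ →* Hol V := (sig V).comp α with hσ
  have hker : (rho V).ker ≤ H₀ := by
    rw [ker_rho]
    exact (centralizer_le (le_iSup (fun S : Sylow p G => omZ p (S : Subgroup G)) S)).trans
      (le_sup_right.trans le_sup_left)
  have hSH : (S : Subgroup G) ≤ H₀ :=
    (le_normalizer.trans (normalizer_le_normalizer_thompsonSubgroupOf p _)).trans
      (le_sup_left.trans le_sup_left)
  have hσV : ∀ ξ, σ ξ ∈ normalizer ((VV V : Subgroup (Hol V)) : Set (Hol V)) :=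
    fun ξ => sig_mem_normalizer_VV V (α ξ)
  have hσH : ∀ ξ, σ ξ ∈ normalizer ((H' : Subgroup (Hol V)) : Set (Hol V)) :=
    fun ξ => sig_mem_normalizer_map V (α ξ) J
  have hσK : ∀ ξ, σ ξ ∈ normalizer ((K' : Subgroup (Hol V)) : Set (Hol V)) := fun ξ =>
    Helper28.le_normalizer_map_subtype_of_characteristic (K := H')
      (K' := normalizer ((H' : Subgroup (Hol V)) : Set (Hol V))) le_rfl
      (Helper28.pPrimeCore_characteristic p) (hσH ξ)
  have hσq : ∀ ξ, σ ξ ^ q = 1 := by
    intro ξ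
    rw [← map_pow, hΞq, map_one]
  have key : ∀ A, MinOff p (VV V) H' A → A ≤ (S : Subgroup G).map (rho V) →
      EE K' A ≤ H₀.map (rho V) := by
    intro A hA hAS
    have hqE : ¬ q ∣ p * (p ^ 2 - 1) := by
      intro hd
      apply hqG
      rw [← FFS.MinOff.card_E F hA] at hd
      refine hd.trans ((card_dvd_of_le (FFS.MinOff.E_le_H F hA)).trans ?_)
      exact (Subgroup.card_map_dvd J (rho V)).trans (card_subgroup_dvd_card J)
    obtain ⟨x, hxK, hxfix, hxA⟩ := FFS.MinOff.exists_fixed hS3 F hA hqE hΞ σ hσV hσH hσK hσq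
    obtain ⟨k, hkJ, rfl⟩ := F.hKH hxK
    obtain ⟨c, hc, hkc⟩ := hfix k (fun ξ => by
      rw [← ker_rho V, MonoidHom.mem_ker, map_mul, map_inv, ← sig_conj_rho]
      have := hxfix ξ
      rw [hσ, MonoidHom.comp_apply] at this
      rw [this, inv_mul_cancel])
    have hρ : rho V c = rho V k := by
      rw [← ker_rho V, MonoidHom.mem_ker, map_mul, map_inv] at hkc
      exact (inv_mul_eq_one.1 hkc).symm
    rw [FFS.MinOff.E_eq_sup F hA hxK hxA]
    refine sup_le (hAS.trans (map_mono hSH)) ?_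
    rintro _ ⟨a, ha, rfl⟩
    have h1 : rho V k ∈ H₀.map (rho V) := ⟨c, (le_sup_right : F₀ ≤ H₀) hc, hρ⟩
    exact mul_mem (mul_mem h1 (map_mono hSH (hAS ha))) (inv_mem h1)
  have hJn : (⊤ : Subgroup G) ≤ normalizer (J : Set G) := by
    rw [normalizer_eq_top]
  have hT := (Helper53.isSyl_top_of_sylow S).inf_normal le_top hJn
  have hmin : ∀ B, MinOff p (VV V) H' B → B ≤ H₀.map (rho V) := by
    intro B hB
    obtain ⟨b, rfl, hbo⟩ := FFS.MinOff.exists_gen hB
    obtain ⟨y, hyJ, hyb⟩ := hB.1 (mem_zpowers b)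
    obtain ⟨e, m, hm, he⟩ :=
      Nat.exists_eq_pow_mul_and_not_dvd (orderOf_pos y).ne' p hp.out.ne_one
    have hm0 : m ≠ 0 := by
      rintro rfl
      exact hm (dvd_zero p)
    have hy'o : orderOf (y ^ m) = p ^ e := by
      rw [orderOf_pow_of_dvd hm0 ⟨p ^ e, by rw [he, mul_comm]⟩, he,
        Nat.mul_div_cancel _ (Nat.pos_of_ne_zero hm0)]
    have hy'p : IsPGroup p ↥(zpowers (y ^ m)) :=
      IsPGroup.of_card (n := e) (by rw [Nat.card_zpowers, hy'o])
    have hy'J : y ^ m ∈ J := J.pow_mem hyJ m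
    have hgen : zpowers (rho V (y ^ m)) = zpowers b := by
      rw [map_pow, hyb]
      rcases eq_bot_or_eq_of_le_of_card_prime hB.2.2
        (zpowers_le.2 (pow_mem (mem_zpowers b) m) : zpowers (b ^ m) ≤ zpowers b) with h1 | h1
      · exfalso
        rw [zpowers_eq_bot] at h1
        exact hm (hbo ▸ orderOf_dvd_of_pow_eq_one h1)
      · exact h1
    obtain ⟨P₁, hP₁, hyP⟩ := Helper53.exists_isSyl_ge (zpowers_le.2 hy'J) hy'p
    obtain ⟨k, hk, rfl⟩ := hT.exists_conj hP₁
    obtain ⟨s, hs, hsy⟩ := hyP (mem_zpowers _)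
    have hsy' : k * s * k⁻¹ = y ^ m := hsy
    have hg : rho V k ∈ H' := ⟨k, hk, rfl⟩
    have hA := FFS.MinOff.conj F hB (inv_mem hg)
    have hAeq : (zpowers b).map (MulAut.conj (rho V k)⁻¹).toMonoidHom = zpowers (rho V s) := by
      rw [← hgen, map_conj_zpowers, ← hsy', map_mul, map_mul, map_inv]
      congr 1
      group
    rw [hAeq] at hA
    have hAS : zpowers (rho V s) ≤ (S : Subgroup G).map (rho V) :=
      zpowers_le.2 ⟨s, hs.1, rfl⟩
    have h1 := key _ hA hAS
    have h2 : zpowers b = cjs (rho V k) (zpowers (rho V s)) := by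
      show _ = (zpowers (rho V s)).map (MulAut.conj (rho V k)).toMonoidHom
      rw [← hgen, map_conj_zpowers, ← hsy', map_mul, map_mul, map_inv]
    rw [h2]
    refine le_trans ?_ h1
    have h3 := Helper14.map_conj_of_mem_normalizer (FFS.MinOff.H_le_NE hS3 F hA hg)
    rw [← h3]
    exact map_mono (le_sup_right : zpowers (rho V s) ≤ EE K' (zpowers (rho V s)))
  have hJ : J ≤ H₀ := by
    have h1 : H' ≤ H₀.map (rho V) := F.le_of_minOff_le hS3 hmin
    intro x hx
    obtain ⟨h, hh, hhx⟩ := h1 ⟨x, hx, rfl⟩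
    have h2 : h⁻¹ * x ∈ (rho V).ker := by
      rw [MonoidHom.mem_ker, map_mul, map_inv, hhx, inv_mul_cancel]
    have h3 : x = h * (h⁻¹ * x) := by group
    rw [h3]
    exact mul_mem hh (hker h2)
  rw [eq_top_iff]
  intro g _
  obtain ⟨n, hn, m, hm, rfl⟩ := Helper53.frattini_arg hT le_top hJn (mem_top g)
  refine mul_mem (hJ hn) ((le_sup_left.trans le_sup_left :
    normalizer ((thompsonSubgroupOf p (S : Subgroup G) : Subgroup G) : Set G) ≤ H₀) ?_)
  have hJS : thompsonSubgroupOf p ((S : Subgroup G) ⊓ J) = thompsonSubgroupOf p (S : Subgroup G) :=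
    thompsonSubgroupOf_eq_of_le
      (le_inf (thompsonSubgroupOf_le p _) (thompsonSubgroupOf_sylow_le p S)) inf_le_left
  rw [← hJS]
  exact normalizer_le_normalizer_thompsonSubgroupOf p _ hm.2

end Main

section Amb

variable [Finite G] {q : ℕ} [hq : Fact q.Prime]

/-- the operators induced by `X ≤ N(K)` on `K`. -/
abbrev opOn {K X : Subgroup G} (hXK : X ≤ normalizer (K : Set G)) : ↥X →* MulAut ↥K :=
  K.normalizerMonoidHom.comp (inclusion hXK)

theorem opOn_coe {K X : Subgroup G} (hXK : X ≤ normalizer (K : Set G)) (x : ↥X) (k : ↥K) :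
    ((opOn hXK x k : ↥K) : G) = x * k * (x : G)⁻¹ := rfl

/-- fixed points in invariant cosets. -/
theorem exists_fixed_in_coset {K X : Subgroup G} (hXK : X ≤ normalizer (K : Set G))
    (hX : IsElementaryAbelian q X) (hqK : ¬ q ∣ Nat.card ↥K) (D : Subgroup ↥K)
    [hD : D.Characteristic] (k : ↥K) (hk : ∀ ξ, k⁻¹ * opOn hXK ξ k ∈ D) :
    ∃ c ∈ (centralizer (X : Set G)).subgroupOf K, k⁻¹ * c ∈ D := by
  have hAD : X ≤ normalizer ((D.map K.subtype : Subgroup G) : Set G) :=
    Helper28.le_normalizer_map_subtype_of_characteristic hXK hD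
  have hcop : (Nat.card ↥X).Coprime (Nat.card ↥(D.map K.subtype)) := by
    obtain ⟨n, hn⟩ := IsPGroup.iff_card.1 (Helper14.IsElementaryAbelian.isPGroup hX)
    rw [hn]
    apply Nat.Coprime.pow_left
    rw [Nat.Prime.coprime_iff_not_dvd hq.out]
    intro hd
    exact hqK (hd.trans (card_dvd_of_le (map_subtype_le D)))
  have hsolv : Group.IsSolvable ↥X := by
    exact Group.isSolvable_of_comm (fun a b =>
      Subtype.ext (Helper14.IsElementaryAbelian.comm hX a.2 b.2))
  obtain ⟨c, hc, hkc⟩ := Helper1.coprime_fixed_point_coset X (D.map K.subtype) hAD hcop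
    (Or.inl hsolv) (k : G) (fun a ha => ⟨_, hk ⟨a, ha⟩, by
      simp only [coe_subtype, coe_mul, coe_inv, opOn_coe]
      group⟩)
  obtain ⟨d, hd, hdc⟩ := hkc
  have hcK : c ∈ K := by
    have : c = k * (k : G)⁻¹ * c := by group
    rw [this, mul_assoc, ← hdc]
    exact mul_mem k.2 d.2
  refine ⟨⟨c, hcK⟩, hc, ?_⟩
  have : k⁻¹ * ⟨c, hcK⟩ = d := Subtype.ext hdc.symm
  rw [this]
  exact hd

end Amb

end Cfsg.Agent.Lib.Helper55
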