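import Cfsg.Agent.Lib.Helper55.ModelX
import Cfsg.Agent.Lib.Helper55.FFX2

set_option autoImplicit false
set_option linter.unusedSectionVars false

/-! Fixed points of coprime operators involve `SL₂(p)` when the Thompson factorization fails. -/

namespace Cfsg.Agent.Lib.Helper55

open Cfsg Subgroup
open scoped commutatorElement Pointwise

theorem exists_quotient_equiv {D : Type*} [Group D] {S : Type*} [Group S] (N : Subgroup D)
    (Ψ : D →* S) (hs : Function.Surjective Ψ) (hk : ∀ d, Ψ d = 1 ↔ d ∈ N) :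
    ∃ _ : N.Normal, Nonempty (D ⧸ N ≃* S) := by
  have : N = Ψ.ker := by
    ext d
    rw [MonoidHom.mem_ker, hk]
  subst this
  exact ⟨inferInstance, ⟨QuotientGroup.quotientKerEquivOfSurjective Ψ hs⟩⟩

variable {G : Type*} [Group G]

section Main

variable [Finite G] {p q : ℕ} [hp : Fact p.Prime] [hq : Fact q.Prime]

theorem fixed_points_involve_SL2 (hsep : IsPSolvable p G) (hO : pPrimeCore p G = ⊥)
    (hqG : ¬ q ∣ Nat.card G) (hnf : ¬ IsThompsonFactorizable p G)
    {Ξ : Type*} [Group Ξ] [Finite Ξ] (hΞ : IsPGroup q Ξ) (hΞq : ∀ ξ : Ξ, ξ ^ q = 1)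
    (α : Ξ →* MulAut G) (F₀ : Subgroup G) (hF₀ : ∀ c, c ∈ F₀ ↔ ∀ ξ, α ξ c = c)
    (hfix : ∀ k : G, (∀ ξ, k⁻¹ * α ξ k ∈ centralizer ((VG G p : Subgroup G) : Set G)) →
      ∃ c ∈ F₀, k⁻¹ * c ∈ centralizer ((VG G p : Subgroup G) : Set G)) :
    (p = 2 ∨ p = 3) ∧ ∃ W D : Subgroup G, W ≤ F₀ ∧ D ≤ F₀ ∧ IsElementaryAbelian p W ∧
      Nat.card ↥W = p ^ 2 ∧ D ≤ normalizer (W : Set G) ∧
      ∃ Ψ : ↥D →* Matrix.SpecialLinearGroup (Fin 2) (ZMod p), Function.Surjective Ψ ∧
        ∀ d : ↥D, Ψ d = 1 ↔ (d : G) ∈ centralizer (W : Set G) := by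
  classical
  have hc := Helper80.centralizer_pCore_le hsep hO
  obtain ⟨-, hV, hD⟩ := Cfsg.Agent.S0601.result hc
  have hJ : ¬ thompsonSubgroup p G ≤ centralizer ((VG G p : Subgroup G) : Set G) := by
    intro h
    apply hnf
    intro S g
    obtain ⟨c, hc, n, hn, hg⟩ := factorization_of_le p h S g
    exact ⟨1, one_mem _, c, hc, n, hn, by rw [one_mul]; exact hg⟩
  have F := ffs_model (VG G p) hsep hV hD (thompsonSubgroup p G)
  have hS3 := hS3_model (VG G p) hV
  have hH1 : (thompsonSubgroup p G).map (rho (VG G p)) ≠ ⊥ := by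
    intro h
    apply hJ
    rw [← ker_rho]
    intro x hx
    have : rho (VG G p) x ∈ (thompsonSubgroup p G).map (rho (VG G p)) := ⟨x, hx, rfl⟩
    rw [h] at this
    exact this
  obtain ⟨A, hA⟩ := F.exists_minOff hS3 hH1
  refine ⟨FFS.MinOff.prime_le_three F hA, ?_⟩
  set V := VG G p with hVdef
  set J := thompsonSubgroup p G with hJdef
  set H' := J.map (rho V) with hH'
  set K' := (pPrimeCore p ↥H').map H'.subtype with hK'
  set σ : Ξ →* Hol V := (sig V).comp α with hσ
  have hσV : ∀ ξ, σ ξ ∈ normalizer ((VV V : Subgroup (Hol V)) : Set (Hol V)) :=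
    fun ξ => sig_mem_normalizer_VV V (α ξ)
  have hσH : ∀ ξ, σ ξ ∈ normalizer ((H' : Subgroup (Hol V)) : Set (Hol V)) :=
    fun ξ => sig_mem_normalizer_map V (α ξ) J
  have hσK : ∀ ξ, σ ξ ∈ normalizer ((K' : Subgroup (Hol V)) : Set (Hol V)) := fun ξ =>
    Helper28.le_normalizer_map_subtype_of_characteristic (K := H')
      (K' := normalizer ((H' : Subgroup (Hol V)) : Set (Hol V))) le_rfl
      (Helper28.pPrimeCore_characteristic p) (hσH ξ)
  have hσq : ∀ ξ, σ ξ ^ q = 1 := by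
    intro ξ
    rw [← map_pow, hΞq, map_one]
  have hqE : ¬ q ∣ p * (p ^ 2 - 1) := by
    intro hd
    apply hqG
    rw [← FFS.MinOff.card_E F hA] at hd
    refine hd.trans ((card_dvd_of_le (FFS.MinOff.E_le_H F hA)).trans ?_)
    exact (Subgroup.card_map_dvd J (rho V)).trans (card_subgroup_dvd_card J)
  obtain ⟨W', Y, hW'V, hW'fix, hW'card, hYH, hYfix, hYW', Ψ, hΨs, hΨk⟩ :=
    FFS.MinOff.exists_fixed_SL2 F hS3 hA hqE hΞ σ hσV hσH hσK hσq
  have hfixσ : ∀ {y : Hol V}, y ∈ centralizer (σ.range : Set (Hol V)) → ∀ ξ,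
      sig V (α ξ) * y * (sig V (α ξ))⁻¹ = y := by
    intro y hy ξ
    have h1 : σ ξ * y = y * σ ξ := (mem_centralizer_iff.1 hy) (σ ξ) ⟨ξ, rfl⟩
    have h2 : σ ξ = sig V (α ξ) := rfl
    rw [← h2, h1, mul_inv_cancel_right]
  set W := (W'.comap (iot V)).map V.subtype with hW
  set D := F₀ ⊓ Y.comap (rho V) with hDdef
  have hmemW : ∀ v : ↥V, (v : G) ∈ W ↔ iot V v ∈ W' := by
    intro v
    constructor
    · rintro ⟨v', hv', hvv⟩
      have : v' = v := Subtype.ext hvv
      exact this ▸ hv'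
    · intro hv
      exact ⟨v, hv, rfl⟩
  have hWV : W ≤ V := map_subtype_le _
  have hconj : ∀ (d : G) (v : ↥V), ((MulAut.conjNormal d v : ↥V) : G) = d * v * d⁻¹ := by
    intro d v
    rw [MulAut.conjNormal_apply]
  refine ⟨W, D, ?_, inf_le_left, Helper14.IsElementaryAbelian.mono hV hWV, ?_, ?_, ?_⟩
  · rintro _ ⟨v, hv, rfl⟩
    rw [hF₀]
    intro ξ
    have h1 := hfixσ (hW'fix hv) ξ
    rw [sig_conj_iot] at h1
    exact congrArg Subtype.val (iot_injective V h1)
  · rw [hW, card_map_of_injective V.subtype_injective, ← hW'card,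
      ← card_map_of_injective (iot_injective V), map_comap_eq_self hW'V]
  · apply le_normalizer_of_conj_mem
    rintro d hd _ ⟨v, hv, rfl⟩
    have h1 : rho V d * iot V v * (rho V d)⁻¹ ∈ W' :=
      (mem_normalizer_iff.1 (hYW' (mem_inf.1 hd).2) _).1 hv
    rw [rho_conj] at h1
    have h2 := (hmemW _).2 h1
    rwa [hconj] at h2
  · let r : ↥D →* ↥Y := MonoidHom.codRestrict ((rho V).comp D.subtype) Y (fun d => (mem_inf.1 d.2).2)
    refine ⟨Ψ.comp r, ?_, ?_⟩
    · intro s
      obtain ⟨⟨y, hy⟩, rfl⟩ := hΨs s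
      obtain ⟨k, hkJ, rfl⟩ := hYH hy
      obtain ⟨c, hc, hkc⟩ := hfix k (fun ξ => by
        rw [← ker_rho V, MonoidHom.mem_ker, map_mul, map_inv, ← sig_conj_rho,
          hfixσ (hYfix hy) ξ, inv_mul_cancel])
      have hρ : rho V c = rho V k := by
        rw [← ker_rho V, MonoidHom.mem_ker, map_mul, map_inv] at hkc
        exact (inv_mul_eq_one.1 hkc).symm
      have hcD : c ∈ D := mem_inf.2 ⟨hc, by rw [mem_comap, hρ]; exact hy⟩
      refine ⟨⟨c, hcD⟩, ?_⟩
      show Ψ (r ⟨c, hcD⟩) = _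
      congr 1
      exact Subtype.ext hρ
    · intro d
      show Ψ (r d) = 1 ↔ _
      rw [hΨk]
      show rho V d ∈ _ ↔ _
      constructor
      · intro h1
        rw [mem_centralizer_iff]
        rintro _ ⟨v, hv, rfl⟩
        have h2 : rho V d * iot V v * (rho V d)⁻¹ = iot V v := by
          rw [← (mem_centralizer_iff.1 h1) _ hv, mul_inv_cancel_right]
        rw [rho_conj] at h2
        have h3 := congrArg Subtype.val (iot_injective V h2)
        rw [hconj] at h3
        show (v : G) * d = d * v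
        calc (v : G) * d = ((d : G) * v * (d : G)⁻¹) * d := by rw [h3]
          _ = d * v := by group
      · intro h1
        rw [mem_centralizer_iff]
        intro x hx
        obtain ⟨v, rfl⟩ := hW'V hx
        have h2 : (d : G) * v * (d : G)⁻¹ = v := by
          rw [← (mem_centralizer_iff.1 h1) v ((hmemW v).2 hx), mul_inv_cancel_right]
        have h3 : MulAut.conjNormal (d : G) v = v := Subtype.ext (by rw [hconj, h2])
        have h4 := rho_conj V d v
        rw [h3] at h4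
        calc iot V v * rho V d = (rho V d * iot V v * (rho V d)⁻¹) * rho V d := by rw [h4]
          _ = rho V d * iot V v := by group

end Main

end Cfsg.Agent.Lib.Helper55
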