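import Mathlib

/-!
Soft subgroups of `p`-groups (Hethelyi): an abelian self-centralizing subgroup of index `p` in its
normalizer.  Everything is done "modulo a normal subgroup `Y`" inside one fixed group, so that no
quotient groups have to be transported.
-/

set_option autoImplicit false
set_option linter.style.haveILetI false
set_option linter.unusedSectionVars false

open scoped commutatorElement

namespace Cfsg.Agent.Lib.Helper55.Soft

variable {G : Type*} [Group G]

/-- The centralizer of the set `S` modulo the normal subgroup `Y`. -/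
def cmod (Y : Subgroup G) [Y.Normal] (S : Set G) : Subgroup G :=
  (Subgroup.centralizer ((QuotientGroup.mk' Y) '' S)).comap (QuotientGroup.mk' Y)

theorem mem_cmod {Y : Subgroup G} [Y.Normal] {S : Set G} {g : G} :
    g ∈ cmod Y S ↔ ∀ s ∈ S, ⁅g, s⁆ ∈ Y := by
  unfold cmod
  rw [Subgroup.mem_comap, Subgroup.mem_centralizer_iff]
  constructor
  · intro h s hs
    have h1 := h _ ⟨s, hs, rfl⟩
    rw [← QuotientGroup.eq_one_iff, commutatorElement_def]
    simp only [QuotientGroup.mk'_apply] at h1
    simp only [QuotientGroup.mk_mul, QuotientGroup.mk_inv]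
    rw [← h1]
    group
  · rintro h _ ⟨s, hs, rfl⟩
    have h1 := h s hs
    rw [← QuotientGroup.eq_one_iff, commutatorElement_def] at h1
    simp only [QuotientGroup.mk_mul, QuotientGroup.mk_inv] at h1
    simp only [QuotientGroup.mk'_apply]
    have h2 : (g : G ⧸ Y) * (s : G ⧸ Y) = (s : G ⧸ Y) * (g : G ⧸ Y) := by
      calc (g : G ⧸ Y) * (s : G ⧸ Y)
          = ((g : G ⧸ Y) * (s : G ⧸ Y) * (g : G ⧸ Y)⁻¹ * (s : G ⧸ Y)⁻¹) * ((s : G ⧸ Y) * (g : G ⧸ Y)) := by
            group
        _ = (s : G ⧸ Y) * (g : G ⧸ Y) := by rw [h1, one_mul]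
    exact h2.symm

theorem comm_symm {Y : Subgroup G} {a b : G} (h : ⁅a, b⁆ ∈ Y) : ⁅b, a⁆ ∈ Y := by
  rw [← commutatorElement_inv]
  exact Y.inv_mem h

/-- The preimage of the centre of `G ⧸ Y`. -/
def up (Y : Subgroup G) [Y.Normal] : Subgroup G :=
  (Subgroup.center (G ⧸ Y)).comap (QuotientGroup.mk' Y)

instance up_normal (Y : Subgroup G) [Y.Normal] : (up Y).Normal := by
  unfold up; infer_instance

theorem mem_up {Y : Subgroup G} [Y.Normal] {g : G} : g ∈ up Y ↔ ∀ s : G, ⁅g, s⁆ ∈ Y := by
  have h : up Y = cmod Y Set.univ := by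
    unfold up cmod
    congr 1
    rw [Set.image_univ, (QuotientGroup.mk'_surjective Y).range_eq, Subgroup.centralizer_univ]
  rw [h, mem_cmod]
  simp

theorem le_up (Y : Subgroup G) [Y.Normal] : Y ≤ up Y := by
  intro y hy
  rw [mem_up]
  intro s
  rw [commutatorElement_def]
  have : s * y⁻¹ * s⁻¹ ∈ Y := ‹Y.Normal›.conj_mem _ (Y.inv_mem hy) s
  have h2 := Y.mul_mem hy this
  convert h2 using 1
  group

theorem lt_up [Finite G] {p : ℕ} [Fact p.Prime] (hG : IsPGroup p G) {Y : Subgroup G} [Y.Normal]
    (hY : Y ≠ ⊤) : Y < up Y := by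
  refine lt_of_le_of_ne (le_up Y) ?_
  intro h
  haveI : Nontrivial (G ⧸ Y) := by
    rw [← not_subsingleton_iff_nontrivial]
    intro hs
    exact hY (QuotientGroup.subgroup_eq_top_of_subsingleton Y hs)
  have hq : IsPGroup p (G ⧸ Y) := hG.to_quotient Y
  haveI := hq.center_nontrivial
  obtain ⟨z, hz⟩ := exists_ne (1 : Subgroup.center (G ⧸ Y))
  obtain ⟨g, hg⟩ := QuotientGroup.mk'_surjective Y (z : G ⧸ Y)
  have hgu : g ∈ up Y := by
    unfold up
    rw [Subgroup.mem_comap, hg]
    exact z.2
  rw [← h] at hgu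
  apply hz
  apply Subtype.ext
  rw [← hg]
  simpa using (QuotientGroup.eq_one_iff g).2 hgu

/-- Prime relative index: nothing strictly in between. -/
theorem eq_of_lt_of_le {p : ℕ} (hp : p.Prime) {A B N : Subgroup G} (h : A.relIndex N = p)
    (hAB : A < B) (hBN : B ≤ N) : B = N := by
  have h1 := Subgroup.relIndex_mul_relIndex A B N hAB.le hBN
  rw [h] at h1
  have h2 : A.relIndex B ≠ 1 := by
    intro h3
    rw [Subgroup.relIndex_eq_one] at h3
    exact absurd h3 (not_le_of_gt hAB)
  have h3 : A.relIndex B = p := by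
    rcases (Nat.dvd_prime hp).1 ⟨_, h1.symm⟩ with h4 | h4
    · exact absurd h4 h2
    · exact h4
  rw [h3] at h1
  have h4 : B.relIndex N = 1 := by
    have := hp.pos
    nlinarith
  rw [Subgroup.relIndex_eq_one] at h4
  exact le_antisymm hBN h4

/-- Normalizers grow in `p`-groups. -/
theorem lt_inf_normalizer' {p : ℕ} [Fact p.Prime] [Finite G] {D R : Subgroup G} (hR : IsPGroup p ↥R)
    (hDR : D < R) : D < R ⊓ Subgroup.normalizer (D : Set G) := by
  have hnil : Group.IsNilpotent ↥R := hR.isNilpotent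
  have hlt : D.subgroupOf R < ⊤ := by
    rw [lt_top_iff_ne_top]
    intro htop
    exact hDR.ne (le_antisymm hDR.le (Subgroup.subgroupOf_eq_top.mp htop))
  obtain ⟨n, hn1, hn2⟩ := SetLike.exists_of_lt
    ((Group.normalizerCondition_of_isNilpotent (G := ↥R)) (D.subgroupOf R) hlt)
  rw [← Subgroup.subgroupOf_normalizer_eq hDR.le, Subgroup.mem_subgroupOf] at hn1
  refine lt_of_le_of_ne (le_inf hDR.le Subgroup.le_normalizer) ?_
  intro h
  apply hn2
  rw [Subgroup.mem_subgroupOf, h]
  exact ⟨n.2, hn1⟩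

/-- `A` is soft modulo `Y`. -/
structure IsSoft (p : ℕ) (A Y : Subgroup G) : Prop where
  nY : Y.Normal
  le : Y ≤ A
  comm : ∀ a ∈ A, ∀ b ∈ A, ⁅a, b⁆ ∈ Y
  self : ∀ g : G, (∀ a ∈ A, ⁅g, a⁆ ∈ Y) → g ∈ A
  idx : A.relIndex (Subgroup.normalizer (A : Set G)) = p


/-- Shorthand for the normalizer of a subgroup. -/
abbrev nz (A : Subgroup G) : Subgroup G := Subgroup.normalizer (A : Set G)

theorem card_mul_relIndex' {H K : Subgroup G} (h : H ≤ K) :
    Nat.card H * H.relIndex K = Nat.card K := by
  rw [← Subgroup.relIndex_bot_left, ← Subgroup.relIndex_bot_left]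
  exact Subgroup.relIndex_mul_relIndex ⊥ H K bot_le h

theorem conj_comm (k a b : G) : ⁅k * a * k⁻¹, k * b * k⁻¹⁆ = k * ⁅a, b⁆ * k⁻¹ := by
  simp only [commutatorElement_def]
  group

theorem card_filter_mem [Fintype G] (H : Subgroup G) [DecidablePred (· ∈ H)] :
    (Finset.univ.filter (· ∈ H)).card = Nat.card H := by
  rw [Nat.card_eq_fintype_card, Fintype.card_subtype]

theorem card_filter_diff [Fintype G] {D A : Subgroup G} (hDA : D ≤ A)
    [DecidablePred (· ∈ A)] [DecidablePred (· ∈ D)] :
    (Finset.univ.filter (fun x => x ∈ A ∧ x ∉ D)).card + Nat.card D = Nat.card A := by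
  rw [← card_filter_mem A, ← card_filter_mem D]
  have h1 := Finset.card_filter_add_card_filter_not (s := Finset.univ.filter (· ∈ A)) (fun x => x ∈ D)
  rw [Finset.filter_filter, Finset.filter_filter] at h1
  rw [← h1, add_comm]
  congr 2
  ext x
  simp only [Finset.mem_filter, Finset.mem_univ, true_and]
  exact ⟨fun h => ⟨hDA h, h⟩, fun h => h.2⟩

section
variable [Finite G] {p : ℕ} [Fact p.Prime] {A Y : Subgroup G}

theorem IsSoft.normalizer_le (hG : IsPGroup p G) (h : IsSoft p A Y) {K : Subgroup G} (hK : A < K) :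
    nz A ≤ K := by
  have h1 := lt_inf_normalizer' (hG.to_subgroup K) hK
  have h2 := eq_of_lt_of_le (Fact.out : p.Prime) h.idx h1 inf_le_right
  exact inf_eq_right.1 h2

theorem IsSoft.normalizer_le_of_mem (h : IsSoft p A Y) {X : Subgroup G} (hA : A ≤ X) {y : G}
    (hy : y ∈ nz A) (hyA : y ∉ A) (hyX : y ∈ X) : nz A ≤ X := by
  have h1 : A < X ⊓ nz A := by
    refine lt_of_le_of_ne (le_inf hA Subgroup.le_normalizer) ?_
    intro h2
    exact hyA (h2 ▸ ⟨hyX, hy⟩)
  have h2 := eq_of_lt_of_le (Fact.out : p.Prime) h.idx h1 inf_le_right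
  exact inf_eq_right.1 h2

theorem mem_nz_of_comm {A Y' : Subgroup G} (hY' : Y' ≤ A) {g : G}
    (hg : ∀ a ∈ A, ⁅g, a⁆ ∈ Y') : g ∈ nz A := by
  apply Subgroup.mem_normalizer_fintype
  intro a ha
  have h1 := A.mul_mem (hY' (hg a ha)) ha
  rw [commutatorElement_def] at h1
  simpa using h1

theorem IsSoft.comm_normalizer (h : IsSoft p A Y) {Y' : Subgroup G} [Y'.Normal] (hYY' : Y ≤ Y')
    {y : G} (hy : y ∈ nz A) (hyA : y ∉ A) (hc : ∀ a ∈ A, ⁅y, a⁆ ∈ Y') :
    ∀ m ∈ nz A, ∀ n ∈ nz A, ⁅m, n⁆ ∈ Y' := by
  have h1 : nz A ≤ cmod Y' (A : Set G) := by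
    apply h.normalizer_le_of_mem _ hy hyA
    · rw [mem_cmod]; exact hc
    · intro a ha
      rw [mem_cmod]
      intro b hb
      exact hYY' (h.comm a ha b hb)
  have h2 : nz A ≤ cmod Y' ({y} : Set G) := by
    apply h.normalizer_le_of_mem _ hy hyA
    · rw [mem_cmod]
      intro s hs
      rw [Set.mem_singleton_iff] at hs
      subst hs
      simp
    · intro a ha
      rw [mem_cmod]
      intro s hs
      rw [Set.mem_singleton_iff] at hs
      subst hs
      exact comm_symm (hc a ha)
  have h3 : nz A ≤ cmod Y' (nz A : Set G) := by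
    apply h.normalizer_le_of_mem _ hy hyA
    · rw [mem_cmod]
      intro n hn
      exact comm_symm (mem_cmod.1 (h2 hn) y rfl)
    · intro a ha
      rw [mem_cmod]
      intro n hn
      exact comm_symm (mem_cmod.1 (h1 hn) a ha)
  intro m hm n hn
  exact mem_cmod.1 (h3 hm) n hn


theorem lt_nz (hG : IsPGroup p G) {K : Subgroup G} (hK : K ≠ ⊤) : K < nz K := by
  have := lt_inf_normalizer' (hG.to_subgroup ⊤) (lt_top_iff_ne_top.2 hK)
  simpa using this

theorem conj_mem_of_mem_nz {K : Subgroup G} {k x : G} (hk : k ∈ nz K) (hx : x ∈ K) :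
    k * x * k⁻¹ ∈ K := (Subgroup.mem_normalizer_iff.1 hk x).1 hx

/-- The basic step: the second normalizer also has index `p`. -/
theorem IsSoft.relIndex_nz_nz (hG : IsPGroup p G) (h : IsSoft p A Y) (hN : nz A ≠ ⊤) :
    (nz A).relIndex (nz (nz A)) = p := by
  classical
  haveI := h.nY
  haveI := Fintype.ofFinite G
  have hp : p.Prime := Fact.out
  have hAN : A ≤ nz A := Subgroup.le_normalizer
  have hNN : nz A ≤ nz (nz A) := Subgroup.le_normalizer
  have hlt : nz A < nz (nz A) := lt_nz hG hN
  set D : Subgroup G := cmod Y (nz A : Set G) ⊓ nz A with hD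
  have d1 : D ≤ A := by
    intro x hx
    apply h.self
    intro a ha
    exact mem_cmod.1 hx.1 a (hAN ha)
  have d2 : ∀ k ∈ nz (nz A), ∀ x ∈ D, k * x * k⁻¹ ∈ D := by
    intro k hk x hx
    refine Subgroup.mem_inf.2 ⟨?_, conj_mem_of_mem_nz hk hx.2⟩
    rw [mem_cmod]
    intro n hn
    have hn' : k⁻¹ * n * k⁻¹⁻¹ ∈ nz A := conj_mem_of_mem_nz ((nz (nz A)).inv_mem hk) hn
    have h1 := mem_cmod.1 hx.1 _ hn'
    have h2 := ‹Y.Normal›.conj_mem _ h1 k
    rw [← conj_comm] at h2
    convert h2 using 2
    group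
  have d3 : ∀ k ∈ nz (nz A), k ∉ nz A → ∀ x ∈ A, k * x * k⁻¹ ∈ A → k * x * k⁻¹ ∈ D := by
    intro k hk hk' x hx hz
    obtain ⟨a, ha, hka⟩ : ∃ a ∈ A, k * a * k⁻¹ ∉ A := by
      by_contra hcon
      push Not at hcon
      exact hk' (Subgroup.mem_normalizer_fintype hcon)
    have hy : k * a * k⁻¹ ∈ nz A := conj_mem_of_mem_nz hk (hAN ha)
    have h1 : nz A ≤ cmod Y ({k * x * k⁻¹} : Set G) := by
      apply h.normalizer_le_of_mem _ hy hka
      · rw [mem_cmod]
        intro s hs
        rw [Set.mem_singleton_iff] at hs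
        subst hs
        rw [conj_comm]
        exact ‹Y.Normal›.conj_mem _ (h.comm a ha x hx) k
      · intro b hb
        rw [mem_cmod]
        intro s hs
        rw [Set.mem_singleton_iff] at hs
        subst hs
        exact h.comm b hb _ hz
    refine Subgroup.mem_inf.2 ⟨?_, hAN hz⟩
    rw [mem_cmod]
    intro n hn
    exact comm_symm (mem_cmod.1 (h1 hn) _ rfl)
  have d4 : D ≠ A := by
    intro hDA
    apply not_le_of_gt hlt
    intro k hk
    apply Subgroup.mem_normalizer_fintype
    intro n hn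
    have : n ∈ D := by rw [hDA]; exact hn
    have := d2 k hk n this
    rw [hDA] at this
    exact this
  -- the double count
  set S : Finset (G × G) := (Finset.univ.filter (· ∈ nz (nz A))) ×ˢ
    (Finset.univ.filter (fun x => x ∈ A ∧ x ∉ D)) with hS
  set T : Finset G := Finset.univ.filter (fun x => x ∈ nz A ∧ x ∉ D) with hT
  have hmaps : ∀ a ∈ S, (fun q : G × G => q.1 * q.2 * q.1⁻¹) a ∈ T := by
    rintro ⟨k, x⟩ hkx
    simp only [hS, Finset.mem_product, Finset.mem_filter, Finset.mem_univ, true_and] at hkx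
    simp only [hT, Finset.mem_filter, Finset.mem_univ, true_and]
    refine ⟨conj_mem_of_mem_nz hkx.1 (hAN hkx.2.1), ?_⟩
    intro hcon
    apply hkx.2.2
    have := d2 k⁻¹ ((nz (nz A)).inv_mem hkx.1) _ hcon
    convert this using 1
    group
  have hfib : ∀ b ∈ T, (S.filter (fun q : G × G => q.1 * q.2 * q.1⁻¹ = b)).card ≤ Nat.card (nz A) := by
    intro b _
    rcases (S.filter (fun q : G × G => q.1 * q.2 * q.1⁻¹ = b)).eq_empty_or_nonempty with he | ⟨⟨k₀, x₀⟩, h0⟩
    · rw [he]; simp
    · rw [← card_filter_mem (nz A)]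
      simp only [hS, Finset.mem_product, Finset.mem_filter, Finset.mem_univ, true_and] at h0
      apply Finset.card_le_card_of_injOn (fun q : G × G => k₀⁻¹ * q.1)
      · rintro ⟨k, x⟩ hkx
        simp only [hS, Finset.coe_filter, Finset.mem_product, Finset.mem_filter, Finset.mem_univ,
          true_and, Set.mem_ofPred_eq] at hkx
        simp only [Finset.coe_filter, Finset.mem_univ, true_and, Set.mem_ofPred_eq]
        by_contra hcon
        have hk' : k₀⁻¹ * k ∈ nz (nz A) := (nz (nz A)).mul_mem ((nz (nz A)).inv_mem h0.1.1) hkx.1.1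
        have heq : (k₀⁻¹ * k) * x * (k₀⁻¹ * k)⁻¹ = x₀ := by
          have : k * x * k⁻¹ = k₀ * x₀ * k₀⁻¹ := hkx.2.trans h0.2.symm
          calc (k₀⁻¹ * k) * x * (k₀⁻¹ * k)⁻¹ = k₀⁻¹ * (k * x * k⁻¹) * k₀ := by group
            _ = x₀ := by rw [this]; group
        have := d3 _ hk' hcon x hkx.1.2.1 (by rw [heq]; exact h0.1.2.1)
        rw [heq] at this
        exact h0.1.2.2 this
      · rintro ⟨k, x⟩ hkx ⟨k', x'⟩ hkx' heq
        simp only [hS, Finset.coe_filter, Finset.mem_product, Finset.mem_filter, Finset.mem_univ,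
          true_and, Set.mem_ofPred_eq] at hkx hkx'
        have hk : k = k' := by simpa using heq
        subst hk
        have : k * x * k⁻¹ = k * x' * k⁻¹ := hkx.2.trans hkx'.2.symm
        have hx : x = x' := by simpa using this
        rw [hx]
  have hcount := Finset.card_le_mul_card_image_of_maps_to hmaps _ hfib
  rw [hS, Finset.card_product, card_filter_mem] at hcount
  have c1 := card_filter_diff d1
  have c2 := card_filter_diff (d1.trans hAN)
  have c3 := card_mul_relIndex' hAN
  have c4 := card_mul_relIndex' hNN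
  rw [h.idx] at c3
  obtain ⟨e, he⟩ := (hG.to_subgroup (nz (nz A))).index ((nz A).subgroupOf (nz (nz A)))
  change (nz A).relIndex (nz (nz A)) = p ^ e at he
  have hdvd : Nat.card D ∣ Nat.card A := Subgroup.card_dvd_of_le d1
  have hdpos : 0 < Nat.card D := Nat.card_pos
  have hlt2 : Nat.card D < Nat.card A := by
    rcases lt_or_eq_of_le (Subgroup.card_le_of_le d1) with h1 | h1
    · exact h1
    · exact absurd (Subgroup.eq_of_le_of_card_ge d1 h1.ge) d4
  have h2d : 2 * Nat.card D ≤ Nat.card A := by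
    obtain ⟨c, hc⟩ := hdvd
    rw [hc] at hlt2 ⊢
    have : 2 ≤ c := by
      by_contra hcon
      have : c ≤ 1 := by omega
      nlinarith
    nlinarith
  have he1 : e ≠ 0 := by
    rintro rfl
    rw [pow_zero, Subgroup.relIndex_eq_one] at he
    exact absurd he (not_le_of_gt hlt)
  have he2 : e < 2 := by
    by_contra hcon
    have hpp : p ^ 2 ≤ (nz A).relIndex (nz (nz A)) := by
      rw [he]; exact Nat.pow_le_pow_right hp.pos (by omega)
    have hn1 : 0 < Nat.card (nz A) := Nat.card_pos
    rw [← c4, mul_assoc] at hcount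
    have h5 := Nat.le_of_mul_le_mul_left hcount hn1
    have h6 := Nat.mul_le_mul_right (Finset.univ.filter (fun x => x ∈ A ∧ x ∉ D)).card hpp
    have hp2 := hp.two_le
    rw [← c3, ← c1] at c2
    rw [← c1] at h2d
    generalize (Finset.univ.filter (fun x => x ∈ A ∧ x ∉ D)).card = s₁ at *
    generalize T.card = t at *
    generalize Nat.card D = d at *
    generalize (nz A).relIndex (nz (nz A)) = r at *
    have h7 : d ≤ s₁ := by omega
    have h8 : p ^ 2 * s₁ ≤ t := h6.trans h5
    have h9 : 2 * p * s₁ ≤ p ^ 2 * s₁ := by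
      apply Nat.mul_le_mul_right
      nlinarith
    have h10 : p * d ≤ p * s₁ := Nat.mul_le_mul_left _ h7
    nlinarith
  have : e = 1 := by omega
  rw [he, this, pow_one]


/-- The overgroups of a soft subgroup form a chain with steps of index `p`. -/
theorem IsSoft.chain (hG : IsPGroup p G) : ∀ (Y A : Subgroup G), IsSoft p A Y →
    (∀ K L : Subgroup G, A ≤ K → A ≤ L → K ≤ L ∨ L ≤ K) ∧
    (∀ K : Subgroup G, A ≤ K → K ≠ ⊤ → K.relIndex (nz K) = p) := by
  intro Y
  induction Y using WellFoundedGT.induction with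
  | ind Y ih =>
  intro A h
  haveI := h.nY
  by_cases hN : nz A = ⊤
  · have key : ∀ K, A ≤ K → K = A ∨ K = ⊤ := fun K hK => by
      rcases eq_or_lt_of_le hK with h1 | h1
      · left; exact h1.symm
      · right; exact top_le_iff.1 (hN ▸ h.normalizer_le hG h1)
    constructor
    · intro K L hK hL
      rcases key K hK with rfl | rfl
      · left; exact hL
      · right; exact le_top
    · intro K hK hKt
      rcases key K hK with rfl | rfl
      · exact h.idx
      · exact absurd rfl hKt
  · have hYtop : Y ≠ ⊤ := by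
      rintro rfl
      apply hN
      have : A = ⊤ := top_le_iff.1 h.le
      rw [this]
      exact top_le_iff.1 Subgroup.le_normalizer
    have hlt := lt_up hG hYtop
    have hupA : up Y ≤ A := fun g hg => h.self g (fun a _ => mem_up.1 hg a)
    by_cases hcase : ∃ g, g ∉ A ∧ ∀ a ∈ A, ⁅g, a⁆ ∈ up Y
    · obtain ⟨g, hgA, hg⟩ := hcase
      have hgN : g ∈ nz A := mem_nz_of_comm hupA hg
      have hsoft : IsSoft p (nz A) (up Y) :=
        { nY := inferInstance
          le := hupA.trans Subgroup.le_normalizer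
          comm := h.comm_normalizer (le_up Y) hgN hgA hg
          self := fun x hx => mem_nz_of_comm hupA (fun a ha => hx a (Subgroup.le_normalizer ha))
          idx := h.relIndex_nz_nz hG hN }
      obtain ⟨i1, i2⟩ := ih (up Y) hlt (nz A) hsoft
      have key : ∀ K, A ≤ K → K = A ∨ nz A ≤ K := fun K hK => by
        rcases eq_or_lt_of_le hK with h1 | h1
        · left; exact h1.symm
        · right; exact h.normalizer_le hG h1
      constructor
      · intro K L hK hL
        rcases key K hK with rfl | hK'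
        · left; exact hL
        · rcases key L hL with rfl | hL'
          · right; exact hK
          · exact i1 K L hK' hL'
      · intro K hK hKt
        rcases key K hK with rfl | hK'
        · exact h.idx
        · exact i2 K hK' hKt
    · push Not at hcase
      have hsoft : IsSoft p A (up Y) :=
        { nY := inferInstance
          le := hupA
          comm := fun a ha b hb => le_up Y (h.comm a ha b hb)
          self := fun g hg => by
            by_contra hgA
            obtain ⟨a, ha, ha'⟩ := hcase g hgA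
            exact ha' (hg a ha)
          idx := h.idx }
      exact ih (up Y) hlt A hsoft

/-- The normalizer of a soft subgroup is abelian modulo it. -/
theorem IsSoft.commutator_le (h : IsSoft p A Y) : ⁅nz A, nz A⁆ ≤ A := by
  rw [Subgroup.commutator_le]
  intro m hm n hn
  haveI : (A.subgroupOf (nz A)).Normal := Subgroup.normal_in_normalizer
  have hcard : Nat.card (↥(nz A) ⧸ A.subgroupOf (nz A)) = p := h.idx
  haveI : IsCyclic (↥(nz A) ⧸ A.subgroupOf (nz A)) := isCyclic_of_prime_card hcard
  have h1 : ((⟨m, hm⟩ : ↥(nz A)) : ↥(nz A) ⧸ A.subgroupOf (nz A)) * ((⟨n, hn⟩ : ↥(nz A)) : ↥(nz A) ⧸ A.subgroupOf (nz A))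
      = ((⟨n, hn⟩ : ↥(nz A)) : ↥(nz A) ⧸ A.subgroupOf (nz A)) * ((⟨m, hm⟩ : ↥(nz A)) : ↥(nz A) ⧸ A.subgroupOf (nz A)) :=
    IsCyclic.commGroup.mul_comm _ _
  have h2 : (⁅(⟨m, hm⟩ : ↥(nz A)), (⟨n, hn⟩ : ↥(nz A))⁆ : ↥(nz A)) ∈ A.subgroupOf (nz A) := by
    rw [← QuotientGroup.eq_one_iff, commutatorElement_def]
    simp only [QuotientGroup.mk_mul, QuotientGroup.mk_inv]
    rw [h1]
    group
  rw [Subgroup.mem_subgroupOf] at h2
  simpa [commutatorElement_def] using h2

/-- Claim (C): the derived group of the normalizer is central modulo `Y` in every proper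
overgroup. -/
theorem IsSoft.comm_comm (hG : IsPGroup p G) : ∀ (Y A M : Subgroup G), IsSoft p A Y → A ≤ M →
    M ≠ ⊤ → ∀ u ∈ ⁅nz A, nz A⁆, ∀ m ∈ M, ⁅u, m⁆ ∈ Y := by
  intro Y
  induction Y using WellFoundedGT.induction with
  | ind Y ih =>
  intro A M h hAM hM
  haveI := h.nY
  have hUA := h.commutator_le
  have hYtop : Y ≠ ⊤ := by
    rintro rfl
    exact hM (top_le_iff.1 (h.le.trans hAM))
  have hlt := lt_up hG hYtop
  have hupA : up Y ≤ A := fun g hg => h.self g (fun a _ => mem_up.1 hg a)
  by_cases hU : ⁅nz A, nz A⁆ ≤ up Y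
  · intro u hu m _
    exact mem_up.1 (hU hu) m
  · have hsoft : IsSoft p A (up Y) :=
      { nY := inferInstance
        le := hupA
        comm := fun a ha b hb => le_up Y (h.comm a ha b hb)
        self := fun g hg => by
          by_contra hgA
          apply hU
          rw [Subgroup.commutator_le]
          exact h.comm_normalizer (le_up Y) (mem_nz_of_comm hupA hg) hgA hg
        idx := h.idx }
    have ih' := ih (up Y) hlt A M hsoft hAM hM
    set C := cmod Y ((⁅nz A, nz A⁆ : Subgroup G) : Set G) with hC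
    have hAC : A ≤ C := by
      intro a ha
      rw [mem_cmod]
      intro u hu
      exact h.comm a ha u (hUA hu)
    by_cases hMC : M ≤ C
    · intro u hu m hm
      exact comm_symm (mem_cmod.1 (hMC hm) u hu)
    · exfalso
      obtain ⟨ch1, ch2⟩ := IsSoft.chain hG Y A h
      have hCM : C < M := by
        rcases ch1 C M hAC hAM with h1 | h1
        · exact lt_of_le_not_ge h1 hMC
        · exact absurd h1 hMC
      have hCtop : C ≠ ⊤ := ne_top_of_lt hCM
      have hLM : nz C ≤ M := by
        have h1 := lt_inf_normalizer' (hG.to_subgroup M) hCM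
        have h2 := eq_of_lt_of_le (Fact.out : p.Prime) (ch2 C hAC hCtop) h1 inf_le_right
        exact inf_eq_right.1 h2
      have hLtop : nz C ≠ ⊤ := fun h1 => hM (top_le_iff.1 (h1 ▸ hLM))
      obtain ⟨t, ht, htL⟩ := SetLike.exists_of_lt (lt_nz hG hLtop)
      have key : ∀ u ∈ ⁅nz A, nz A⁆, ∀ a ∈ A, ⁅t * u * t⁻¹, a⁆ ∈ up Y := by
        intro u hu a ha
        have ha' : t⁻¹ * a * t⁻¹⁻¹ ∈ nz C :=
          conj_mem_of_mem_nz ((nz (nz C)).inv_mem ht) (Subgroup.le_normalizer (hAC ha))
        have h1 := ih' u hu _ (hLM ha')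
        have h2 := (up_normal Y).conj_mem _ h1 t
        rw [← conj_comm] at h2
        convert h2 using 2
        group
      by_cases hsub : ∀ u ∈ ⁅nz A, nz A⁆, t * u * t⁻¹ ∈ A
      · have h1 : ∀ a ∈ A, t⁻¹ * a * t⁻¹⁻¹ ∈ C := by
          intro a ha
          rw [mem_cmod]
          intro u hu
          have h2 := h.comm a ha _ (hsub u hu)
          have h3 := ‹Y.Normal›.conj_mem _ h2 t⁻¹
          rw [← conj_comm] at h3
          convert h3 using 2
          group
        have hAC' : A ≤ C.map (MulAut.conj t).toMonoidHom := by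
          intro a ha
          refine Subgroup.mem_map.2 ⟨_, h1 a ha, ?_⟩
          simp only [MulEquiv.coe_toMonoidHom, MulAut.conj_apply]
          group
        have hcard : Nat.card (C.map (MulAut.conj t).toMonoidHom) = Nat.card C :=
          Subgroup.card_map_of_injective (MulAut.conj t).injective
        have heq : C.map (MulAut.conj t).toMonoidHom = C := by
          rcases ch1 _ _ hAC' hAC with h2 | h2
          · exact Subgroup.eq_of_le_of_card_ge h2 hcard.ge
          · exact (Subgroup.eq_of_le_of_card_ge h2 hcard.le).symm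
        exact htL (Subgroup.mem_normalizer_iff_map_conj_eq.2 heq)
      · push Not at hsub
        obtain ⟨u, hu, huA⟩ := hsub
        apply hU
        rw [Subgroup.commutator_le]
        exact h.comm_normalizer (le_up Y) (mem_nz_of_comm hupA (key u hu)) huA (key u hu)


theorem mem_map_ucs_succ {M : Subgroup G} {j : ℕ} {x : G} :
    x ∈ (Subgroup.upperCentralSeries M (j + 1)).map M.subtype ↔
      x ∈ M ∧ ∀ m ∈ M, ⁅x, m⁆ ∈ (Subgroup.upperCentralSeries M j).map M.subtype := by
  constructor
  · rintro ⟨z, hz, rfl⟩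
    refine ⟨z.2, fun m hm => ?_⟩
    have h1 := Subgroup.mem_upperCentralSeries_succ_iff.1 hz ⟨m, hm⟩
    exact Subgroup.mem_map.2 ⟨_, h1, by simp [commutatorElement_def]⟩
  · rintro ⟨hx, h⟩
    refine Subgroup.mem_map.2 ⟨⟨x, hx⟩, ?_, rfl⟩
    rw [Subgroup.mem_upperCentralSeries_succ_iff]
    intro y
    obtain ⟨z, hz, hzeq⟩ := Subgroup.mem_map.1 (h y y.2)
    have : z = ⟨x, hx⟩ * y * (⟨x, hx⟩ : M)⁻¹ * y⁻¹ :=
      Subtype.ext (by simpa [commutatorElement_def] using hzeq)
    rw [commutatorElement_def, ← this]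
    exact hz

/-- The upper central series of a proper normal overgroup `M` of a soft subgroup. -/
theorem IsSoft.upper (hG : IsPGroup p G) {M : Subgroup G} [M.Normal] (hM : M ≠ ⊤) :
    ∀ (i j : ℕ) (A : Subgroup G), IsSoft p A ((Subgroup.upperCentralSeries M j).map M.subtype) → A ≤ M →
      M.index * p ^ i = A.index → Subgroup.upperCentralSeries M j ≠ ⊤ →
      Subgroup.upperCentralSeries M (j + i + 1) = ⊤ ∧ Subgroup.upperCentralSeries M (j + i) ≠ ⊤ := by
  have hp : p.Prime := Fact.out
  intro i
  induction i with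
  | zero =>
    intro j A h hAM hidx hj
    have h1 := Subgroup.relIndex_mul_index hAM
    rw [← hidx, pow_zero, mul_one] at h1
    have hMi : M.index ≠ 0 := Subgroup.index_ne_zero_of_finite
    have h2 : A.relIndex M = 1 := by
      have : A.relIndex M * M.index = 1 * M.index := by rw [h1, one_mul]
      exact Nat.eq_of_mul_eq_mul_right (Nat.pos_of_ne_zero hMi) this
    rw [Subgroup.relIndex_eq_one] at h2
    refine ⟨?_, hj⟩
    rw [add_zero, eq_top_iff]
    intro x _
    have h3 : (x : G) ∈ (Subgroup.upperCentralSeries M (j + 1)).map M.subtype := by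
      rw [mem_map_ucs_succ]
      exact ⟨x.2, fun m hm => h.comm _ (h2 x.2) m (h2 hm)⟩
    obtain ⟨z, hz, hzeq⟩ := Subgroup.mem_map.1 h3
    have : z = x := Subtype.ext hzeq
    rw [← this]
    exact hz
  | succ i ih =>
    intro j A h hAM hidx hj
    have hMi : M.index ≠ 0 := Subgroup.index_ne_zero_of_finite
    have hne : A ≠ M := by
      rintro rfl
      have h1 : A.index * p ^ (i + 1) = A.index * 1 := by rw [hidx, mul_one]
      have h2 := Nat.eq_of_mul_eq_mul_left (Nat.pos_of_ne_zero hMi) h1
      have h3 : 1 < p ^ (i + 1) := Nat.one_lt_pow (by omega) hp.one_lt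
      omega
    have hlt : A < M := lt_of_le_of_ne hAM hne
    have hNM : nz A ≤ M := h.normalizer_le hG hlt
    have hNtop : nz A ≠ ⊤ := fun h1 => hM (top_le_iff.1 (h1 ▸ hNM))
    have hYA : (Subgroup.upperCentralSeries M (j + 1)).map M.subtype ≤ A := by
      intro x hx
      rw [mem_map_ucs_succ] at hx
      exact h.self x (fun a ha => hx.2 a (hAM ha))
    have hsoft : IsSoft p (nz A) ((Subgroup.upperCentralSeries M (j + 1)).map M.subtype) :=
      { nY := inferInstance
        le := hYA.trans Subgroup.le_normalizer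
        comm := by
          intro a ha b hb
          rw [mem_map_ucs_succ]
          have hab : ⁅a, b⁆ ∈ ⁅nz A, nz A⁆ := Subgroup.commutator_mem_commutator ha hb
          exact ⟨hAM (h.commutator_le hab), IsSoft.comm_comm hG _ A M h hAM hM _ hab⟩
        self := fun x hx => mem_nz_of_comm hYA (fun a ha => hx a (Subgroup.le_normalizer ha))
        idx := (IsSoft.chain hG _ A h).2 (nz A) Subgroup.le_normalizer hNtop }
    have hidx' : M.index * p ^ i = (nz A).index := by
      have h1 := Subgroup.relIndex_mul_index (Subgroup.le_normalizer : A ≤ nz A)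
      rw [h.idx, ← hidx, pow_succ] at h1
      have h2 : p * (nz A).index = p * (M.index * p ^ i) := by rw [h1]; ring
      exact (Nat.eq_of_mul_eq_mul_left hp.pos h2).symm
    have hj' : Subgroup.upperCentralSeries M (j + 1) ≠ ⊤ := by
      intro h1
      rw [h1] at hYA
      apply hne
      apply le_antisymm hAM
      intro m hm
      exact hYA (Subgroup.mem_map.2 ⟨⟨m, hm⟩, Subgroup.mem_top _, rfl⟩)
    have := ih (j + 1) (nz A) hsoft hNM hidx' hj'
    have e1 : j + (i + 1) + 1 = j + 1 + i + 1 := by omega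
    have e2 : j + (i + 1) = j + 1 + i := by omega
    rw [e1, e2]
    exact this

/-- The nilpotency class of a proper normal overgroup of a soft subgroup. -/
theorem IsSoft.nilpotencyClass_eq (hG : IsPGroup p G) (h : IsSoft p A ⊥) {M : Subgroup G} [M.Normal]
    (hM : M ≠ ⊤) (hAM : A ≤ M) [Group.IsNilpotent ↥M] {i : ℕ} (hidx : M.index * p ^ i = A.index) :
    Group.nilpotencyClass ↥M = i + 1 := by
  have h0 : (Subgroup.upperCentralSeries M 0).map M.subtype = ⊥ := by simp
  have hne : Subgroup.upperCentralSeries M 0 ≠ ⊤ := by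
    rw [Subgroup.upperCentralSeries_zero]
    intro h1
    have hMbot : M = ⊥ := by
      rw [eq_bot_iff]
      intro m hm
      have : (⟨m, hm⟩ : M) ∈ (⊥ : Subgroup M) := by rw [h1]; exact Subgroup.mem_top _
      rw [Subgroup.mem_bot] at this
      rw [Subgroup.mem_bot]
      exact congrArg Subtype.val this
    have hA : A = ⊥ := eq_bot_iff.2 (hMbot ▸ hAM)
    apply hM
    rw [eq_top_iff]
    intro g _
    have : g ∈ A := h.self g (fun a ha => by
      rw [hA, Subgroup.mem_bot] at ha
      subst ha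
      simp)
    exact hAM this
  obtain ⟨h1, h2⟩ := IsSoft.upper hG hM i 0 A (h0 ▸ h) hAM hidx hne
  rw [zero_add] at h1 h2
  rw [Subgroup.upperCentralSeries_eq_top_iff_nilpotencyClass_le] at h1
  rw [Ne, Subgroup.upperCentralSeries_eq_top_iff_nilpotencyClass_le] at h2
  omega


theorem nilpotencyClass_congr {H K : Type*} [Group H] [Group K] (e : H ≃* K) [Group.IsNilpotent H] :
    Group.nilpotencyClass K = Group.nilpotencyClass H := by
  haveI : Group.IsNilpotent K := Group.nilpotent_of_surjective e.toMonoidHom e.surjective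
  apply le_antisymm
  · exact Group.nilpotencyClass_le_of_surjective e.toMonoidHom e.surjective
  · exact Group.nilpotencyClass_le_of_surjective e.symm.toMonoidHom e.symm.surjective

theorem isSoft_bot {E : Subgroup G} (hEab : IsMulCommutative ↥E)
    (hC : Subgroup.centralizer (E : Set G) ≤ E)
    (hN : (E.subgroupOf (Subgroup.normalizer (E : Set G))).index = p) : IsSoft p E ⊥ :=
  { nY := inferInstance
    le := bot_le
    comm := by
      intro a ha b hb
      rw [Subgroup.mem_bot, commutatorElement_eq_one_iff_mul_comm]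
      have := hEab.is_comm.comm ⟨a, ha⟩ ⟨b, hb⟩
      exact congrArg Subtype.val this
    self := by
      intro g hg
      apply hC
      rw [Subgroup.mem_centralizer_iff]
      intro a ha
      have := hg a ha
      rw [Subgroup.mem_bot, commutatorElement_eq_one_iff_mul_comm] at this
      exact this.symm
    idx := hN }

/-- Hethelyi's theorem on soft subgroups. -/
theorem soft_main (hP : IsPGroup p G)
    (E : Subgroup G) (hEab : IsMulCommutative ↥E) (hC : Subgroup.centralizer (E : Set G) ≤ E)
    (hN : (E.subgroupOf (Subgroup.normalizer (E : Set G))).index = p) :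
    (∀ K L : Subgroup G, E ≤ K → E ≤ L → K ≤ L ∨ L ≤ K) ∧
      (∀ K : Subgroup G, E ≤ K → K ≠ ⊤ → (K.subgroupOf (Subgroup.normalizer (K : Set G))).index = p) ∧
      ∀ (i : ℕ) (K : Subgroup G) [Group.IsNilpotent ↥K], E ≤ K → K ≠ ⊤ → K.index * p ^ i = E.index →
        Group.nilpotencyClass ↥K = i + 1 := by
  have h := isSoft_bot hEab hC hN
  obtain ⟨c1, c2⟩ := IsSoft.chain hP ⊥ E h
  refine ⟨c1, c2, ?_⟩
  intro i K _ hEK hK hidx
  have hKT : K ≤ nz K := Subgroup.le_normalizer
  have hET : E ≤ nz K := hEK.trans hKT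
  have hNT : nz E ≤ nz K := by
    rcases eq_or_lt_of_le hEK with h1 | h1
    · rw [h1]
    · exact (h.normalizer_le hP h1).trans hKT
  haveI : (K.subgroupOf (nz K)).Normal := Subgroup.normal_in_normalizer
  have hK' : K.subgroupOf (nz K) ≠ ⊤ := by
    intro h1
    rw [Subgroup.subgroupOf_eq_top] at h1
    exact absurd h1 (not_le_of_gt (lt_nz hP hK))
  have hsoft : IsSoft p (E.subgroupOf (nz K)) ⊥ := by
    apply isSoft_bot
    · rw [isMulCommutative_iff]
      intro a b
      have := hEab.is_comm.comm ⟨(a : ↥(nz K)), a.2⟩ ⟨(b : ↥(nz K)), b.2⟩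
      apply Subtype.ext
      apply Subtype.ext
      exact congrArg (Subtype.val : ↥E → G) this
    · intro g hg
      rw [Subgroup.mem_subgroupOf]
      apply hC
      rw [Subgroup.mem_centralizer_iff] at hg ⊢
      intro a ha
      have := hg ⟨a, hET ha⟩ (by simpa [Subgroup.mem_subgroupOf] using ha)
      exact congrArg Subtype.val this
    · change (E.subgroupOf (nz K)).relIndex _ = p
      rw [← Subgroup.subgroupOf_normalizer_eq hET, Subgroup.relIndex_subgroupOf hNT]
      exact hN
  have hidx' : (K.subgroupOf (nz K)).index * p ^ i = (E.subgroupOf (nz K)).index := by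
    change K.relIndex (nz K) * p ^ i = E.relIndex (nz K)
    have h1 := Subgroup.relIndex_mul_index hET
    have h2 := Subgroup.relIndex_mul_index hKT
    have h3 : (nz K).index ≠ 0 := Subgroup.index_ne_zero_of_finite
    rw [← h1, ← h2] at hidx
    have h4 : (K.relIndex (nz K) * p ^ i) * (nz K).index = E.relIndex (nz K) * (nz K).index := by
      rw [← hidx]; ring
    exact Nat.eq_of_mul_eq_mul_right (Nat.pos_of_ne_zero h3) h4
  haveI : Group.IsNilpotent ↥(K.subgroupOf (nz K)) :=
    Group.nilpotent_of_surjective (Subgroup.subgroupOfEquivOfLe hKT).symm.toMonoidHom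
      (Subgroup.subgroupOfEquivOfLe hKT).symm.surjective
  have hcl := IsSoft.nilpotencyClass_eq (hP.to_subgroup (nz K)) hsoft hK'
    (fun x hx => hEK hx) hidx'
  rw [← hcl]
  exact nilpotencyClass_congr (Subgroup.subgroupOfEquivOfLe hKT)

end

end Cfsg.Agent.Lib.Helper55.Soft
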