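import Cfsg.Agent.Lib.Helper55.ModelS3
import Cfsg.Agent.S1264
import Cfsg.Agent.Lib.Helper15.WS
import Cfsg.Agent.Lib.Helper15.ZJBridge
import Cfsg.Agent.Lib.Helper53.JCBasic
import Cfsg.Agent.Lib.Helper40.PComp
import Cfsg.Agent.Lib.Helper31.PSolv
import Cfsg.Agent.Lib.Helper53.PRed2

set_option autoImplicit false
set_option linter.unusedSectionVars false

/-! Solvable groups with `F(X) = O₂(X)`: the action of the normal closure of `J(T)` on
the normal closure of `Z(T)`. -/

namespace Cfsg.Agent.Lib.Helper55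

open Cfsg Subgroup
open scoped commutatorElement Pointwise
open Cfsg.Agent.Lib.Helper15.ZJ (AE PE)

variable {X : Type*} [Group X]

theorem centralizer_fitting_le [Finite X] [Group.IsSolvable X] :
    centralizer (fittingSubgroup X : Set X) ≤ fittingSubgroup X := by
  have := Cfsg.Agent.S1264.result (centralizer (fittingSubgroup X : Set X)) le_rfl le_normalizer
    inferInstance
  exact this.trans (map_subtype_le _)

/-- Abelian subgroups of largest order maximize `|B| |C_V(B)|`. -/
theorem maxi_of_AE [Finite X] {T V A : Subgroup X} (hVT : V ≤ T)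
    (hVc : ∀ x ∈ V, ∀ y ∈ V, x * y = y * x) (hA : A ∈ AE 0 T) : Maxi V A := by
  intro B hBA
  set U := V ⊓ centralizer (B : Set X) with hU
  have hBU : ∀ b ∈ B, ∀ u ∈ U, b * u = u * b := fun b hb u hu =>
    mem_centralizer_iff.1 hu.2 b hb
  have hPE : PE 0 (B ⊔ U) := by
    apply Helper15.ZJ.PE_sup (hA.2.1.mono hBA) _ hBU
    exact ⟨fun x hx y hy => hVc x hx.1 y hy.1, fun a _ => pow_zero a⟩
  have h1 : Nat.card ↥(B ⊔ U) ≤ Nat.card ↥A :=
    hA.2.2 _ (sup_le (hBA.trans hA.1) (inf_le_left.trans hVT)) hPE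
  have hBN : B ≤ normalizer (U : Set X) := by
    refine le_trans ?_ (centralizer_le_normalizer _)
    intro b hb
    rw [mem_centralizer_iff]
    intro u hu
    exact (hBU b hb u hu).symm
  have h2 := Helper1.Off.card_sup_mul_card_inf hBN
  have h3 : U ⊓ B ≤ V ⊓ centralizer (A : Set X) := by
    intro x hx
    refine ⟨hx.1.1, ?_⟩
    show x ∈ centralizer (A : Set X)
    rw [mem_centralizer_iff]
    intro a ha
    exact hA.2.1.1 a ha x (hBA hx.2)
  rw [← h2]
  exact Nat.mul_le_mul h1 (card_le_of_le h3)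

section Setup

variable [Finite X] (T : Sylow 2 X)

/-- `Z(T)` -/
abbrev zT : Subgroup X := (T : Subgroup X) ⊓ centralizer ((T : Subgroup X) : Set X)

/-- the largest normal subgroup centralizing `Z(T)` -/
abbrev cT : Subgroup X := (centralizer ((zT T : Subgroup X) : Set X)).normalCore

/-- the normal closure of `Z(T)` -/
abbrev vT : Subgroup X := normalClosure ((zT T : Subgroup X) : Set X)

theorem cT_eq : cT T = centralizer ((vT T : Subgroup X) : Set X) := by
  apply le_antisymm
  · rw [le_centralizer_iff]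
    apply normalClosure_le_normal
    have h1 : cT T ≤ centralizer ((zT T : Subgroup X) : Set X) := normalCore_le _
    exact le_centralizer_iff.1 h1
  · rw [normal_le_normalCore]
    exact centralizer_le subset_normalClosure

theorem le_cT_of_pow {D : Subgroup X} (hD : D.Normal) (h : ∀ d ∈ D, ∃ n : ℕ, d ^ 2 ^ n ∈ cT T) :
    D ≤ cT T := by
  have h1 := Helper15.ZJ.le_sup_sylow T hD inferInstance h
  rw [normal_le_normalCore]
  refine h1.trans (sup_le (normalCore_le _) ?_)
  rw [le_centralizer_iff]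
  exact inf_le_right

/-- `Ω₁` of the normal closure of `Z(T)` -/
abbrev wT : Subgroup X := omegaOne 2 (vT T)

instance wT_normal : (wT T).Normal := by
  rw [← normalizer_eq_top_iff, eq_top_iff]
  have := Helper53.normalizer_le_normalizer_omegaOne 2 (vT T)
  rwa [normalizer_eq_top] at this

section

variable (hc : centralizer (pCore 2 X : Set X) ≤ pCore 2 X)

include hc

theorem vT_le : vT T ≤ pCore 2 X ⊓ centralizer (pCore 2 X : Set X) := by
  have hQn := Helper53.pCore_normal 2 X
  apply normalClosure_le_normal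
  intro z hz
  have hQT : pCore 2 X ≤ T := Helper53.pCore_le_sylow T
  have h1 : z ∈ centralizer (pCore 2 X : Set X) := centralizer_le hQT hz.2
  exact ⟨hc h1, h1⟩

theorem vT_comm : ∀ x ∈ vT T, ∀ y ∈ vT T, x * y = y * x := fun x hx y hy =>
  mem_centralizer_iff.1 (vT_le T hc hy).2 x (vT_le T hc hx).1

theorem vT_le_sylow (T' : Sylow 2 X) : vT T ≤ T' :=
  ((vT_le T hc).trans inf_le_left).trans (Helper53.pCore_le_sylow T')

theorem vT_isPGroup : IsPGroup 2 ↥(vT T) := T.2.to_le (vT_le_sylow T hc T)

theorem wT_elemAb : IsElementaryAbelian 2 (wT T) := by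
  apply Helper53.omegaOne_elemAb
  intro x hx
  rw [mem_centralizer_iff]
  intro y hy
  exact vT_comm T hc y hy x hx

theorem centralizer_wT : centralizer ((wT T : Subgroup X) : Set X) = cT T := by
  apply le_antisymm
  · apply le_cT_of_pow T inferInstance
    intro d hd
    obtain ⟨a, ha⟩ := Helper40.exists_pow_coprime 2 d
    refine ⟨a, ?_⟩
    rw [cT_eq, mem_centralizer_iff]
    intro z hz
    have h1 := Helper1.Off.centralizes_of_centralizes_omega (vT T) (vT_comm T hc)
      (vT_isPGroup T hc) (d ^ 2 ^ a) ha (fun z hz hz2 => by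
        have h2 : d ^ 2 ^ a ∈ centralizer ((wT T : Subgroup X) : Set X) := pow_mem hd _
        have h3 := mem_centralizer_iff.1 h2 z (Helper14.mem_omegaOne hz hz2)
        rw [← h3, mul_inv_cancel_right]) z hz
    exact (mul_inv_eq_iff_eq_mul.1 h1).symm
  · rw [cT_eq]
    exact centralizer_le (Helper14.omegaOne_le 2 _)

theorem noPCore_wT : NoPCore 2 (wT T) := by
  intro D hDn hCD ⟨k, hk⟩
  apply le_antisymm _ hCD
  rw [centralizer_wT T hc] at hCD hk ⊢
  apply le_cT_of_pow T hDn
  intro d hd
  refine ⟨k, ?_⟩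
  have h1 := ((cT T).subgroupOf D).pow_index_mem ⟨d, hd⟩
  rw [mem_subgroupOf] at h1
  rw [← hk]
  exact h1

end

/-- the conjugates of the abelian subgroups of largest order of `T` -/
def sT : Set (Subgroup X) := {A | ∃ g : X, ∃ A₀ ∈ AE 0 (T : Subgroup X), A = cjs g A₀}

/-- the normal closure of `J(T)` -/
abbrev yT : Subgroup X := normalClosure (thompsonSubgroupAOf (T : Subgroup X) : Set X)

theorem yT_eq : yT T = sSup (sT T) := by
  apply le_antisymm
  · have hn : (sSup (sT T)).Normal := by
      constructor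
      intro x hx g
      have h1 : sSup (sT T) ≤ (sSup (sT T)).comap (MulAut.conj g).toMonoidHom := by
        apply sSup_le
        rintro _ ⟨k, A₀, hA₀, rfl⟩
        rw [← map_le_iff_le_comap]
        apply le_sSup
        exact ⟨g * k, A₀, hA₀, Helper53.cj_cj A₀ k g⟩
      exact h1 hx
    apply normalClosure_le_normal
    rw [Helper15.ZJ.thompsonSubgroupAOf_eq, SetLike.coe_subset_coe]
    apply sSup_le
    intro A hA
    apply le_sSup
    refine ⟨1, A, hA, ?_⟩
    ext x
    simp [cjs]
  · apply sSup_le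
    rintro _ ⟨g, A₀, hA₀, rfl⟩
    rintro _ ⟨a, ha, rfl⟩
    have h1 : a ∈ yT T := subset_normalClosure (by
      rw [Helper15.ZJ.thompsonSubgroupAOf_eq]; exact le_sSup hA₀ ha)
    exact normalClosure_normal.conj_mem a h1 g

theorem yT_sup_normalizer :
    yT T ⊔ normalizer (thompsonSubgroupAOf (T : Subgroup X) : Set X) = ⊤ := by
  have h1 := Helper15.ZJ.frattini T (yT T)
  rw [eq_top_iff, ← h1, sup_comm]
  apply sup_le_sup_left
  have hA : ∀ A ∈ AE 0 (T : Subgroup X), A ≤ (T : Subgroup X) ⊓ yT T := by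
    intro A hA
    refine le_inf hA.1 ?_
    intro a ha
    exact subset_normalClosure (by
      rw [Helper15.ZJ.thompsonSubgroupAOf_eq]; exact le_sSup hA ha)
  rw [Helper15.ZJ.thompsonSubgroupAOf_eq, ← Helper15.WS.AE_eq_of_forall_le inf_le_left hA]
  exact Helper15.WS.normalizer_le_normalizer_sSup_AE 0 _

theorem solvJ_main [Group.IsSolvable X] (hF : fittingSubgroup X = pCore 2 X) :
    (cT T ⊔ yT T ⊔ normalizer (thompsonSubgroupAOf (T : Subgroup X) : Set X) = ⊤) ∧
    (yT T ≤ cT T ∨ ∃ n : ℕ, 1 ≤ n ∧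
      Nonempty (↥(yT T) ⧸ (cT T).subgroupOf (yT T) ≃* (Fin n → Equiv.Perm (Fin 3)))) := by
  have hc : centralizer (pCore 2 X : Set X) ≤ pCore 2 X := by
    rw [← hF]; exact centralizer_fitting_le
  constructor
  · rw [sup_assoc, yT_sup_normalizer, sup_top_eq]
  · have key := quotient_equiv_pi_perm (wT T) (Helper31.isPSolvable_of_isSolvable 2 X)
      (wT_elemAb T hc) (noPCore_wT T hc) (yT T) (sT T) (yT_eq T) (by
        rintro _ ⟨g, A₀, hA₀, rfl⟩
        have h1 := Helper53.JC.AE_cj g hA₀
        have hTg : cjs g (T : Subgroup X) = ((g • T : Sylow 2 X) : Subgroup X) := rfl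
        refine ⟨h1.2.1.1, ?_, ?_⟩
        · exact (T.2.map _).to_le h1.1
        · refine maxi_of_AE ?_ ?_ h1
          · have := vT_le_sylow T hc (g • T)
            exact (Helper14.omegaOne_le 2 _).trans this
          · intro x hx y hy
            exact vT_comm T hc x (Helper14.omegaOne_le 2 _ hx) y (Helper14.omegaOne_le 2 _ hy))
      ((cT T).subgroupOf (yT T)) (by rw [centralizer_wT T hc])
    rwa [centralizer_wT T hc] at key

end Setup

end Cfsg.Agent.Lib.Helper55
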