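import Mathlib

set_option autoImplicit false

/-! Finite groups whose Frattini quotient has order `p ^ 2`. -/

namespace Cfsg.Agent.Lib.Helper55

open Subgroup
open scoped commutatorElement

variable {T : Type*} [Group T]

theorem commutator_mem_of_sup_zpowers {R : Subgroup T} [R.Normal] {y : T}
    (h : R ⊔ zpowers y = ⊤) (a b : T) : ⁅a, b⁆ ∈ R := by
  have key : ∀ a : T, ∃ k : ℤ, (QuotientGroup.mk a : T ⧸ R) = (QuotientGroup.mk y : T ⧸ R) ^ k := by
    intro a
    have ha : a ∈ R ⊔ zpowers y := by rw [h]; exact mem_top a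
    rw [sup_comm, mem_sup_of_normal_right] at ha
    obtain ⟨u, hu, r, hr, rfl⟩ := ha
    obtain ⟨k, rfl⟩ := mem_zpowers_iff.1 hu
    refine ⟨k, ?_⟩
    rw [QuotientGroup.mk_mul, (QuotientGroup.eq_one_iff r).2 hr, mul_one, QuotientGroup.mk_zpow]
  obtain ⟨i, hi⟩ := key a
  obtain ⟨j, hj⟩ := key b
  rw [← QuotientGroup.eq_one_iff, commutatorElement_def, QuotientGroup.mk_mul, QuotientGroup.mk_mul,
    QuotientGroup.mk_mul, QuotientGroup.mk_inv, QuotientGroup.mk_inv, hi, hj]
  rw [← zpow_add, ← zpow_neg, ← zpow_add, ← zpow_neg, ← zpow_add]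
  have : i + j + -i + -j = 0 := by ring
  rw [this, zpow_zero]

variable [Finite T] {p : ℕ} [hp : Fact p.Prime]

theorem commutator_mem_frattini (hgen : (frattini T).index = p ^ 2) (a b : T) :
    ⁅a, b⁆ ∈ frattini T := by
  have hc : Nat.card (T ⧸ frattini T) = p ^ 2 := hgen
  have := (IsPGroup.isMulCommutative_of_card_eq_prime_sq hc).is_comm.comm
    (QuotientGroup.mk a) (QuotientGroup.mk b)
  rw [← QuotientGroup.eq_one_iff, commutatorElement_def, QuotientGroup.mk_mul, QuotientGroup.mk_mul,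
    QuotientGroup.mk_mul, QuotientGroup.mk_inv, QuotientGroup.mk_inv, this]
  group

theorem exists_sup_zpowers (hgen : (frattini T).index = p ^ 2) {R : Subgroup T}
    (hR : ¬ R ≤ frattini T) : ∃ y : T, R ⊔ zpowers y = ⊤ := by
  obtain ⟨x, hxR, hx⟩ := SetLike.not_le_iff_exists.1 hR
  have hc : Nat.card (T ⧸ frattini T) = p ^ 2 := hgen
  set π := QuotientGroup.mk' (frattini T) with hπ
  have hx1 : π x ≠ 1 := fun h => hx ((QuotientGroup.eq_one_iff x).1 h)
  -- find `y` with `⟨π x, π y⟩ = ⊤`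
  obtain ⟨y, hy⟩ : ∃ y : T, zpowers (π x) ⊔ zpowers (π y) = ⊤ := by
    by_cases htop : zpowers (π x) = ⊤
    · exact ⟨1, by rw [htop, top_sup_eq]⟩
    · obtain ⟨u, -, hu⟩ := SetLike.exists_of_lt (lt_top_iff_ne_top.2 htop)
      obtain ⟨y, rfl⟩ := QuotientGroup.mk'_surjective (frattini T) u
      refine ⟨y, ?_⟩
      have hlt : zpowers (π x) < zpowers (π x) ⊔ zpowers (π y) := by
        refine lt_of_le_of_ne le_sup_left (fun h => hu ?_)
        rw [h]
        exact (le_sup_right : zpowers (π y) ≤ _) (mem_zpowers _)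
      have h1 : Nat.card ↥(zpowers (π x)) ∣ p ^ 2 := hc ▸ card_subgroup_dvd_card _
      have h2 : Nat.card ↥(zpowers (π x) ⊔ zpowers (π y)) ∣ p ^ 2 := hc ▸ card_subgroup_dvd_card _
      obtain ⟨i, hi, hi'⟩ := (Nat.dvd_prime_pow hp.out).1 h1
      obtain ⟨j, hj, hj'⟩ := (Nat.dvd_prime_pow hp.out).1 h2
      have hi0 : i ≠ 0 := by
        intro h0
        rw [h0, pow_zero, card_eq_one, zpowers_eq_bot] at hi'
        exact hx1 hi'
      have hij : i < j := by
        have h3 : Nat.card ↥(zpowers (π x)) < Nat.card ↥(zpowers (π x) ⊔ zpowers (π y)) := by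
          by_contra hcon
          exact hlt.ne (eq_of_le_of_card_ge hlt.le (not_lt.1 hcon))
        rw [hi', hj'] at h3
        exact (Nat.pow_lt_pow_iff_right hp.out.one_lt).1 h3
      have hj2 : j = 2 := by omega
      apply eq_top_of_card_eq
      rw [hj', hj2, hc]
  refine ⟨y, ?_⟩
  apply frattini_nongenerating
  have h1 : (zpowers x ⊔ zpowers y).map π = ⊤ := by
    rw [Subgroup.map_sup, MonoidHom.map_zpowers, MonoidHom.map_zpowers, hy]
  have h2 : (zpowers x ⊔ zpowers y) ⊔ frattini T = ⊤ := by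
    have := congrArg (Subgroup.comap π) h1
    rw [comap_map_eq, QuotientGroup.ker_mk', comap_top] at this
    exact this
  rw [eq_top_iff, ← h2]
  exact sup_le_sup_right (sup_le_sup_right ((zpowers_le).2 hxR) _) _

end Cfsg.Agent.Lib.Helper55
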