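import Cfsg.Agent.Lib.Helper55.TwoGenF
import Cfsg.Agent.Lib.Helper55.PGrpC

set_option autoImplicit false

/-! Groups with `|P : P'| = p ^ 2` that are not almost simple: an element with small centralizer. -/

namespace Cfsg.Agent.Lib.Helper55

open Cfsg Subgroup
open scoped commutatorElement
open Cfsg.Agent.Lib.Helper30 (cj)

variable {G : Type*} [Group G] [Finite G] {p : ℕ} [hp : Fact p.Prime] {P : Sylow p G}

theorem TwoGenHyp.fitting_comm (h : TwoGenHyp P) :
    ∀ a ∈ fittingSubgroup G, ∀ b ∈ fittingSubgroup G, a * b = b * a := by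
  set Q := fittingSubgroup G with hQ
  have hQn : Q.Normal := Helper28.fitting_normal
  have hQp : IsPGroup p ↥Q := Helper27.fitting_isPGroup_of_pPrimeCore_eq_bot p h.hcore
  have hQP : Q ≤ (P : Subgroup G) := hQp.le_sylow_of_normal P
  have h1 : ⁅Q, Q⁆ ≤ (frattini ↥(P : Subgroup G)).map (P : Subgroup G).subtype := by
    rw [commutator_le]
    intro a ha b hb
    exact ⟨⁅⟨a, hQP ha⟩, ⟨b, hQP hb⟩⁆, commutator_mem_frattini h.hgen _ _, rfl⟩
  have h2 := (normal_le_normalCore (N := ⁅Q, Q⁆)).2 h1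
  rw [h.hfrat, le_bot_iff] at h2
  intro a ha b hb
  have h3 : ⁅a, b⁆ ∈ ⁅Q, Q⁆ := commutator_mem_commutator ha hb
  rw [h2, mem_bot, commutatorElement_eq_one_iff_mul_comm] at h3
  exact h3

/-- The centre of a component lies in the Fitting subgroup. -/
theorem comp_inf_centralizer_le_fitting {K : Subgroup G} (hK : IsComponent K) :
    K ⊓ centralizer (K : Set G) ≤ fittingSubgroup G := by
  refine le_trans ?_ (Helper27.center_layer_le_fitting (G := G))
  intro z hz
  refine ⟨Helper27.comp_le_layer hK hz.1, ?_⟩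
  have h1 : layer G ≤ centralizer ({z} : Set G) := by
    rw [Helper27.layer_le_iff]
    intro L hL
    by_cases hLK : L = K
    · intro x hx
      rw [mem_centralizer_singleton_iff]
      exact mem_centralizer_iff.1 hz.2 x (hLK ▸ hx)
    · have h2 := Helper27.comp_comm_of_ne hL hK hLK
      intro x hx
      rw [mem_centralizer_singleton_iff]
      exact mem_centralizer_iff.1 (commutator_eq_bot_iff_le_centralizer.1 h2 hx) z hz.1 |>.symm
  refine mem_centralizer_iff.2 ?_
  intro x hx
  exact mem_centralizer_singleton_iff.1 (h1 hx)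

theorem isSimpleGroup_of_comp {K : Subgroup G} (hK : IsComponent K)
    (hZ : K ⊓ centralizer (K : Set G) = ⊥) : IsSimpleGroup ↥K := by
  have hnt : Nontrivial ↥K := (nontrivial_iff_ne_bot K).2 (Helper27.qs_ne_bot hK.2)
  refine { toNontrivial := hnt, eq_bot_or_eq_top_of_normal := ?_ }
  intro M hM
  have h1 : M.map K.subtype ≤ K := map_subtype_le M
  have h3 : (M.map K.subtype).subgroupOf K = M :=
    comap_map_eq_self_of_injective K.subtype_injective M
  have h2 : K ≤ normalizer ((M.map K.subtype : Subgroup G) : Set G) := by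
    rw [← normal_subgroupOf_iff_le_normalizer h1, h3]
    exact hM
  rcases Helper27.qs_sub_normal hK.2 h1 h2 with h | h
  · right
    rw [← h3]
    exact (Helper27.subgroupOf_eq_top_iff h1).2 h
  · left
    have h4 : M.map K.subtype ≤ K ⊓ centralizer (K : Set G) :=
      le_inf h1 (commutator_eq_bot_iff_le_centralizer.1 h)
    rw [hZ, le_bot_iff, map_eq_bot_iff_of_injective _ K.subtype_injective] at h4
    exact h4

theorem eq_top_or_le_of_index_prime {T : Type*} [Group T] {A S : Subgroup T} (hA : A.index = p)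
    (hAS : A ≤ S) : S = ⊤ ∨ S ≤ A := by
  have h1 := relIndex_mul_index hAS
  rw [hA] at h1
  rcases (Nat.dvd_prime hp.out).1 (Dvd.intro_left _ h1) with h2 | h2
  · exact Or.inl (index_eq_one.1 h2)
  · right
    rw [h2] at h1
    have h3 : A.relIndex S = 1 := by
      have := Nat.eq_of_mul_eq_mul_right hp.out.pos (h1.trans (one_mul p).symm)
      exact this
    exact relIndex_eq_one.1 h3

/-- The extended hypotheses. -/
structure MaxHyp (P : Sylow p G) : Prop extends TwoGenHyp P where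
  hidx : (commutator ↥(P : Subgroup G)).index = p ^ 2
  hnas : ¬ ∃ S : Subgroup G, S.Normal ∧ IsSimpleGroup S ∧ ¬ IsMulCommutative S ∧
    centralizer (S : Set G) = ⊥

/-- Splitting of `P ∩ E(G)` along a component with trivial centre. -/
theorem exists_split (P : Sylow p G) {K : Subgroup G} (hK : IsComponent K)
    (hZ : K ⊓ centralizer (K : Set G) = ⊥) {a : G} (haP : a ∈ (P : Subgroup G))
    (haE : a ∈ layer G) :
    ∃ k ∈ K, ∃ c ∈ centralizer (K : Set G), k ∈ (P : Subgroup G) ∧ c ∈ (P : Subgroup G) ∧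
      a = k * c := by
  have hle : layer G ≤ K ⊔ centralizer (K : Set G) := by
    rw [Helper27.layer_le_iff]
    intro L hL
    by_cases hLK : L = K
    · rw [hLK]; exact le_sup_left
    · exact (commutator_eq_bot_iff_le_centralizer.1
        (Helper27.comp_comm_of_ne hL hK hLK)).trans le_sup_right
  have hcomm : ∀ k ∈ K, ∀ c ∈ centralizer (K : Set G), k * c = c * k :=
    fun k hk c hc => mem_centralizer_iff.1 hc k hk
  obtain ⟨k, hk, c, hc, hakc⟩ := (Helper14.mem_sup_of_commute hcomm).1 (hle haE)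
  obtain ⟨j, hj⟩ := (IsPGroup.iff_orderOf.1 P.2) ⟨a, haP⟩
  rw [Subgroup.orderOf_mk] at hj
  have hkpow : k ^ p ^ j = 1 := by
    have h1 : a ^ p ^ j = 1 := by rw [← hj]; exact pow_orderOf_eq_one a
    rw [hakc, (show Commute k c from hcomm k hk c hc).mul_pow] at h1
    have h2 : k ^ p ^ j ∈ K ⊓ centralizer (K : Set G) := by
      refine ⟨pow_mem hk _, ?_⟩
      rw [eq_inv_of_mul_eq_one_left h1]
      exact (centralizer (K : Set G)).inv_mem ((centralizer (K : Set G)).pow_mem hc _)
    rwa [hZ, mem_bot] at h2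
  obtain ⟨PK, hPK⟩ := Helper37.exists_sylow_subgroupOf_subnormal P hK.1
  have hconj : ∀ x ∈ K, k * x * k⁻¹ = a * x * a⁻¹ := by
    intro x hx
    have h1 : c * x * c⁻¹ = x := by
      rw [← hcomm x hx c hc]; group
    calc k * x * k⁻¹ = k * (c * x * c⁻¹) * k⁻¹ := by rw [h1]
      _ = a * x * a⁻¹ := by rw [hakc]; group
  have hconj' : ∀ x ∈ K, k⁻¹ * x * k = a⁻¹ * x * a := by
    intro x hx
    have hx' : k⁻¹ * x * k ∈ K := mul_mem (mul_mem (inv_mem hk) hx) hk
    have h1 : c⁻¹ * (k⁻¹ * x * k) * c = k⁻¹ * x * k := by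
      rw [mul_assoc, hcomm _ hx' c hc]; group
    rw [← h1, hakc]; group
  have hkN : (⟨k, hk⟩ : ↥K) ∈ normalizer ((PK : Subgroup ↥K) : Set ↥K) := by
    rw [mem_normalizer_iff]
    intro x
    rw [hPK, mem_subgroupOf, mem_subgroupOf]
    constructor
    · intro hx
      change k * (x : G) * k⁻¹ ∈ (P : Subgroup G)
      rw [hconj _ x.2]
      exact mul_mem (mul_mem haP hx) (inv_mem haP)
    · intro hx
      have hx1 : k * (x : G) * k⁻¹ ∈ (P : Subgroup G) := hx
      have hx2 : k * (x : G) * k⁻¹ ∈ K := mul_mem (mul_mem hk x.2) (inv_mem hk)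
      have h1 := hconj' _ hx2
      have h2 : k⁻¹ * (k * (x : G) * k⁻¹) * k = x := by group
      rw [h2] at h1
      rw [h1]
      exact mul_mem (mul_mem (inv_mem haP) hx1) haP
  have hkp : IsPGroup p ↥(zpowers (⟨k, hk⟩ : ↥K)) :=
    Helper27.isPGroup_zpowers_of_pow_pow_eq_one (k := j) (Subtype.ext hkpow)
  have h3 : (⟨k, hk⟩ : ↥K) ∈ zpowers (⟨k, hk⟩ : ↥K) ⊓ (PK : Subgroup ↥K) := by
    rw [← hkp.inf_normalizer_sylow PK]
    exact ⟨mem_zpowers _, hkN⟩
  have hkP : k ∈ (P : Subgroup G) := by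
    have := h3.2
    rw [hPK] at this
    exact this
  refine ⟨k, hk, c, hc, hkP, ?_, hakc⟩
  have : c = k⁻¹ * a := by rw [hakc]; group
  rw [this]
  exact mul_mem (inv_mem hkP) haP

namespace MaxHyp

theorem exists_moves (h : MaxHyp P) (hF : fittingSubgroup G = ⊥) {K : Subgroup G}
    (hK : IsComponent K) : ∃ x ∈ (P : Subgroup G), cj x K ≠ K := by
  by_contra hcon
  push Not at hcon
  have hall : ∀ L : Subgroup G, IsComponent L → L = K := by
    intro L hL
    obtain ⟨x, hx, rfl⟩ := h.toTwoGenHyp.trans_components hK hL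
    exact hcon x hx
  have hlayer : layer G = K :=
    le_antisymm (Helper27.layer_le_iff.2 (fun L hL => (hall L hL).le)) (Helper27.comp_le_layer hK)
  have hN : generalizedFittingSubgroup G = K := by
    unfold generalizedFittingSubgroup
    rw [hF, sup_bot_eq, hlayer]
  have hKn : K.Normal := hN ▸ Helper28.genFitting_normal
  have hZ : K ⊓ centralizer (K : Set G) = ⊥ :=
    le_bot_iff.1 (hF ▸ comp_inf_centralizer_le_fitting hK)
  apply h.hnas
  refine ⟨K, hKn, isSimpleGroup_of_comp hK hZ, ?_, ?_⟩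
  · intro hc
    apply Helper27.qs_comm_self_ne_bot hK.2
    rw [commutator_eq_bot_iff_le_centralizer]
    intro a ha
    rw [mem_centralizer_iff]
    intro b hb
    exact congrArg Subtype.val (hc.is_comm.comm ⟨b, hb⟩ ⟨a, ha⟩)
  · have h1 := Helper28.centralizer_genFitting_le (G := G)
    rw [hN] at h1
    rw [eq_bot_iff]
    intro z hz
    have h2 : z ∈ K ⊓ centralizer (K : Set G) := ⟨h1 hz, hz⟩
    rwa [hZ] at h2

theorem genFitting_eq_layer (hF : fittingSubgroup G = ⊥) :
    generalizedFittingSubgroup G = layer G := by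
  unfold generalizedFittingSubgroup
  rw [hF, sup_bot_eq]

theorem exists_comp (h : MaxHyp P) (hF : fittingSubgroup G = ⊥) :
    ∃ K : Subgroup G, IsComponent K := by
  by_contra hcon
  push Not at hcon
  apply h.toTwoGenHyp.genFitting_ne_bot
  rw [genFitting_eq_layer hF, eq_bot_iff, Helper27.layer_le_iff]
  intro L hL
  exact absurd hL (hcon L)

theorem not_le (h : MaxHyp P) : ¬ (P : Subgroup G) ≤ generalizedFittingSubgroup G := by
  intro hPN
  by_cases hF : fittingSubgroup G = ⊥
  · obtain ⟨K, hK⟩ := h.exists_comp hF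
    obtain ⟨x, hx, hne⟩ := h.exists_moves hF hK
    apply hne
    apply Helper30.cj_eq_of_mem_normalizer
    have h1 := hPN hx
    rw [genFitting_eq_layer hF] at h1
    exact Helper27.layer_le_normalizer_comp hK h1
  · have hn : (fittingSubgroup G).Normal := Helper28.fitting_normal
    have hle := h.toTwoGenHyp.genFitting_le hF
    apply h.hna
    exact ⟨⟨fun a b => Subtype.ext
      (h.toTwoGenHyp.fitting_comm _ (hle (hPN a.2)) _ (hle (hPN b.2)))⟩⟩

theorem commutator_le_subgroupOf (h : MaxHyp P) :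
    commutator ↥(P : Subgroup G) ≤
      (generalizedFittingSubgroup G).subgroupOf (P : Subgroup G) := by
  have hn : (generalizedFittingSubgroup G).Normal := Helper28.genFitting_normal
  rw [commutator_def, commutator_le]
  intro a _ b _
  exact h.toTwoGenHyp.comm_mem h.toTwoGenHyp.genFitting_ne_bot a.2 b.2

theorem index_eq (h : MaxHyp P) :
    (commutator ↥(P : Subgroup G)).relIndex
        ((generalizedFittingSubgroup G).subgroupOf (P : Subgroup G)) = p ∧
      ((generalizedFittingSubgroup G).subgroupOf (P : Subgroup G)).index = p := by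
  have hn : (generalizedFittingSubgroup G).Normal := Helper28.genFitting_normal
  have h1 := relIndex_mul_index h.commutator_le_subgroupOf
  rw [h.hidx] at h1
  refine (Nat.Prime.mul_eq_prime_sq_iff hp.out ?_ ?_).1 h1
  · intro h2
    apply twoGen_not_le_frattini P h.hcore h.hfrat h.toTwoGenHyp.genFitting_ne_bot
    exact (relIndex_eq_one.1 h2).trans (Helper3.commutator_le_frattini P.2)
  · intro h2
    exact h.not_le (subgroupOf_eq_top.1 (index_eq_one.1 h2))

theorem sup_zpowers_eq_top (h : MaxHyp P) {y : ↥(P : Subgroup G)}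
    (hy : (y : G) ∉ generalizedFittingSubgroup G) :
    (generalizedFittingSubgroup G).subgroupOf (P : Subgroup G) ⊔ zpowers y = ⊤ := by
  rcases eq_top_or_le_of_index_prime h.index_eq.2
    (le_sup_left : _ ≤ (generalizedFittingSubgroup G).subgroupOf (P : Subgroup G) ⊔ zpowers y)
    with h1 | h1
  · exact h1
  · exact absurd (h1 (mem_sup_right (mem_zpowers y))) hy

theorem cj_ne (h : MaxHyp P) (hF : fittingSubgroup G = ⊥) {K : Subgroup G}
    (hK : IsComponent K) {g : G} (hg : g ∈ (P : Subgroup G))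
    (hgN : g ∉ generalizedFittingSubgroup G) : cj g K ≠ K := by
  intro hcj
  have hle : (generalizedFittingSubgroup G).subgroupOf (P : Subgroup G) ≤
      (normalizer (K : Set G)).subgroupOf (P : Subgroup G) := by
    intro x hx
    have hx' : (x : G) ∈ generalizedFittingSubgroup G := hx
    rw [genFitting_eq_layer hF] at hx'
    exact Helper27.layer_le_normalizer_comp hK hx'
  rcases eq_top_or_le_of_index_prime h.index_eq.2 hle with h1 | h1
  · obtain ⟨x, hx, hne⟩ := h.exists_moves hF hK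
    apply hne
    apply Helper30.cj_eq_of_mem_normalizer
    exact subgroupOf_eq_top.1 h1 hx
  · apply hgN
    have h2 : (⟨g, hg⟩ : ↥(P : Subgroup G)) ∈ (normalizer (K : Set G)).subgroupOf (P : Subgroup G) :=
      Helper30.mem_normalizer_of_cj_eq hcj
    exact h1 h2

theorem pow_mem (h : MaxHyp P) {g : G} (hg : g ∈ (P : Subgroup G)) :
    g ^ p ∈ generalizedFittingSubgroup G := by
  have hn : (generalizedFittingSubgroup G).Normal := Helper28.genFitting_normal
  have h1 := pow_index_mem ((generalizedFittingSubgroup G).subgroupOf (P : Subgroup G)) ⟨g, hg⟩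
  rw [h.index_eq.2] at h1
  exact h1

theorem pow_not_mem (h : MaxHyp P) {y : G} (hy : y ∈ (P : Subgroup G))
    (hyN : y ∉ generalizedFittingSubgroup G) {k : ℕ} (hk1 : 1 ≤ k) (hkp : k < p) :
    y ^ k ∉ generalizedFittingSubgroup G := by
  intro hk
  apply hyN
  have hc : Nat.Coprime k p :=
    ((Nat.Prime.coprime_iff_not_dvd hp.out).2 (Nat.not_dvd_of_pos_of_lt hk1 hkp)).symm
  obtain ⟨u, v, huv⟩ := Nat.isCoprime_iff_coprime.2 hc
  have h1 : y = (y ^ k) ^ u * (y ^ p) ^ v := by
    rw [← zpow_natCast y k, ← zpow_natCast y p, ← zpow_mul', ← zpow_mul', ← zpow_add, huv, zpow_one]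
  rw [h1]
  exact mul_mem (zpow_mem hk u) (zpow_mem (h.pow_mem hy) v)

theorem comm_mem_centralizer (h : MaxHyp P) (hF : fittingSubgroup G = ⊥) {K : Subgroup G}
    (hK : IsComponent K) {a b : G} (haP : a ∈ (P : Subgroup G))
    (haN : a ∈ generalizedFittingSubgroup G) (hbP : b ∈ (P : Subgroup G))
    (hbN : b ∈ generalizedFittingSubgroup G) : ⁅a, b⁆ ∈ centralizer (K : Set G) := by
  have hn : (generalizedFittingSubgroup G).Normal := Helper28.genFitting_normal
  have hZ : K ⊓ centralizer (K : Set G) = ⊥ :=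
    le_bot_iff.1 (hF ▸ comp_inf_centralizer_le_fitting hK)
  obtain ⟨y, hyP, hyN⟩ := SetLike.not_le_iff_exists.1 h.not_le
  have hKN : K ≤ generalizedFittingSubgroup G :=
    (Helper27.comp_le_layer hK).trans Helper28.layer_le_genFitting
  set A : Subgroup ↥(P : Subgroup G) :=
    (generalizedFittingSubgroup G).subgroupOf (P : Subgroup G) with hA
  set R : Subgroup ↥(P : Subgroup G) := K.subgroupOf (P : Subgroup G) with hR
  set A₂ : Subgroup ↥(P : Subgroup G) :=
    (generalizedFittingSubgroup G ⊓ centralizer (K : Set G)).subgroupOf (P : Subgroup G) with hA₂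
  have hAy := h.sup_zpowers_eq_top (y := ⟨y, hyP⟩) hyN
  have hcomm : ∀ r ∈ R, ∀ s ∈ A₂, r * s = s * r := by
    intro r hr s hs
    exact Subtype.ext (mem_centralizer_iff.1 (mem_subgroupOf.1 hs).2 r hr)
  have hprod : ∀ a ∈ A, ∃ r ∈ R, ∃ s ∈ A₂, a = r * s := by
    intro a ha
    have ha' : (a : G) ∈ generalizedFittingSubgroup G := ha
    have ha'' := ha'
    rw [genFitting_eq_layer hF] at ha''
    obtain ⟨k, hk, c, hc, hkP, hcP, hakc⟩ := exists_split P hK hZ a.2 ha''
    refine ⟨⟨k, hkP⟩, hk, ⟨c, hcP⟩, ?_, Subtype.ext hakc⟩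
    refine mem_subgroupOf.2 ⟨?_, hc⟩
    have : c = k⁻¹ * a := by rw [hakc]; group
    change c ∈ generalizedFittingSubgroup G
    rw [this]
    exact mul_mem (inv_mem (hKN hk)) ha'
  have hW : (commutator ↥R).index ≤ Nat.card ↥(delAb A (⟨y, hyP⟩ : ↥(P : Subgroup G))).ker := by
    apply index_commutator_le_of_wreath (n := p) (A₂ := A₂)
    · intro r hr
      exact hKN hr
    · intro s hs
      exact (mem_subgroupOf.1 hs).1
    · exact hcomm
    · rw [eq_bot_iff]
      intro x hx
      have h1 : (x : G) ∈ K ⊓ centralizer (K : Set G) := ⟨hx.1, (mem_subgroupOf.1 hx.2).2⟩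
      rw [hZ, mem_bot] at h1
      exact Subtype.ext h1
    · exact hprod
    · intro k hk1 hkp r hr
      have hne := h.cj_ne hF hK ((P : Subgroup G).pow_mem hyP k) (h.pow_not_mem hyP hyN hk1 hkp)
      have hcomp : IsComponent (cj (y ^ k) K) := Helper27.comp_conj hK _
      have hmem : y ^ k * (r : G) * (y ^ k)⁻¹ ∈ cj (y ^ k) K := Helper30.conj_mem_cj hr
      refine mem_subgroupOf.2 ⟨?_, ?_⟩
      · exact Helper28.layer_le_genFitting (Helper27.comp_le_layer hcomp hmem)
      · exact commutator_eq_bot_iff_le_centralizer.1 (Helper27.comp_comm_of_ne hcomp hK hne) hmem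
    · intro g
      exact h.pow_mem g.2
    · exact hp.out.one_le
  have hker : Nat.card ↥(delAb A (⟨y, hyP⟩ : ↥(P : Subgroup G))).ker ∣ p := by
    have := card_ker_delAb_dvd hAy
    rwa [h.index_eq.1] at this
  have hRp : IsPGroup p ↥R := P.2.to_subgroup R
  have hRcomm : ∀ u v : ↥R, u * v = v * u := by
    apply comm_of_commutator_index_dvd hRp
    obtain ⟨j, hj⟩ := hRp.index (commutator ↥R)
    have h1 : p ^ j ≤ p := hj ▸ hW.trans (Nat.le_of_dvd hp.out.pos hker)
    have h2 : j ≤ 1 := by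
      by_contra hcon
      have h3 : p ^ 2 ≤ p ^ j := Nat.pow_le_pow_right hp.out.pos (by omega)
      have h4 : p < p ^ 2 := by
        have := hp.out.one_lt
        nlinarith
      omega
    rw [hj]
    exact (pow_dvd_pow p h2).trans (by rw [pow_one])
  obtain ⟨r₁, hr₁, s₁, hs₁, h1⟩ := hprod ⟨a, haP⟩ haN
  obtain ⟨r₂, hr₂, s₂, hs₂, h2⟩ := hprod ⟨b, hbP⟩ hbN
  have h3 := comm_mul_mul hcomm hr₁ hr₂ hs₁ hs₂
  rw [← h1, ← h2] at h3
  have h4 : ⁅r₁, r₂⁆ = 1 := by
    rw [commutatorElement_eq_one_iff_mul_comm]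
    exact congrArg Subtype.val (hRcomm ⟨r₁, hr₁⟩ ⟨r₂, hr₂⟩)
  rw [h4, one_mul] at h3
  have h5 : ⁅s₁, s₂⁆ ∈ A₂ := (⁅(⟨s₁, hs₁⟩ : ↥A₂), ⟨s₂, hs₂⟩⁆ : ↥A₂).2
  rw [← h3] at h5
  exact (mem_subgroupOf.1 h5).2

theorem inf_comm (h : MaxHyp P) {a b : G} (haP : a ∈ (P : Subgroup G))
    (haN : a ∈ generalizedFittingSubgroup G) (hbP : b ∈ (P : Subgroup G))
    (hbN : b ∈ generalizedFittingSubgroup G) : a * b = b * a := by
  by_cases hF : fittingSubgroup G = ⊥
  · have hn : (generalizedFittingSubgroup G).Normal := Helper28.genFitting_normal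
    have h1 : ⁅a, b⁆ ∈ layer G ⊓ centralizer (layer G : Set G) := by
      refine ⟨?_, ?_⟩
      · rw [← genFitting_eq_layer hF]
        exact (⁅(⟨a, haN⟩ : ↥(generalizedFittingSubgroup G)), ⟨b, hbN⟩⁆ :
          ↥(generalizedFittingSubgroup G)).2
      · have h2 : layer G ≤ centralizer ({⁅a, b⁆} : Set G) := by
          rw [Helper27.layer_le_iff]
          intro L hL x hx
          rw [mem_centralizer_singleton_iff]
          exact (mem_centralizer_iff.1 (h.comm_mem_centralizer hF hL haP haN hbP hbN) x hx)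
        refine mem_centralizer_iff.2 ?_
        intro x hx
        exact mem_centralizer_singleton_iff.1 (h2 hx)
    have h3 := Helper27.center_layer_le_fitting h1
    rw [hF, mem_bot, commutatorElement_eq_one_iff_mul_comm] at h3
    exact h3
  · have hn : (fittingSubgroup G).Normal := Helper28.fitting_normal
    have hle := h.toTwoGenHyp.genFitting_le hF
    exact h.toTwoGenHyp.fitting_comm _ (hle haN) _ (hle hbN)

theorem card_centralizer_le (h : MaxHyp P) {y : ↥(P : Subgroup G)}
    (hy : (y : G) ∉ generalizedFittingSubgroup G) :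
    Nat.card ↥(centralizer ({y} : Set ↥(P : Subgroup G))) ≤ p ^ 2 := by
  have hn : (generalizedFittingSubgroup G).Normal := Helper28.genFitting_normal
  set A : Subgroup ↥(P : Subgroup G) :=
    (generalizedFittingSubgroup G).subgroupOf (P : Subgroup G) with hA
  set C := centralizer ({y} : Set ↥(P : Subgroup G)) with hC
  have hAy := h.sup_zpowers_eq_top hy
  have hker : Nat.card ↥(delAb A y).ker ∣ p := by
    have := card_ker_delAb_dvd hAy
    rwa [h.index_eq.1] at this
  have h1 : Nat.card ↥(A ⊓ C) ≤ p :=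
    (card_inf_centralizer_le (fun a ha b hb => Subtype.ext (h.inf_comm a.2 ha b.2 hb))).trans
      (Nat.le_of_dvd hp.out.pos hker)
  have h2 : A.relIndex C ≤ p := by
    have := relIndex_dvd_index_of_normal A C
    rw [h.index_eq.2] at this
    exact Nat.le_of_dvd hp.out.pos this
  have h3 : Nat.card ↥(A.subgroupOf C) = Nat.card ↥(A ⊓ C) := by
    rw [← inf_subgroupOf_right]
    exact Nat.card_congr (subgroupOfEquivOfLe (inf_le_right : A ⊓ C ≤ C)).toEquiv
  have h4 := (A.subgroupOf C).card_mul_index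
  rw [h3] at h4
  rw [← h4, pow_two]
  exact Nat.mul_le_mul h1 h2

theorem card_centralizer_eq (h : MaxHyp P) {y : ↥(P : Subgroup G)}
    (hy : (y : G) ∉ generalizedFittingSubgroup G) :
    Nat.card ↥(centralizer ({y} : Set ↥(P : Subgroup G))) = p ^ 2 :=
  le_antisymm (h.card_centralizer_le hy) (h.hidx ▸ index_commutator_le_card_centralizer y)

theorem exists_elt (h : MaxHyp P) : ∃ x : G, (∃ k : ℕ, orderOf x = p ^ k) ∧
    (Nat.card ↥(centralizer ({x} : Set G))).factorization p = 2 := by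
  have hn : (generalizedFittingSubgroup G).Normal := Helper28.genFitting_normal
  obtain ⟨y, hyP, hyN⟩ := SetLike.not_le_iff_exists.1 h.not_le
  refine ⟨y, ?_, ?_⟩
  · obtain ⟨j, hj⟩ := (IsPGroup.iff_orderOf.1 P.2) ⟨y, hyP⟩
    rw [Subgroup.orderOf_mk] at hj
    exact ⟨j, hj⟩
  set C := centralizer ({y} : Set G) with hC
  have hlow : p ^ 2 ∣ Nat.card ↥C := by
    have h1 : (centralizer ({(⟨y, hyP⟩ : ↥(P : Subgroup G))} : Set ↥(P : Subgroup G))).map
        (P : Subgroup G).subtype ≤ C := by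
      rintro _ ⟨c, hc, rfl⟩
      rw [hC, mem_centralizer_singleton_iff]
      exact congrArg Subtype.val (mem_centralizer_singleton_iff.1 hc)
    have h2 := card_dvd_of_le h1
    rwa [card_subtype, h.card_centralizer_eq (y := ⟨y, hyP⟩) hyN] at h2
  obtain ⟨R⟩ : Nonempty (Sylow p ↥C) := inferInstance
  have hyC : y ∈ C := mem_centralizer_singleton_iff.2 rfl
  have hyR : (⟨y, hyC⟩ : ↥C) ∈ (R : Subgroup ↥C) := by
    have hnorm : (zpowers (⟨y, hyC⟩ : ↥C)).Normal := by
      refine ⟨fun n hn g => ?_⟩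
      obtain ⟨k, rfl⟩ := mem_zpowers_iff.1 hn
      have h1 : Commute g (⟨y, hyC⟩ : ↥C) := Subtype.ext (mem_centralizer_singleton_iff.1 g.2)
      have h2 : g * (⟨y, hyC⟩ : ↥C) ^ k * g⁻¹ = (⟨y, hyC⟩ : ↥C) ^ k := by
        rw [(h1.zpow_right k).eq]; group
      rw [h2]
      exact zpow_mem (mem_zpowers _) k
    obtain ⟨j, hj⟩ := (IsPGroup.iff_orderOf.1 P.2) ⟨y, hyP⟩
    rw [Subgroup.orderOf_mk] at hj
    have hpg : IsPGroup p ↥(zpowers (⟨y, hyC⟩ : ↥C)) :=
      Helper27.isPGroup_zpowers_of_pow_pow_eq_one (k := j)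
        (Subtype.ext (by rw [← hj]; exact pow_orderOf_eq_one y))
    exact hpg.le_sylow_of_normal R (mem_zpowers _)
  have hRG : IsPGroup p ↥((R : Subgroup ↥C).map C.subtype) := R.2.map _
  obtain ⟨Q, hQ⟩ := hRG.exists_le_sylow
  obtain ⟨g, hg⟩ := MulAction.exists_smul_eq G Q P
  have hconj : ∀ r ∈ (Q : Subgroup G), g * r * g⁻¹ ∈ (P : Subgroup G) := by
    intro r hr
    rw [← hg, Sylow.coe_subgroup_smul]
    exact ⟨r, hr, rfl⟩
  have hyQ : y ∈ (Q : Subgroup G) := hQ ⟨⟨y, hyC⟩, hyR, rfl⟩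
  have hy'N : g * y * g⁻¹ ∉ generalizedFittingSubgroup G := by
    intro hcon
    apply hyN
    have := hn.conj_mem _ hcon g⁻¹
    have h2 : g⁻¹ * (g * y * g⁻¹) * g⁻¹⁻¹ = y := by group
    rwa [h2] at this
  have hup : Nat.card ↥(R : Subgroup ↥C) ≤ p ^ 2 := by
    refine le_trans ?_ (h.card_centralizer_le (y := ⟨g * y * g⁻¹, hconj y hyQ⟩) hy'N)
    have hmem : ∀ r : ↥(R : Subgroup ↥C), (⟨g * (r.1.1 : G) * g⁻¹,
        hconj _ (hQ ⟨r.1, r.2, rfl⟩)⟩ : ↥(P : Subgroup G)) ∈
        centralizer ({(⟨g * y * g⁻¹, hconj y hyQ⟩ : ↥(P : Subgroup G))} :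
          Set ↥(P : Subgroup G)) := by
      intro r
      rw [mem_centralizer_singleton_iff]
      apply Subtype.ext
      have h1 : (r.1.1 : G) * y = y * r.1.1 := mem_centralizer_singleton_iff.1 r.1.2
      change g * (r.1.1 : G) * g⁻¹ * (g * y * g⁻¹) = g * y * g⁻¹ * (g * (r.1.1 : G) * g⁻¹)
      calc g * (r.1.1 : G) * g⁻¹ * (g * y * g⁻¹) = g * ((r.1.1 : G) * y) * g⁻¹ := by group
        _ = g * (y * (r.1.1 : G)) * g⁻¹ := by rw [h1]
        _ = _ := by group
    apply Nat.card_le_card_of_injective (fun r => (⟨_, hmem r⟩ :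
      ↥(centralizer ({(⟨g * y * g⁻¹, hconj y hyQ⟩ : ↥(P : Subgroup G))} :
          Set ↥(P : Subgroup G)))))
    intro r r' hrr
    have h1 : g * (r.1.1 : G) * g⁻¹ = g * (r'.1.1 : G) * g⁻¹ :=
      congrArg (fun t : ↥(centralizer ({(⟨g * y * g⁻¹, hconj y hyQ⟩ : ↥(P : Subgroup G))} :
          Set ↥(P : Subgroup G))) => (t.1.1 : G)) hrr
    exact Subtype.ext (Subtype.ext (mul_left_cancel (mul_right_cancel h1)))
  rw [R.card_eq_multiplicity] at hup
  have h1 : (Nat.card ↥C).factorization p ≤ 2 :=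
    (Nat.pow_le_pow_iff_right hp.out.one_lt).1 hup
  have h2 : 2 ≤ (Nat.card ↥C).factorization p :=
    (hp.out.pow_dvd_iff_le_factorization Nat.card_pos.ne').1 hlow
  omega

end MaxHyp

theorem commutator_subgroupOf_self (H : Subgroup G) : ⁅H, H⁆.subgroupOf H = commutator ↥H := by
  rw [← map_subtype_commutator, subgroupOf, comap_map_eq_self_of_injective H.subtype_injective]

theorem commutator_eq_bot_of_comm {T : Type*} [Group T] (h : ∀ a b : T, a * b = b * a) :
    commutator T = ⊥ := by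
  rw [eq_bot_iff, commutator_def, commutator_le]
  intro a _ b _
  rw [mem_bot, commutatorElement_eq_one_iff_mul_comm]
  exact h a b

theorem index_commutator_of_elt (P : Sylow p G) (hbig : p ^ 2 ∣ Nat.card G) {x : G}
    (hx : ∃ k : ℕ, orderOf x = p ^ k)
    (hc : (Nat.card ↥(centralizer ({x} : Set G))).factorization p = 2) :
    (commutator ↥(P : Subgroup G)).index = p ^ 2 := by
  obtain ⟨k, hk⟩ := hx
  have hxp : IsPGroup p ↥(zpowers x) :=
    Helper27.isPGroup_zpowers_of_pow_pow_eq_one (k := k) (by rw [← hk]; exact pow_orderOf_eq_one x)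
  obtain ⟨Q, hQ⟩ := hxp.exists_le_sylow
  obtain ⟨g, hg⟩ := MulAction.exists_smul_eq G Q P
  have hx'P : g * x * g⁻¹ ∈ (P : Subgroup G) := by
    rw [← hg, Sylow.coe_subgroup_smul]
    exact ⟨x, hQ (mem_zpowers x), rfl⟩
  set C := centralizer ({(⟨g * x * g⁻¹, hx'P⟩ : ↥(P : Subgroup G))} : Set ↥(P : Subgroup G))
    with hC
  have hmem : ∀ c : ↥C, g⁻¹ * (c.1.1 : G) * g ∈ centralizer ({x} : Set G) := by
    intro c
    rw [mem_centralizer_singleton_iff]
    have h1 : (c.1.1 : G) * (g * x * g⁻¹) = g * x * g⁻¹ * c.1.1 :=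
      congrArg Subtype.val (mem_centralizer_singleton_iff.1 c.2)
    calc g⁻¹ * (c.1.1 : G) * g * x = g⁻¹ * ((c.1.1 : G) * (g * x * g⁻¹)) * g := by group
      _ = g⁻¹ * (g * x * g⁻¹ * c.1.1) * g := by rw [h1]
      _ = _ := by group
  let φ : ↥C →* ↥(centralizer ({x} : Set G)) :=
    { toFun := fun c => ⟨g⁻¹ * (c.1.1 : G) * g, hmem c⟩
      map_one' := Subtype.ext (by simp)
      map_mul' := fun a b => Subtype.ext (by
        change g⁻¹ * ((a.1.1 : G) * b.1.1) * g = g⁻¹ * (a.1.1 : G) * g * (g⁻¹ * (b.1.1 : G) * g)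
        group) }
  have hφ : Function.Injective φ := by
    intro a b hab
    have h1 : g⁻¹ * (a.1.1 : G) * g = g⁻¹ * (b.1.1 : G) * g := congrArg Subtype.val hab
    exact Subtype.ext (Subtype.ext (mul_left_cancel (mul_right_cancel h1)))
  have hdvd := card_dvd_of_injective φ hφ
  obtain ⟨i, hi⟩ := IsPGroup.iff_card.1 (P.2.to_subgroup C)
  rw [hi] at hdvd
  have hi2 : i ≤ 2 := hc ▸ (hp.out.pow_dvd_iff_le_factorization Nat.card_pos.ne').1 hdvd
  have h1 := index_commutator_le_card_centralizer (⟨g * x * g⁻¹, hx'P⟩ : ↥(P : Subgroup G))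
  rw [← hC, hi] at h1
  obtain ⟨j, hj⟩ := P.2.index (commutator ↥(P : Subgroup G))
  have hj2 : j ≤ 2 := by
    rw [hj] at h1
    exact ((Nat.pow_le_pow_iff_right hp.out.one_lt).1 h1).trans hi2
  have hj2' : 2 ≤ j := by
    by_contra hcon
    have h2 : (commutator ↥(P : Subgroup G)).index ∣ p := by
      rw [hj]
      exact (pow_dvd_pow p (by omega : j ≤ 1)).trans (by rw [pow_one])
    have h3 := commutator_eq_bot_of_comm (comm_of_commutator_index_dvd P.2 h2)
    rw [h3, index_bot, P.card_eq_multiplicity] at hj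
    have h4 : 2 ≤ (Nat.card G).factorization p :=
      (hp.out.pow_dvd_iff_le_factorization Nat.card_pos.ne').1 hbig
    have h5 := Nat.pow_right_injective hp.out.two_le hj
    omega
  rw [hj, le_antisymm hj2 hj2']

end Cfsg.Agent.Lib.Helper55
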