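import Cfsg.Agent.Lib.Helper55.TwoGen
import Cfsg.Agent.Lib.Helper55.IsoRank2
import Cfsg.Agent.Lib.Helper27.OrbitProd
import Cfsg.Agent.Lib.Helper27.FStar
import Cfsg.Agent.Lib.Helper27.LBalance
import Cfsg.Agent.Lib.Helper28.BigSub
import Cfsg.Agent.Lib.Helper37.Trace
import Cfsg.Agent.S0081
import Cfsg.Agent.S0088

set_option autoImplicit false

/-! Groups with a two-generated nonabelian Sylow subgroup whose Frattini subgroup is core-free. -/

namespace Cfsg.Agent.Lib.Helper55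

open Cfsg Subgroup
open scoped commutatorElement

variable {G : Type*} [Group G] [Finite G] {p : ℕ} [hp : Fact p.Prime]

/-- Claim A. -/
theorem twoGen_not_le_frattini (P : Sylow p G) (hcore : pPrimeCore p G = ⊥)
    (hfrat : ((frattini ↥(P : Subgroup G)).map (P : Subgroup G).subtype).normalCore = ⊥)
    {N : Subgroup G} [hNn : N.Normal] (hN : N ≠ ⊥) :
    ¬ N.subgroupOf (P : Subgroup G) ≤ frattini ↥(P : Subgroup G) := by
  intro h
  have h' : N ⊓ (P : Subgroup G) ≤ (frattini ↥(P : Subgroup G)).map (P : Subgroup G).subtype := by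
    intro x hx
    exact ⟨⟨x, hx.2⟩, h (mem_subgroupOf.2 hx.1), rfl⟩
  obtain ⟨P', U, hUn, hc⟩ := Cfsg.Agent.S0081.result P N h'
  have hUc : (Nat.card ↥U).Coprime p := by
    rw [← hc.index_eq_card]
    exact ((Nat.Prime.coprime_iff_not_dvd hp.out).2 P'.not_dvd_index).symm
  have hsn : (U.map N.subtype).IsSubnormal := hUn.isSubnormal.trans' hNn.isSubnormal
  have hle := Helper28.subnormal_le_pPrimeCore (p := p) hsn (by rwa [card_subtype])
  rw [hcore, le_bot_iff, map_eq_bot_iff_of_injective _ N.subtype_injective] at hle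
  have htop : (P' : Subgroup ↥N) = ⊤ := by
    have := hc.sup_eq_top
    rwa [hle, bot_sup_eq] at this
  have hNp : IsPGroup p ↥N := by
    have h1 := P'.2
    rw [htop] at h1
    exact h1.of_equiv topEquiv
  have hNP : N ≤ (P : Subgroup G) := hNp.le_sylow_of_normal P
  have h2 : N ≤ (frattini ↥(P : Subgroup G)).map (P : Subgroup G).subtype :=
    (le_inf le_rfl hNP).trans h'
  have h3 := (normal_le_normalCore (N := N)).2 h2
  rw [hfrat, le_bot_iff] at h3
  exact hN h3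

theorem twoGen_exists_gen (P : Sylow p G) (hgen : (frattini ↥(P : Subgroup G)).index = p ^ 2)
    {M : Subgroup G} (hPM : (P : Subgroup G) ≤ normalizer (M : Set G))
    (hM : ¬ M.subgroupOf (P : Subgroup G) ≤ frattini ↥(P : Subgroup G)) :
    ∃ y ∈ (P : Subgroup G), ∀ a ∈ (P : Subgroup G), ∃ n ∈ M, ∃ k : ℤ, a = n * y ^ k := by
  have hn : (M.subgroupOf (P : Subgroup G)).Normal := normal_subgroupOf_of_le_normalizer hPM
  obtain ⟨y, hy⟩ := exists_sup_zpowers hgen hM
  refine ⟨y, y.2, fun a ha => ?_⟩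
  have h1 : (⟨a, ha⟩ : ↥(P : Subgroup G)) ∈ M.subgroupOf (P : Subgroup G) ⊔ zpowers y := by
    rw [hy]; exact mem_top _
  rw [mem_sup_of_normal_left] at h1
  obtain ⟨n, hn', z, hz, hnz⟩ := h1
  obtain ⟨k, rfl⟩ := mem_zpowers_iff.1 hz
  refine ⟨n, hn', k, ?_⟩
  have := congrArg (fun t : ↥(P : Subgroup G) => (t : G)) hnz
  simpa using this.symm

theorem twoGen_comm_mem (P : Sylow p G) (hgen : (frattini ↥(P : Subgroup G)).index = p ^ 2)
    {M : Subgroup G} (hPM : (P : Subgroup G) ≤ normalizer (M : Set G))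
    (hM : ¬ M.subgroupOf (P : Subgroup G) ≤ frattini ↥(P : Subgroup G))
    {a b : G} (ha : a ∈ (P : Subgroup G)) (hb : b ∈ (P : Subgroup G)) : ⁅a, b⁆ ∈ M := by
  have hn : (M.subgroupOf (P : Subgroup G)).Normal := normal_subgroupOf_of_le_normalizer hPM
  obtain ⟨y, hy⟩ := exists_sup_zpowers hgen hM
  exact commutator_mem_of_sup_zpowers hy ⟨a, ha⟩ ⟨b, hb⟩

/-- A non-commutative subgroup has a nontrivial commutator. -/
theorem exists_comm_ne_one {H : Subgroup G} (h : ¬ IsMulCommutative ↥H) :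
    ∃ a ∈ H, ∃ b ∈ H, ⁅a, b⁆ ≠ 1 := by
  by_contra hcon
  push Not at hcon
  apply h
  refine ⟨⟨fun a b => Subtype.ext ?_⟩⟩
  have := hcon a a.2 b b.2
  rw [commutatorElement_eq_one_iff_mul_comm] at this
  exact this

/-- Relative form of Tate's theorem for perfect subgroups. -/
theorem tate_rel (P : Sylow p G) {M : Subgroup G}
    (hPM : (P : Subgroup G) ≤ normalizer (M : Set G)) (hperf : ⁅M, M⁆ = M)
    (h : M.subgroupOf (P : Subgroup G) ≤ frattini ↥(P : Subgroup G)) :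
    M ⊓ (P : Subgroup G) = ⊥ := by
  set X : Subgroup G := M ⊔ (P : Subgroup G) with hX
  have hMX : M ≤ X := le_sup_left
  have hPX : (P : Subgroup G) ≤ X := le_sup_right
  have hn : (M.subgroupOf X).Normal :=
    (normal_subgroupOf_iff_le_normalizer hMX).2 (sup_le le_normalizer hPM)
  have hperf1 : Group.IsPerfect ↥M := (Subgroup.isPerfect_iff).2 hperf
  have hperf2 : Group.IsPerfect ↥(M.subgroupOf X) :=
    Group.IsPerfect.ofSurjective (f := (subgroupOfEquivOfLe hMX).symm.toMonoidHom)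
      (subgroupOfEquivOfLe hMX).symm.surjective
  have hres := Helper28.pResidual_eq_top_of_isPerfect p hperf2
  have hcoe : ((P.subtype hPX : Sylow p ↥X) : Subgroup ↥X) = (P : Subgroup G).subgroupOf X :=
    Sylow.coe_subtype _ _
  have hmem : ∀ x : ↥X, x ∈ ((P.subtype hPX : Sylow p ↥X) : Subgroup ↥X) ↔
      (x : G) ∈ (P : Subgroup G) := by
    intro x
    rw [hcoe, mem_subgroupOf]
  let f : ↥(P : Subgroup G) →* ↥((P.subtype hPX : Sylow p ↥X) : Subgroup ↥X) :=
    { toFun := fun a => ⟨⟨a, hPX a.2⟩, (hmem _).2 a.2⟩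
      map_one' := rfl
      map_mul' := fun _ _ => rfl }
  have hf : Function.Surjective f := by
    intro x
    exact ⟨⟨x.1.1, (hmem _).1 x.2⟩, rfl⟩
  have hh : (M.subgroupOf X).subgroupOf ((P.subtype hPX : Sylow p ↥X) : Subgroup ↥X) ≤
      frattini ↥((P.subtype hPX : Sylow p ↥X) : Subgroup ↥X) := by
    intro x hx
    have hx' : (x.1.1 : G) ∈ M := hx
    have h1 : (⟨x.1.1, (hmem _).1 x.2⟩ : ↥(P : Subgroup G)) ∈ frattini ↥(P : Subgroup G) :=
      h (mem_subgroupOf.2 hx')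
    exact frattini_le_comap_frattini_of_surjective hf h1
  have hbot := Helper2.tate_core (P.subtype hPX) (M.subgroupOf X) hres hh
  rw [eq_bot_iff]
  intro x hx
  have h2 : (⟨⟨x, hPX hx.2⟩, (hmem _).2 hx.2⟩ :
      ↥((P.subtype hPX : Sylow p ↥X) : Subgroup ↥X)) ∈
      (M.subgroupOf X).subgroupOf ((P.subtype hPX : Sylow p ↥X) : Subgroup ↥X) := hx.1
  rw [hbot, mem_bot] at h2
  rw [mem_bot]
  exact congrArg (fun t : ↥((P.subtype hPX : Sylow p ↥X) : Subgroup ↥X) => (t.1.1 : G)) h2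

/-- The standing hypotheses. -/
structure TwoGenHyp (P : Sylow p G) : Prop where
  hna : ¬ IsMulCommutative ↥(P : Subgroup G)
  hgen : (frattini ↥(P : Subgroup G)).index = p ^ 2
  hcore : pPrimeCore p G = ⊥
  hfrat : ((frattini ↥(P : Subgroup G)).map (P : Subgroup G).subtype).normalCore = ⊥

namespace TwoGenHyp

variable {P : Sylow p G}

theorem le_normalizer_of_normal (P : Sylow p G) (N : Subgroup G) [hN : N.Normal] :
    (P : Subgroup G) ≤ normalizer (N : Set G) := by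
  rw [normalizer_eq_top_iff.2 hN]; exact le_top

theorem gen (h : TwoGenHyp P) {N : Subgroup G} [N.Normal] (hN : N ≠ ⊥) :
    ∃ y ∈ (P : Subgroup G), ∀ a ∈ (P : Subgroup G), ∃ n ∈ N, ∃ k : ℤ, a = n * y ^ k :=
  twoGen_exists_gen P h.hgen (le_normalizer_of_normal P N)
    (twoGen_not_le_frattini P h.hcore h.hfrat hN)

theorem comm_mem (h : TwoGenHyp P) {N : Subgroup G} [N.Normal] (hN : N ≠ ⊥)
    {a b : G} (ha : a ∈ (P : Subgroup G)) (hb : b ∈ (P : Subgroup G)) : ⁅a, b⁆ ∈ N :=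
  twoGen_comm_mem P h.hgen (le_normalizer_of_normal P N)
    (twoGen_not_le_frattini P h.hcore h.hfrat hN) ha hb

theorem inf_ne_bot (h : TwoGenHyp P) {N₁ N₂ : Subgroup G} [N₁.Normal] [N₂.Normal]
    (h₁ : N₁ ≠ ⊥) (h₂ : N₂ ≠ ⊥) : N₁ ⊓ N₂ ≠ ⊥ := by
  intro h0
  obtain ⟨a, ha, b, hb, hab⟩ := exists_comm_ne_one h.hna
  have : ⁅a, b⁆ ∈ N₁ ⊓ N₂ := ⟨h.comm_mem h₁ ha hb, h.comm_mem h₂ ha hb⟩
  rw [h0, mem_bot] at this
  exact hab this

theorem commute_gen {n m y : G} {k l : ℤ} (h1 : Commute m (y ^ k)) (h2 : Commute n (y ^ l))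
    (h3 : Commute n m) : Commute (n * y ^ k) (m * y ^ l) :=
  Commute.mul_left (Commute.mul_right h3 h2)
    (Commute.mul_right h1.symm (Commute.zpow_zpow_self y k l))

theorem not_central (h : TwoGenHyp P) {N : Subgroup G} [N.Normal] (hN : N ≠ ⊥)
    (hc : ∀ n ∈ N, ∀ a ∈ (P : Subgroup G), n * a = a * n) : False := by
  obtain ⟨y, hy, hg⟩ := h.gen hN
  apply h.hna
  refine ⟨⟨fun a b => Subtype.ext ?_⟩⟩
  obtain ⟨n, hn, k, hk⟩ := hg a a.2
  obtain ⟨m, hm, l, hl⟩ := hg b b.2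
  have hmP : m ∈ (P : Subgroup G) := by
    have : m = b * (y ^ l)⁻¹ := by rw [hl]; group
    rw [this]
    exact mul_mem b.2 (inv_mem (zpow_mem hy l))
  have := commute_gen (hc m hm _ (zpow_mem hy k)) (hc n hn _ (zpow_mem hy l)) (hc n hn m hmP)
  rw [← hk, ← hl] at this
  exact this

theorem fitting_le (h : TwoGenHyp P) {K : Subgroup G} [hKn : K.Normal] (hK : K ≠ ⊥) :
    fittingSubgroup G ≤ K := by
  by_contra hQK
  set Q := fittingSubgroup G with hQ
  have hQn : Q.Normal := Helper28.fitting_normal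
  have hQp : IsPGroup p ↥Q := Helper27.fitting_isPGroup_of_pPrimeCore_eq_bot p h.hcore
  have hQP : Q ≤ (P : Subgroup G) := hQp.le_sylow_of_normal P
  have hQ1 : Q ≠ ⊥ := by
    intro h0
    exact hQK (h0 ▸ bot_le)
  have hQab : ∀ a ∈ Q, ∀ b ∈ Q, a * b = b * a := by
    have h1 : ⁅Q, Q⁆ ≤ (frattini ↥(P : Subgroup G)).map (P : Subgroup G).subtype := by
      rw [commutator_le]
      intro a ha b hb
      exact ⟨⁅⟨a, hQP ha⟩, ⟨b, hQP hb⟩⁆, commutator_mem_frattini h.hgen _ _, rfl⟩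
    have h2 := (normal_le_normalCore (N := ⁅Q, Q⁆)).2 h1
    rw [h.hfrat, le_bot_iff] at h2
    intro a ha b hb
    have h3 : ⁅a, b⁆ ∈ ⁅Q, Q⁆ := commutator_mem_commutator ha hb
    rw [h2, mem_bot, commutatorElement_eq_one_iff_mul_comm] at h3
    exact h3
  set N := K ⊓ Q with hNdef
  have hN1 : N ≠ ⊥ := h.inf_ne_bot hK hQ1
  obtain ⟨q, hqQ, hqK⟩ := SetLike.not_le_iff_exists.1 hQK
  obtain ⟨y, hy, hg⟩ := h.gen hN1
  obtain ⟨n, hn, k, hk⟩ := hg q (hQP hqQ)
  obtain ⟨z, hz⟩ : ∃ z, z = y ^ k := ⟨_, rfl⟩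
  rw [← hz] at hk
  have hzQ : z ∈ Q := by
    have : z = n⁻¹ * q := by rw [hk]; group
    rw [this]
    exact mul_mem (inv_mem hn.2) hqQ
  have hzK : z ∉ K := by
    intro hzK
    apply hqK
    rw [hk]
    exact mul_mem hn.1 hzK
  have hzP : ∀ t ∈ (P : Subgroup G), t * z = z * t := by
    intro t ht
    obtain ⟨m, hm, l, hl⟩ := hg t ht
    have h1 : Commute m z := hQab m hm.2 z hzQ
    have h2 : Commute (y ^ l) z := by rw [hz]; exact Commute.zpow_zpow_self y l k
    rw [hl]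
    exact Commute.mul_left h1 h2
  set C₀ : Subgroup G :=
    (centralizer ((Q.map (QuotientGroup.mk' N) : Subgroup (G ⧸ N)) : Set (G ⧸ N))).comap
      (QuotientGroup.mk' N) with hC₀
  have hQmn : (Q.map (QuotientGroup.mk' N)).Normal :=
    hQn.map _ (QuotientGroup.mk'_surjective N)
  have hC₀n : C₀.Normal := inferInstance
  have hC₀mem : ∀ b ∈ C₀, ∀ u ∈ Q, b * u * b⁻¹ * u⁻¹ ∈ N := by
    intro b hb u hu
    have h1 := mem_centralizer_iff.1 (mem_comap.1 hb) _ (mem_map_of_mem (QuotientGroup.mk' N) hu)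
    rw [← QuotientGroup.eq_one_iff]
    have h2 : (QuotientGroup.mk' N) (b * u * b⁻¹ * u⁻¹) = 1 := by
      rw [map_mul, map_mul, map_mul, map_inv, map_inv, ← h1]
      group
    exact h2
  have hPC₀ : (P : Subgroup G) ≤ C₀ := by
    intro a ha
    rw [hC₀, mem_comap, mem_centralizer_iff]
    rintro _ ⟨u, hu, rfl⟩
    have h1 : ⁅u, a⁆ ∈ N := h.comm_mem hN1 (hQP hu) ha
    rw [← QuotientGroup.eq_one_iff] at h1
    have h2 : (QuotientGroup.mk' N) ⁅u, a⁆ = 1 := h1
    rw [map_commutatorElement, commutatorElement_eq_one_iff_mul_comm] at h2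
    exact h2
  obtain ⟨τ, hτ1, -, hτ3, -, hτ5, -⟩ := Helper37.Trace.exists_trace Q C₀ (P : Subgroup G) hQab
    (by rw [normalizer_eq_top_iff.2 hQn]; exact le_top)
  have hw1 := hτ1 z hzQ
  have hw2 := hτ3 z hzQ hzP
  have hw3 := hτ5 z hzQ N (fun b hb => hC₀mem b hb z hzQ)
  have hcop : ((P : Subgroup G).relIndex C₀).Coprime p := by
    have h1 : (P : Subgroup G).relIndex C₀ ∣ (P : Subgroup G).index :=
      Dvd.intro _ (relIndex_mul_index hPC₀)
    exact ((Nat.Prime.coprime_iff_not_dvd hp.out).2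
      (fun h2 => P.not_dvd_index (h2.trans h1))).symm
  have hw4 : τ z ≠ 1 := by
    intro h1
    rw [h1, one_mul, inv_mem_iff] at hw3
    obtain ⟨j, hj⟩ := (IsPGroup.iff_orderOf.1 hQp) ⟨z, hzQ⟩
    rw [Subgroup.orderOf_mk] at hj
    obtain ⟨m, hm⟩ := exists_pow_eq_self_of_coprime
      (x := z) (n := (P : Subgroup G).relIndex C₀) (by rw [hj]; exact hcop.pow_right j)
    apply hzK
    rw [← hm]
    exact pow_mem hw3.1 m
  set D : Subgroup G := Q ⊓ centralizer (C₀ : Set G) with hD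
  have hDn : D.Normal := inferInstance
  have hD1 : D ≠ ⊥ := by
    intro h0
    have : τ z ∈ D := ⟨hw1, mem_centralizer_iff.2 (fun b hb => hw2 b hb)⟩
    rw [h0, mem_bot] at this
    exact hw4 this
  exact h.not_central hD1 (fun d hd a ha => (mem_centralizer_iff.1 hd.2 a (hPC₀ ha)).symm)

theorem layer_le (h : TwoGenHyp P) {K : Subgroup G} [hKn : K.Normal] (hK : K ≠ ⊥) :
    layer G ≤ K := by
  rw [Helper27.layer_le_iff]
  intro L hL
  rcases Helper27.comp_le_or_comm hL hKn.isSubnormal with h1 | h1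
  · exact h1
  exfalso
  have hLC : L ≤ centralizer (K : Set G) := commutator_eq_bot_iff_le_centralizer.1 h1
  have hC1 : centralizer (K : Set G) ≠ ⊥ := by
    intro h0
    rw [h0, le_bot_iff] at hLC
    exact Helper27.qs_ne_bot hL.2 hLC
  set E := layer G with hE
  have hEn : E.Normal := Helper28.layer_normal
  have hE1 : E ≠ ⊥ := by
    intro h0
    have := Helper27.comp_le_layer hL
    rw [← hE, h0, le_bot_iff] at this
    exact Helper27.qs_ne_bot hL.2 this
  set N := (K ⊓ centralizer (K : Set G)) ⊓ E with hNdef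
  have hN1 : N ≠ ⊥ := h.inf_ne_bot (h.inf_ne_bot hK hC1) hE1
  have hNab : IsMulCommutative ↥N :=
    ⟨⟨fun a b => Subtype.ext (mem_centralizer_iff.1 b.2.1.2 a a.2.1.1)⟩⟩
  have hNE0 : ⁅E, N⁆ = ⊥ :=
    Helper27.comm_layer_solvable_normal (Group.isSolvable_of_comm hNab.is_comm.comm)
  have hNE : ∀ n ∈ N, ∀ e ∈ E, Commute n e := by
    intro n hn e he
    have h2 := commutator_eq_bot_iff_le_centralizer.1 hNE0 he
    exact mem_centralizer_iff.1 h2 n hn
  obtain ⟨y, hy, hg⟩ := h.gen hN1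
  obtain ⟨PE, hPE⟩ := Helper37.exists_sylow_subgroupOf_subnormal P hEn.isSubnormal
  have hab : IsMulCommutative ↥(PE : Subgroup ↥E) := by
    refine ⟨⟨fun a b => Subtype.ext (Subtype.ext ?_)⟩⟩
    have hmemP : ∀ t : ↥E, t ∈ (PE : Subgroup ↥E) → (t : G) ∈ (P : Subgroup G) := by
      intro t ht
      rw [hPE] at ht
      exact ht
    have haP : (a.1.1 : G) ∈ (P : Subgroup G) := hmemP _ a.2
    have hbP : (b.1.1 : G) ∈ (P : Subgroup G) := hmemP _ b.2
    obtain ⟨n, hn, k, hk⟩ := hg _ haP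
    obtain ⟨m, hm, l, hl⟩ := hg _ hbP
    have hyk : y ^ k ∈ E := by
      have : y ^ k = n⁻¹ * a.1.1 := by rw [hk]; group
      rw [this]
      exact mul_mem (inv_mem hn.2) a.1.2
    have hyl : y ^ l ∈ E := by
      have : y ^ l = m⁻¹ * b.1.1 := by rw [hl]; group
      rw [this]
      exact mul_mem (inv_mem hm.2) b.1.2
    have := commute_gen (hNE m hm _ hyk) (hNE n hn _ hyl) (hNE n hn m hm.2)
    rw [← hk, ← hl] at this
    exact this
  have hHall : Nat.Coprime (Nat.card ↥(PE : Subgroup ↥E)) (PE : Subgroup ↥E).index := by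
    obtain ⟨j, hj⟩ := IsPGroup.iff_card.1 PE.2
    rw [hj]
    exact ((Nat.Prime.coprime_iff_not_dvd hp.out).2 PE.not_dvd_index).pow_left j
  have h88 := Cfsg.Agent.S0088.result (PE : Subgroup ↥E) hab hHall
  have hperf : Group.IsPerfect ↥E := (Subgroup.isPerfect_iff).2 Helper27.layer_perfect
  apply twoGen_not_le_frattini P h.hcore h.hfrat hN1
  intro x hx
  have hxN : (x : G) ∈ N := hx
  have h3 : (⟨x, hxN.2⟩ : ↥E) ∈ (PE : Subgroup ↥E) ⊓ commutator ↥E ⊓ center ↥E := by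
    refine ⟨⟨?_, ?_⟩, ?_⟩
    · rw [hPE]; exact x.2
    · rw [hperf.commutator_eq_top]; exact mem_top _
    · refine mem_center_iff.2 ?_
      intro e
      exact Subtype.ext (hNE _ hxN e e.2).symm
  rw [h88, mem_bot] at h3
  have h4 : (x : G) = 1 := congrArg (fun t : ↥E => (t : G)) h3
  have h5 : x = 1 := Subtype.ext h4
  rw [h5]
  exact one_mem _

theorem genFitting_le (h : TwoGenHyp P) {K : Subgroup G} [hKn : K.Normal] (hK : K ≠ ⊥) :
    generalizedFittingSubgroup G ≤ K :=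
  sup_le (h.layer_le hK) (h.fitting_le hK)

theorem genFitting_ne_bot (h : TwoGenHyp P) : generalizedFittingSubgroup G ≠ ⊥ := by
  intro h0
  have h1 := Helper28.centralizer_genFitting_le (G := G)
  rw [h0] at h1
  obtain ⟨a, ha, b, hb, hab⟩ := exists_comm_ne_one h.hna
  apply hab
  have h2 : ⁅a, b⁆ ∈ centralizer (((⊥ : Subgroup G) : Subgroup G) : Set G) := by
    rw [mem_centralizer_iff]
    intro x hx
    have hx1 : x = 1 := hx
    rw [hx1, one_mul, mul_one]
  exact h1 h2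

open Cfsg.Agent.Lib.Helper30 (cj cj_mul cj_inv_cj) in
theorem orbProd_perfect (A : Subgroup G) {K : Subgroup G} (hK : IsComponent K) :
    ⁅Helper27.orbProd A K, Helper27.orbProd A K⁆ = Helper27.orbProd A K := by
  apply le_antisymm (commutator_le_self _)
  refine iSup_le fun a => ?_
  have h1 : IsComponent (cj (a : G) K) := Helper27.comp_conj hK a
  rw [← Helper27.comp_perfect h1]
  exact commutator_mono (Helper27.cj_le_orbProd a.2) (Helper27.cj_le_orbProd a.2)

theorem orbProd_not_le_frattini (h : TwoGenHyp P) {K : Subgroup G} (hK : IsComponent K) :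
    ¬ (Helper27.orbProd (P : Subgroup G) K).subgroupOf (P : Subgroup G) ≤
      frattini ↥(P : Subgroup G) := by
  intro hle
  have h1 := tate_rel P (Helper27.le_normalizer_orbProd (P : Subgroup G) K)
    (orbProd_perfect _ hK) hle
  obtain ⟨PK, hPK⟩ := Helper37.exists_sylow_subgroupOf_subnormal P hK.1
  apply PK.ne_bot_of_dvd_card (comp_dvd_card h.hcore hK)
  rw [eq_bot_iff]
  intro x hx
  rw [hPK] at hx
  have h2 : (x : G) ∈ Helper27.orbProd (P : Subgroup G) K ⊓ (P : Subgroup G) :=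
    ⟨Helper27.le_orbProd _ _ x.2, hx⟩
  rw [h1, mem_bot] at h2
  rw [mem_bot]
  exact Subtype.ext h2

open Cfsg.Agent.Lib.Helper30 (cj cj_mul cj_inv_cj) in
theorem trans_components (h : TwoGenHyp P) {K L : Subgroup G} (hK : IsComponent K)
    (hL : IsComponent L) :
    ∃ x ∈ (P : Subgroup G), L = K.map (MulAut.conj x).toMonoidHom := by
  by_contra hcon
  push Not at hcon
  have hcomm : ⁅Helper27.orbProd (P : Subgroup G) K, Helper27.orbProd (P : Subgroup G) L⁆ = ⊥ := by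
    apply Helper27.comm_iSup_eq_bot
    intro a
    rw [commutator_comm]
    apply Helper27.comm_orbProd_of_not_mem hK (Helper27.comp_conj hL a)
    intro b hb heq
    apply hcon ((a : G)⁻¹ * b) (mul_mem (inv_mem a.2) hb)
    have h1 : cj (a : G) L = cj b K := heq
    have h2 := congrArg (cj (a : G)⁻¹) h1
    rw [cj_inv_cj, ← cj_mul] at h2
    exact h2
  obtain ⟨a, ha, b, hb, hab⟩ := exists_comm_ne_one h.hna
  have h1 : ⁅a, b⁆ ∈ Helper27.orbProd (P : Subgroup G) K :=
    twoGen_comm_mem P h.hgen (Helper27.le_normalizer_orbProd _ _) (h.orbProd_not_le_frattini hK)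
      ha hb
  have h2 : ⁅a, b⁆ ∈ Helper27.orbProd (P : Subgroup G) L :=
    twoGen_comm_mem P h.hgen (Helper27.le_normalizer_orbProd _ _) (h.orbProd_not_le_frattini hL)
      ha hb
  have h3 : ⁅a, b⁆ ∈ centralizer (Helper27.orbProd (P : Subgroup G) K : Set G) := by
    rw [commutator_comm] at hcomm
    exact commutator_eq_bot_iff_le_centralizer.1 hcomm h2
  have h4 : ⁅a, b⁆ ∈ centralizer (layer G : Set G) := Helper27.orbProd_center_le hK ⟨h1, h3⟩
  have hEn : (layer G).Normal := Helper28.layer_normal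
  have hZ1 : layer G ⊓ centralizer (layer G : Set G) ≠ ⊥ := by
    intro h0
    have : ⁅a, b⁆ ∈ layer G ⊓ centralizer (layer G : Set G) :=
      ⟨Helper27.orbProd_le_layer hK h1, h4⟩
    rw [h0, mem_bot] at this
    exact hab this
  have h5 := h.layer_le hZ1
  apply Helper27.qs_comm_self_ne_bot hK.2
  rw [commutator_eq_bot_iff_le_centralizer]
  exact ((Helper27.comp_le_layer hK).trans (h5.trans inf_le_right)).trans
    (centralizer_le (Helper27.comp_le_layer hK))

theorem isCyclic_map (h : TwoGenHyp P) {N : Subgroup G} [N.Normal] (hN : N ≠ ⊥) :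
    IsCyclic ↥((P : Subgroup G).map (QuotientGroup.mk' N)) := by
  obtain ⟨y, hy, hg⟩ := h.gen hN
  refine ⟨⟨⟨QuotientGroup.mk' N y, mem_map_of_mem _ hy⟩, fun x => ?_⟩⟩
  obtain ⟨a, ha, hax⟩ := x.2
  obtain ⟨n, hn, k, hk⟩ := hg a ha
  refine mem_zpowers_iff.2 ⟨k, Subtype.ext ?_⟩
  rw [← hax, hk, map_mul, map_zpow]
  have : QuotientGroup.mk' N n = 1 := (QuotientGroup.eq_one_iff n).2 hn
  rw [this, one_mul]
  rfl

end TwoGenHyp

end Cfsg.Agent.Lib.Helper55
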