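import Cfsg.Agent.Lib.Helper55.FF7

set_option autoImplicit false
set_option linter.unusedSectionVars false

/-! Two `p`-elements acting faithfully on a group of type `(p, p)` generate `SL₂(p)`. -/

namespace Cfsg.Agent.Lib.Helper55

open Cfsg Subgroup
open scoped commutatorElement Pointwise

variable {G : Type*} [Group G] [Finite G] {p : ℕ} [hp : Fact p.Prime]

section One

variable {W : Subgroup G} {a : G}

theorem card_eq_prime_of_lt (hcard : Nat.card ↥W = p ^ 2) {U : Subgroup G} (hU : U < W)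
    (hU1 : U ≠ ⊥) : Nat.card ↥U = p := by
  have hdvd : Nat.card ↥U ∣ p ^ 2 := hcard ▸ card_dvd_of_le hU.le
  obtain ⟨m, hm, hc⟩ := (Nat.dvd_prime_pow hp.out).1 hdvd
  interval_cases m
  · rw [pow_zero] at hc
    exact absurd (card_eq_one.1 hc) hU1
  · rw [pow_one] at hc
    exact hc
  · exact absurd (eq_of_le_of_card_ge hU.le (by rw [hc, hcard])) hU.ne

theorem transv_card (hWc : ∀ x ∈ W, ∀ y ∈ W, x * y = y * x) (hcard : Nat.card ↥W = p ^ 2)
    (haW : a ∈ normalizer (W : Set G)) (hap : IsPGroup p ↥(zpowers a))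
    (hna : a ∉ centralizer (W : Set G)) :
    Nat.card ↥⁅W, zpowers a⁆ = p ∧ ⁅W, zpowers a⁆ = W ⊓ centralizer {a} := by
  have hWp : IsPGroup p ↥W := IsPGroup.of_card hcard
  have hW1 : W ≠ ⊥ := by
    rintro rfl
    rw [card_bot] at hcard
    have := hp.out.one_lt
    nlinarith
  have hZW : zpowers a ≤ normalizer (W : Set G) := zpowers_le.2 haW
  have hlt := Helper14.commutator_lt_of_isPGroup hWp hap hZW hW1
  have hne : ⁅W, zpowers a⁆ ≠ ⊥ := by
    intro h
    rw [commutator_eq_bot_iff_le_centralizer, le_centralizer_iff, zpowers_le] at h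
    exact hna h
  have hc1 := card_eq_prime_of_lt hcard hlt hne
  refine ⟨hc1, ?_⟩
  have hc2 := card_commutator_zpowers W hWc a haW
  rw [hc1] at hc2
  have hc3 : Nat.card ↥(W ⊓ centralizer {a} : Subgroup G) * p = p ^ 2 := by
    have h := Helper14.card_mul_relIndex (inf_le_left : W ⊓ centralizer {a} ≤ W)
    rw [← hc2, hcard] at h
    exact h
  have hc4 : Nat.card ↥(W ⊓ centralizer {a} : Subgroup G) = p := by
    have hpos := hp.out.pos
    nlinarith
  have h5 : zpowers a ≤ centralizer ((⁅W, zpowers a⁆ : Subgroup G) : Set G) :=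
    FFS.le_centralizer_of_card_prime hap hc1 (Helper30.le_normalizer_commutator hZW le_normalizer)
  apply eq_of_le_of_card_ge
  · refine le_inf hlt.le ?_
    rw [← centralizer_zpowers, le_centralizer_iff]
    exact h5
  · rw [hc1, hc4]

theorem transv_data (hWc : ∀ x ∈ W, ∀ y ∈ W, x * y = y * x) (hWp : ∀ x ∈ W, x ^ p = 1)
    {e₁ e : G} (he₁W : e₁ ∈ W) (he₁ : ⁅W, zpowers a⁆ = zpowers e₁) (he : e ∈ W) :
    ∃ l : ℕ, a * e * a⁻¹ = e * e₁ ^ l ∧ (p ∣ l → e ∈ centralizer {a}) := by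
  have h1 : a * e * a⁻¹ * e⁻¹ ∈ zpowers e₁ :=
    he₁ ▸ conj_mul_inv_mem_commutator he (mem_zpowers a)
  obtain ⟨l, hl⟩ := mem_powers_iff_mem_zpowers.2 h1
  have hl' : e₁ ^ l = a * e * a⁻¹ * e⁻¹ := hl
  have h2 : a * e * a⁻¹ = e * e₁ ^ l := by
    rw [hWc e he _ (W.pow_mem he₁W l), hl']; group
  refine ⟨l, h2, fun hdvd => ?_⟩
  obtain ⟨k, rfl⟩ := hdvd
  rw [pow_mul, hWp e₁ he₁W, one_pow, mul_one] at h2
  rw [mem_centralizer_iff]
  intro z hz
  rw [Set.mem_singleton_iff] at hz
  subst hz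
  calc z * e = (z * e * z⁻¹) * z := by group
    _ = e * z := by rw [h2]

end One

theorem sup_zpowers_eq {W : Subgroup G} (hcard : Nat.card ↥W = p ^ 2) {P₁ P₂ : Subgroup G}
    (h1 : P₁ ≤ W) (h2 : P₂ ≤ W) (hc1 : Nat.card ↥P₁ = p) (hc2 : Nat.card ↥P₂ = p)
    (hne : P₁ ≠ P₂) : P₁ ⊔ P₂ = W := by
  by_contra hcon
  have hlt : P₁ ⊔ P₂ < W := lt_of_le_of_ne (sup_le h1 h2) hcon
  have hne1 : P₁ ⊔ P₂ ≠ ⊥ := by
    intro h
    have : P₁ = ⊥ := le_bot_iff.1 (h ▸ le_sup_left)
    rw [this, card_bot] at hc1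
    exact hp.out.one_lt.ne hc1
  have hc := card_eq_prime_of_lt hcard hlt hne1
  have e1 : P₁ = P₁ ⊔ P₂ := eq_of_le_of_card_ge le_sup_left (by rw [hc, hc1])
  have e2 : P₂ = P₁ ⊔ P₂ := eq_of_le_of_card_ge le_sup_right (by rw [hc, hc2])
  exact hne (e1.trans e2.symm)

/-- Two `p`-elements generating different subgroups and acting faithfully on a group of type
`(p,p)` generate `SL₂(p)` in its natural action. -/
theorem natSL2_of_two_pElements {W D : Subgroup G} {a b : G}
    (hWc : ∀ x ∈ W, ∀ y ∈ W, x * y = y * x) (hWp : ∀ x ∈ W, x ^ p = 1)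
    (hcard : Nat.card ↥W = p ^ 2)
    (haW : a ∈ normalizer (W : Set G)) (hbW : b ∈ normalizer (W : Set G))
    (hap : IsPGroup p ↥(zpowers a)) (hbp : IsPGroup p ↥(zpowers b))
    (hD : D = zpowers a ⊔ zpowers b) (hDf : D ⊓ centralizer (W : Set G) = ⊥)
    (ha1 : a ≠ 1) (hba : b ∉ zpowers a) : NatSL2 p D W := by
  have haD : a ∈ D := hD ▸ (le_sup_left : zpowers a ≤ _) (mem_zpowers a)
  have hbD : b ∈ D := hD ▸ (le_sup_right : zpowers b ≤ _) (mem_zpowers b)
  have hna : a ∉ centralizer (W : Set G) := by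
    intro h
    have : a ∈ D ⊓ centralizer (W : Set G) := ⟨haD, h⟩
    rw [hDf, mem_bot] at this
    exact ha1 this
  have hnb : b ∉ centralizer (W : Set G) := by
    intro h
    have : b ∈ D ⊓ centralizer (W : Set G) := ⟨hbD, h⟩
    rw [hDf, mem_bot] at this
    exact hba (this ▸ one_mem _)
  obtain ⟨hca, hCa⟩ := transv_card hWc hcard haW hap hna
  obtain ⟨hcb, hCb⟩ := transv_card hWc hcard hbW hbp hnb
  obtain ⟨e₁, he₁, -⟩ := exists_zpowers_of_card_prime hca
  obtain ⟨e₂, he₂, -⟩ := exists_zpowers_of_card_prime hcb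
  have he₁m : e₁ ∈ W ⊓ centralizer {a} := hCa ▸ he₁ ▸ mem_zpowers e₁
  have he₂m : e₂ ∈ W ⊓ centralizer {b} := hCb ▸ he₂ ▸ mem_zpowers e₂
  have fix : ∀ {g e : G}, e ∈ centralizer {g} → g * e * g⁻¹ = e := by
    intro g e h
    rw [(mem_centralizer_iff.1 h) g rfl, mul_inv_cancel_right]
  have hconj_pow : ∀ (g e : G) (n : ℕ), g * e ^ n * g⁻¹ = (g * e * g⁻¹) ^ n := by
    intro g e n
    exact (conj_pow (a := g) (b := e) (i := n)).symm
  -- the two centres are different
  have hne : zpowers e₁ ≠ zpowers e₂ := by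
    intro heq
    apply hba
    -- pick `e` outside
    have hlt : zpowers e₁ < W := by
      rw [← he₁]
      exact Helper14.commutator_lt_of_isPGroup (IsPGroup.of_card hcard) hap (zpowers_le.2 haW)
        (by
          rintro rfl
          rw [card_bot] at hcard
          have := hp.out.one_lt
          nlinarith)
    obtain ⟨e, heW, heP⟩ := SetLike.exists_of_lt hlt
    obtain ⟨l, hl, hl'⟩ := transv_data hWc hWp he₁m.1 he₁ heW
    obtain ⟨l', hm, -⟩ := transv_data (a := b) hWc hWp he₁m.1 (he₂.trans heq.symm) heW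
    have hpl : ¬ p ∣ l := by
      intro h
      apply heP
      rw [← he₁, hCa]
      exact ⟨heW, hl' h⟩
    have hcop : Nat.Coprime l p := ((Nat.Prime.coprime_iff_not_dvd hp.out).2 hpl).symm
    obtain ⟨k, hk⟩ := Nat.exists_mul_mod_eq_one_of_coprime hcop hp.out.one_lt
    -- `a ^ (k * l')` acts like `b`
    have he₁b : e₁ ∈ centralizer {b} := by
      have : e₁ ∈ zpowers e₂ := heq ▸ mem_zpowers e₁
      rw [← he₂, hCb] at this
      exact this.2
    have hapow : ∀ n : ℕ, a ^ n * e * (a ^ n)⁻¹ = e * e₁ ^ (l * n) := by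
      intro n
      induction n with
      | zero => simp
      | succ n ih =>
        calc a ^ (n + 1) * e * (a ^ (n + 1))⁻¹ = a * (a ^ n * e * (a ^ n)⁻¹) * a⁻¹ := by
              rw [pow_succ']; group
          _ = a * (e * e₁ ^ (l * n)) * a⁻¹ := by rw [ih]
          _ = (a * e * a⁻¹) * (a * e₁ ^ (l * n) * a⁻¹) := by group
          _ = (e * e₁ ^ l) * e₁ ^ (l * n) := by rw [hl, hconj_pow, fix he₁m.2]
          _ = e * e₁ ^ (l * (n + 1)) := by rw [mul_assoc, ← pow_add]; ring_nf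
    have hapow1 : ∀ n : ℕ, a ^ n * e₁ * (a ^ n)⁻¹ = e₁ := by
      intro n
      apply fix
      rw [mem_centralizer_iff]
      intro z hz
      rw [Set.mem_singleton_iff] at hz
      subst hz
      have hc : Commute a e₁ := (mem_centralizer_iff.1 he₁m.2) a rfl
      exact (hc.pow_left n).eq
    have hpow : e₁ ^ (l * (k * l')) = e₁ ^ l' := by
      have h1 : l * (k * l') = (l * k) * l' := by ring
      rw [h1, pow_mul]
      congr 1
      have h2 : l * k = p * (l * k / p) + 1 := by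
        have := Nat.div_add_mod (l * k) p
        rw [hk.2] at this
        exact this.symm
      rw [h2, pow_add, pow_mul, hWp e₁ he₁m.1, one_pow, one_mul, pow_one]
    have hsup : zpowers e₁ ⊔ zpowers e = W := by
      have hce : Nat.card ↥(zpowers e) = p := by
        have hlt2 : zpowers e < W := by
          refine lt_of_le_of_ne (zpowers_le.2 heW) ?_
          intro h
          have h3 : orderOf e ∣ p := orderOf_dvd_of_pow_eq_one (hWp e heW)
          have h4 : Nat.card ↥(zpowers e) = p ^ 2 := by rw [h, hcard]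
          rw [Nat.card_zpowers] at h4
          rw [h4] at h3
          have := Nat.le_of_dvd hp.out.pos h3
          have := hp.out.one_lt
          nlinarith
        apply card_eq_prime_of_lt hcard hlt2
        intro h
        rw [zpowers_eq_bot] at h
        exact heP (h ▸ one_mem _)
      apply sup_zpowers_eq hcard (zpowers_le.2 he₁m.1) (zpowers_le.2 heW) (he₁ ▸ hca) hce
      intro h
      exact heP (h ▸ mem_zpowers e)
    have hz : b⁻¹ * a ^ (k * l') ∈ D ⊓ centralizer (W : Set G) := by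
      refine mem_inf.2 ⟨D.mul_mem (D.inv_mem hbD) (D.pow_mem haD _), ?_⟩
      have key : ∀ w : G, a ^ (k * l') * w * (a ^ (k * l'))⁻¹ = b * w * b⁻¹ →
          w ∈ centralizer {b⁻¹ * a ^ (k * l')} := by
        intro w hw
        rw [mem_centralizer_iff]
        intro z hz
        rw [Set.mem_singleton_iff] at hz
        subst hz
        calc b⁻¹ * a ^ (k * l') * w
            = b⁻¹ * (a ^ (k * l') * w * (a ^ (k * l'))⁻¹) * a ^ (k * l') := by group
          _ = w * (b⁻¹ * a ^ (k * l')) := by rw [hw]; group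
      have h1 : W ≤ centralizer {b⁻¹ * a ^ (k * l')} := by
        rw [← hsup, sup_le_iff, zpowers_le, zpowers_le]
        refine ⟨key _ ?_, key _ ?_⟩
        · rw [hapow1, fix he₁b]
        · rw [hapow, hpow, hm]
      rw [← centralizer_zpowers, le_centralizer_iff, zpowers_le] at h1
      exact h1
    rw [hDf, mem_bot, inv_mul_eq_one] at hz
    exact hz ▸ pow_mem (mem_zpowers a) _
  have hgen : zpowers e₁ ⊔ zpowers e₂ = W :=
    sup_zpowers_eq hcard (zpowers_le.2 he₁m.1) (zpowers_le.2 he₂m.1) (he₁ ▸ hca) (he₂ ▸ hcb) hne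
  obtain ⟨l, hl, hl'⟩ := transv_data hWc hWp he₁m.1 he₁ he₂m.1
  obtain ⟨m, hm, hm'⟩ := transv_data (a := b) hWc hWp he₂m.1 he₂ he₁m.1
  have hcases : ∀ {P Q : Subgroup G}, Nat.card ↥P = p → Nat.card ↥Q = p → P ≤ Q → P = Q := by
    intro P Q hP hQ hle
    exact eq_of_le_of_card_ge hle (by rw [hP, hQ])
  have hpl : ¬ p ∣ l := by
    intro h
    apply hne
    refine (hcases (he₂ ▸ hcb) (he₁ ▸ hca) ?_).symm
    rw [zpowers_le, ← he₁, hCa]
    exact ⟨he₂m.1, hl' h⟩
  have hpm : ¬ p ∣ m := by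
    intro h
    apply hne
    refine hcases (he₁ ▸ hca) (he₂ ▸ hcb) ?_
    rw [zpowers_le, ← he₂, hCb]
    exact ⟨he₁m.1, hm' h⟩
  exact natSL2_of_transvections hWc hWp hcard he₁m.1 he₂m.1 hgen haW hbW hD hDf
    (fix he₁m.2) l hl hpl (fix he₂m.2) m hm hpm

end Cfsg.Agent.Lib.Helper55
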