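import Mathlib
import Cfsg.Prelude.Def_IsolatedElements
import Cfsg.Prelude.Def_CaseTheorems
import Cfsg.Agent.Lib.Helper55.Isolated
import Cfsg.Agent.Lib.Helper55.CharP
import Cfsg.Agent.Lib.Helper28.Cores
import Cfsg.Agent.Lib.Helper80.PSolv

set_option autoImplicit false

namespace Cfsg.Agent.Lib.Helper55

universe u

open scoped commutatorElement

/-- The hypotheses of a minimal counterexample to the `Z*_p` statement. -/
structure MinCE {G : Type u} [Group G] (p : ℕ) (x : G) : Prop where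
  hx : orderOf x = p
  hiso : Cfsg.IsIsolated x
  hnz : ¬ Cfsg.InZStar p x
  hmin : ∀ (H : Subgroup G) (hxH : x ∈ H), H ≠ ⊤ → Cfsg.InZStar p (⟨x, hxH⟩ : ↥H)
  hquot : ∀ (N : Subgroup G) [N.Normal], N ≠ ⊥ → Cfsg.InZStar p (QuotientGroup.mk x : G ⧸ N)

namespace MinCE

variable {G : Type u} [Group G] [Finite G] {p : ℕ} [Fact p.Prime] {x : G}

theorem hx' (h : MinCE p x) : ∃ k : ℕ, orderOf x = p ^ k := ⟨1, by rw [h.hx, pow_one]⟩

theorem core_eq_bot (h : MinCE p x) : Cfsg.pPrimeCore p G = ⊥ := by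
  by_contra hne
  apply h.hnz
  intro g
  have h1 := h.hquot (Cfsg.pPrimeCore p G) hne (QuotientGroup.mk g)
  rw [Cfsg.Agent.Lib.Helper80.pPrimeCore_quotient_eq_bot, Subgroup.mem_bot] at h1
  rw [← QuotientGroup.eq_one_iff]
  exact h1

theorem not_central (h : MinCE p x) : ¬ ∀ g : G, g * x * g⁻¹ = x := by
  intro hc
  apply h.hnz
  intro g
  rw [hc g, mul_inv_cancel]
  exact Subgroup.one_mem _

theorem eq_bot_of_subnormal_coprime (h : MinCE p x) {Y : Subgroup G} (hY : Y.IsSubnormal)
    (hc : (Nat.card ↥Y).Coprime p) : Y = ⊥ := by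
  have := Cfsg.Agent.Lib.Helper28.subnormal_le_pPrimeCore hY hc
  rw [h.core_eq_bot] at this
  exact le_bot_iff.1 this

/-- If `Y ⊴ N ⊴ G` and `Y` is a `p'`-group, `Y = 1`. -/
theorem eq_bot_of_normal_normal_coprime (h : MinCE p x) {Y N : Subgroup G} (hN : N.Normal)
    (hYN : Y ≤ N) (hn : N ≤ Subgroup.normalizer (Y : Set G)) (hc : (Nat.card ↥Y).Coprime p) :
    Y = ⊥ :=
  h.eq_bot_of_subnormal_coprime
    (Subgroup.IsSubnormal.step Y N hYN hN.isSubnormal
      ((Subgroup.normal_subgroupOf_iff_le_normalizer hYN).2 hn)) hc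

theorem commute_of_proper (h : MinCE p x) {H N : Subgroup G} (hxH : x ∈ H) (hH : H ≠ ⊤)
    (hN : N.Normal) (hNH : N ≤ H) : ∀ n ∈ N, Commute x n := by
  intro n hn
  have h1 := h.hmin H hxH hH ⟨n, hNH hn⟩
  set O := Cfsg.pPrimeCore p ↥H with hO
  have hOn : O.Normal := Cfsg.pPrimeCore_normal p ↥H
  have hY : (O.map H.subtype) ⊓ N = ⊥ := by
    apply h.eq_bot_of_normal_normal_coprime hN inf_le_right
    · rw [Subgroup.le_normalizer_iff]
      rintro m hm y ⟨⟨y', hy', rfl⟩, hyN⟩
      refine ⟨⟨⟨m, hNH hm⟩ * y' * ⟨m, hNH hm⟩⁻¹, hOn.conj_mem y' hy' _, rfl⟩, hN.conj_mem _ hyN m⟩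
    · have h2 : Nat.card ↥((O.map H.subtype) ⊓ N) ∣ Nat.card ↥O := by
        have h3 : Nat.card ↥(O.map H.subtype) = Nat.card ↥O :=
          Subgroup.card_map_of_injective H.subtype_injective
        rw [← h3]
        exact Subgroup.card_dvd_of_le inf_le_left
      exact Nat.Coprime.coprime_dvd_left h2 (Cfsg.Agent.Lib.Helper28.pPrimeCore_coprime p)
  have h2 : n * x * n⁻¹ * x⁻¹ ∈ (O.map H.subtype) ⊓ N := by
    refine ⟨⟨_, h1, rfl⟩, ?_⟩
    have h3 : x * n⁻¹ * x⁻¹ ∈ N := hN.conj_mem _ (N.inv_mem hn) x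
    have := N.mul_mem hn h3
    simpa [mul_assoc] using this
  rw [hY, Subgroup.mem_bot] at h2
  show x * n = n * x
  calc x * n = (n * x * n⁻¹ * x⁻¹)⁻¹ * (n * x) := by group
    _ = n * x := by rw [h2]; simp

theorem normalClosure_eq_top (h : MinCE p x) : Subgroup.normalClosure ({x} : Set G) = ⊤ := by
  by_contra hne
  apply h.not_central
  intro g
  have hxH : x ∈ Subgroup.normalClosure ({x} : Set G) :=
    Subgroup.subset_normalClosure (Set.mem_singleton x)
  have h1 := h.commute_of_proper hxH hne Subgroup.normalClosure_normal le_rfl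
  exact h.hiso g (h1 _ (Subgroup.normalClosure_normal.conj_mem _ hxH g))

/-- a normal subgroup centralized by `x` is central -/
theorem central_of_commute (h : MinCE p x) {N : Subgroup G} (hN : N.Normal)
    (hc : ∀ n ∈ N, Commute x n) : ∀ n ∈ N, ∀ g : G, g * n = n * g := by
  have h1 : Subgroup.normalClosure ({x} : Set G) ≤ Subgroup.centralizer (N : Set G) := by
    apply Subgroup.normalClosure_le_normal
    intro y hy
    rw [Set.mem_singleton_iff] at hy
    subst hy
    rw [SetLike.mem_coe, Subgroup.mem_centralizer_iff]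
    intro n hn
    exact (hc n hn).symm
  rw [h.normalClosure_eq_top] at h1
  intro n hn g
  have := h1 (Subgroup.mem_top g)
  rw [Subgroup.mem_centralizer_iff] at this
  exact (this n hn).symm

theorem no_central_normal (h : MinCE p x) {N : Subgroup G} (hN : N.Normal)
    (hc : ∀ n ∈ N, ∀ g : G, g * n = n * g) : N = ⊥ := by
  by_contra hne
  -- N is a p-group
  have hNp : IsPGroup p ↥N := by
    apply isPGroup_of_forall_coprime_eq_one
    intro c hcN hcop
    have hzn : (Subgroup.zpowers c).Normal := by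
      constructor
      intro y hy g
      obtain ⟨k, rfl⟩ := Subgroup.mem_zpowers_iff.1 hy
      have : g * c ^ k * g⁻¹ = c ^ k := by
        rw [hc _ (N.zpow_mem hcN k) g]; group
      rw [this]; exact Subgroup.zpow_mem_zpowers c k
    have := h.eq_bot_of_subnormal_coprime hzn.isSubnormal (by rw [Nat.card_zpowers]; exact hcop)
    exact Subgroup.zpowers_eq_bot.1 this
  set Kbar := Cfsg.pPrimeCore p (G ⧸ N) with hKbar
  have hKbn : Kbar.Normal := Cfsg.pPrimeCore_normal p (G ⧸ N)
  set K := Kbar.comap (QuotientGroup.mk' N) with hK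
  have hKn : K.Normal := hKbn.comap _
  have hNK : N ≤ K := by
    intro n hn
    show (QuotientGroup.mk' N) n ∈ Kbar
    have : (QuotientGroup.mk' N) n = 1 := (QuotientGroup.eq_one_iff n).2 hn
    rw [this]; exact Subgroup.one_mem _
  have hrel : (N.relIndex K).Coprime p := by
    have h1 : N.relIndex K = Nat.card ↥(K.map (QuotientGroup.mk' N)) := by
      conv_lhs => rw [← QuotientGroup.ker_mk' N]
      exact Subgroup.relIndex_ker (K := K) (QuotientGroup.mk' N)
    rw [h1, hK, Subgroup.map_comap_eq_self_of_surjective (QuotientGroup.mk'_surjective N)]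
    exact Cfsg.Agent.Lib.Helper28.pPrimeCore_coprime p
  obtain ⟨A, hAn, hAc, hKA⟩ := Cfsg.Agent.Lib.Helper80.exists_normal_complement_of_central K N hNK hNp
    (fun z hz d _ => (hc z hz d).symm) hrel
  have hA : A = ⊥ := h.eq_bot_of_subnormal_coprime hAn.isSubnormal hAc
  rw [hA, sup_bot_eq] at hKA
  apply h.not_central
  intro g
  have h1 := h.hquot N hne (QuotientGroup.mk g)
  have h2 : g * x * g⁻¹ * x⁻¹ ∈ N := hKA h1
  apply h.hiso g
  have h3 : g * x * g⁻¹ = (g * x * g⁻¹ * x⁻¹) * x := by group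
  rw [h3]
  show x * _ = _ * x
  rw [← mul_assoc, hc _ h2 x]

theorem sup_zpowers_eq_top (h : MinCE p x) {N : Subgroup G} (hN : N.Normal) (hne : N ≠ ⊥) :
    N ⊔ Subgroup.zpowers x = ⊤ := by
  by_contra hH
  apply hne
  apply h.no_central_normal hN
  apply h.central_of_commute hN
  exact h.commute_of_proper (le_sup_right (a := N) (Subgroup.mem_zpowers x)) hH hN le_sup_left

theorem commutator_le (h : MinCE p x) {N : Subgroup G} (hN : N.Normal) (hne : N ≠ ⊥) :
    commutator G ≤ N :=
  hN.commutator_le_of_self_sup_commutative_eq_top (h.sup_zpowers_eq_top hN hne) inferInstance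

theorem commutator_ne_bot (h : MinCE p x) : commutator G ≠ ⊥ := by
  intro hb
  apply h.not_central
  intro g
  have h1 : ⁅g, x⁆ ∈ commutator G := Subgroup.commutator_mem_commutator (Subgroup.mem_top g) (Subgroup.mem_top x)
  rw [hb, Subgroup.mem_bot, commutatorElement_def] at h1
  calc g * x * g⁻¹ = (g * x * g⁻¹ * x⁻¹) * x := by group
    _ = x := by rw [h1, one_mul]

end MinCE

end Cfsg.Agent.Lib.Helper55
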